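import Cfsg.Agent.S0851
import Cfsg.Agent.Lib.H80.ClassMult
import Cfsg.Agent.Lib.Characters.Indicator

/-!
# Exceptional characters of an abelian TI subgroup with Frobenius normaliser and Zassenhaus' bound

`K` is abelian, TI, self-centralising, of index `e` in its normaliser, `k e + 1 = |K|`.

* `involutions_only` : `e ≥ 3`, `e + 1 < k e` style bound: if `K` has an involution `i` and two
  conjugates of `i` have product in `K` only trivially, `K` consists of `1` and involutions.
* `card_real_le` : at most `e + 1` irreducible characters of `G` are real.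
-/

set_option autoImplicit false
set_option linter.unusedSectionVars false

namespace Cfsg.Agent.Lib.Zassenhaus.AbelianChars

open scoped ComplexConjugate
open Cfsg.Agent.Lib.Characters.Basic

universe u

/-- `#{(a, b) : (a x a⁻¹)(b x b⁻¹) = g} = |H| ∑ χ(x)² conj χ(g) / χ(1)`. -/
theorem pairs_sum {H : Type u} [Group H] [Fintype H] [Fintype (Cfsg.IrrCharacter H)] (x g : H) :
    (Nat.card {p : H × H // p.1 * x * p.1⁻¹ * (p.2 * x * p.2⁻¹) = g} : ℂ) =
      (Nat.card H : ℂ) * ∑ χ : Cfsg.IrrCharacter H,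
        (χ : H → ℂ) x * (χ : H → ℂ) x * conj ((χ : H → ℂ) g) / (χ : H → ℂ) 1 := by
  classical
  have hH : (Nat.card H : ℂ) ≠ 0 := Nat.cast_ne_zero.2 Nat.card_pos.ne'
  refine mul_left_cancel₀ hH ?_
  have h1 : (Nat.card H : ℂ) * (Nat.card {p : H × H // p.1 * x * p.1⁻¹ * (p.2 * x * p.2⁻¹) = g} : ℂ) =
      ∑ a : H, ∑ b : H, ∑ χ : Cfsg.IrrCharacter H,
        (χ : H → ℂ) 1 * (χ : H → ℂ) (g⁻¹ * (a * x * a⁻¹) * (b * x * b⁻¹)) := by
    simp only [Cfsg.Agent.Lib.Characters.Complete.sum_degree_mul_apply]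
    rw [← Fintype.sum_prod_type', Finset.sum_ite, Finset.sum_const_zero, add_zero, Finset.sum_const,
      nsmul_eq_mul, Nat.card_eq_fintype_card (α := {p : H × H // _}), Fintype.card_subtype, mul_comm]
    congr 2
    refine Finset.card_bij' (fun p _ => p) (fun p _ => p) ?_ ?_ (fun _ _ => rfl) (fun _ _ => rfl)
    all_goals
      intro p hp
      simp only [Finset.mem_filter, Finset.mem_univ, true_and] at hp ⊢
      simpa [mul_assoc, inv_mul_eq_one, eq_comm] using hp
  rw [h1, Finset.sum_congr rfl fun a _ => Finset.sum_comm, Finset.sum_comm, Finset.mul_sum,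
    Finset.mul_sum]
  refine Finset.sum_congr rfl fun χ _ => ?_
  have hχ := apply_one_ne_zero χ
  simp only [← Finset.mul_sum, Cfsg.Agent.Lib.H80.ClassMult.sum_apply_mul_conj]
  rw [← Finset.sum_div, ← Finset.sum_mul, ← Finset.mul_sum,
    Cfsg.Agent.Lib.H80.ClassMult.sum_apply_mul_conj, apply_inv (isCharacter_irr χ)]
  field_simp

/-- A rational algebraic integer. -/
theorem exists_int_of_mul_eq {z : ℂ} (hz : IsIntegral ℤ z) {d : ℤ} (hd : d ≠ 0) {m : ℤ}
    (h : (d : ℂ) * z = m) : ∃ j : ℤ, z = j := by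
  have hq : z = (((m : ℚ) / (d : ℚ)) : ℚ) := by
    have : (d : ℂ) ≠ 0 := Int.cast_ne_zero.2 hd
    push_cast
    rw [eq_div_iff this, mul_comm, h]
  have hi : IsIntegral ℤ ((m : ℚ) / (d : ℚ)) := by
    rw [hq] at hz
    exact (isIntegral_algebraMap_iff (R := ℤ) (A := ℚ) (B := ℂ) (algebraMap ℚ ℂ).injective).1 hz
  obtain ⟨j, hj⟩ := (IsIntegrallyClosed.isIntegral_iff (R := ℤ) (K := ℚ)).1 hi
  exact ⟨j, by rw [hq, ← hj]; simp⟩

variable {G : Type u} [Group G] [Fintype G] (K : Subgroup G)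

/-- The normaliser. -/
abbrev nrm : Subgroup G := Subgroup.normalizer (K : Set G)

/-- Relevant characters of the normaliser. -/
abbrev RelChar : Type u :=
  {χ : Cfsg.IrrCharacter (nrm K) //
    ∃ k : nrm K, (k : G) ∈ K ∧ (χ : nrm K → ℂ) k ≠ (χ : nrm K → ℂ) 1}

/-- The exceptional data. -/
structure Exc where
  ε : ℂ
  hε : ε = 1 ∨ ε = -1
  f : RelChar K → Cfsg.IrrCharacter G
  inj : Function.Injective f
  c : ℂ
  x : ℂ
  deg : ∀ r : RelChar K, (r.1 : nrm K → ℂ) 1 = ((K.subgroupOf (nrm K)).index : ℂ)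
  count : Nat.card (RelChar K) * (K.subgroupOf (nrm K)).index + 1 = Nat.card K
  degf : ∀ r, (f r : G → ℂ) 1 = x
  val : ∀ r, ∀ u : nrm K, (u : G) ∈ K → u ≠ 1 → (f r : G → ℂ) u = ε * (r.1 : nrm K → ℂ) u + c
  other : ∀ χ : Cfsg.IrrCharacter G, (∀ r, f r ≠ χ) → ∀ a ∈ K, ∀ b ∈ K, a ≠ 1 → b ≠ 1 →
    (χ : G → ℂ) a = (χ : G → ℂ) b

variable (hTI : ∀ g : G, g ∉ nrm K → ∀ k ∈ K, g * k * g⁻¹ ∈ K → k = 1) (hlt : K < nrm K)
  (hC : ∀ k ∈ K, k ≠ 1 → Subgroup.centralizer ({k} : Set G) ≤ K)
  (hab : ∀ a ∈ K, ∀ b ∈ K, a * b = b * a)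
include hTI hlt hC hab

theorem centralizer_nrm {k : nrm K} (hk : (k : G) ∈ K) (hk1 : k ≠ 1) :
    Subgroup.centralizer ({k} : Set (nrm K)) = K.subgroupOf (nrm K) := by
  ext x
  rw [Subgroup.mem_centralizer_singleton_iff]
  exact ⟨fun h => Clifford.TICoherent.self_centralizing K hC k hk hk1 x h,
    fun h => Subtype.ext (hab x h k hk)⟩

omit hTI hlt hC hab in
theorem card_nrm_sub : Nat.card (K.subgroupOf (nrm K)) = Nat.card K :=
  Nat.card_congr (Subgroup.subgroupOfEquivOfLe Subgroup.le_normalizer).toEquiv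

theorem deg_and_count :
    (∀ r : RelChar K, (r.1 : nrm K → ℂ) 1 = ((K.subgroupOf (nrm K)).index : ℂ)) ∧
      Nat.card (RelChar K) * (K.subgroupOf (nrm K)).index + 1 = Nat.card K := by
  classical
  set K' : Subgroup (nrm K) := K.subgroupOf (nrm K) with hK'
  have := Fintype.ofFinite (Cfsg.IrrCharacter (nrm K))
  have hC' := Clifford.TICoherent.self_centralizing K hC
  set s := Finset.univ.filter
    (fun χ : Cfsg.IrrCharacter (nrm K) => Clifford.KernelChars.Rel K' (χ : nrm K → ℂ)) with hs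
  have hsc : Nat.card (RelChar K) = s.card := by
    rw [Nat.card_eq_fintype_card, Fintype.card_subtype]
    congr 1
    ext χ
    simp [s, Clifford.KernelChars.Rel, K', Subgroup.mem_subgroupOf]
  have hscard : (s.card : ℂ) * (K'.index : ℂ) = (Nat.card K' : ℂ) - 1 := by
    have hrow : ∀ χ ∈ s, ∑ k : K', (χ : nrm K → ℂ) k * conj ((χ : nrm K → ℂ) k) =
        Nat.card (nrm K) := by
      intro χ hχ
      have hv : ∀ {x}, x ∉ K' → (χ : nrm K → ℂ) x = 0 := fun hx =>
        Clifford.KernelChars.vanish K' hC' χ (Finset.mem_filter.mp hχ).2 hx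
      have h := classInner_self_irr χ
      rw [Cfsg.classInner, inv_mul_eq_one₀ Induced.Basic.natCard_ne_zero] at h
      rw [h, ← Finset.sum_filter_of_ne (p := fun x => x ∈ K') (fun x _ hx => by
        by_contra hn
        exact hx (by rw [hv hn, zero_mul]))]
      exact (Finset.sum_subtype (Finset.univ.filter (· ∈ K')) (by simp)
        (fun x => (χ : nrm K → ℂ) x * conj ((χ : nrm K → ℂ) x))).symm
    have htot := Finset.sum_congr rfl hrow
    rw [Finset.sum_comm, Finset.sum_const, nsmul_eq_mul,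
      ← Finset.add_sum_erase _ _ (Finset.mem_univ (1 : K')),
      Finset.sum_congr rfl (fun χ _ => by
        show _ = (χ : nrm K → ℂ) 1 ^ 2
        rw [OneMemClass.coe_one, conj_apply_one (isCharacter_irr χ), sq]),
      Clifford.KernelChars.sum_rel_sq K',
      Finset.sum_congr rfl (fun k hk => by
        rw [Clifford.KernelChars.sum_rel_norm K' k.2,
          centralizer_nrm K hTI hlt hC hab k.2
            (fun e => Finset.ne_of_mem_erase hk (Subtype.ext e))]),
      Finset.sum_const, nsmul_eq_mul, Finset.card_erase_of_mem (Finset.mem_univ _),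
      Finset.card_univ, ← Nat.card_eq_fintype_card, Nat.cast_sub Nat.card_pos, Nat.cast_one,
      ← K'.card_mul_index, Nat.cast_mul] at htot
    refine mul_left_cancel₀ (Induced.Basic.natCard_ne_zero (G := K')) ?_
    linear_combination -htot
  refine ⟨fun r => ?_, ?_⟩
  · choose d hd hdvd using fun χ : Cfsg.IrrCharacter (nrm K) =>
      Clifford.Ito.degree_dvd_index K' (fun a ha b hb => Subtype.ext (hab a ha b hb)) χ
    have hle : ∀ χ ∈ s, d χ ^ 2 ≤ K'.index ^ 2 := fun χ _ => Nat.pow_le_pow_left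
      (Nat.le_of_dvd (Nat.pos_of_ne_zero Subgroup.index_ne_zero_of_finite) (hdvd χ)) 2
    have hsum : ∑ χ ∈ s, d χ ^ 2 = ∑ χ ∈ s, K'.index ^ 2 := by
      have h := Clifford.KernelChars.sum_rel_sq K'
      simp only [hd] at h
      rw [← hscard] at h
      apply Nat.cast_injective (R := ℂ)
      rw [Finset.sum_const, smul_eq_mul, Nat.cast_sum]
      push_cast
      linear_combination h
    rw [hd, Nat.pow_left_injective two_ne_zero ((Finset.sum_eq_sum_iff_of_le hle).mp hsum r.1
      (Finset.mem_filter.mpr ⟨Finset.mem_univ _, r.2⟩))]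
  · rw [hsc, ← card_nrm_sub K]
    have h : ((s.card * K'.index + 1 : ℕ) : ℂ) = (Nat.card K' : ℕ) := by
      push_cast; rw [hscard]; ring
    exact_mod_cast h

theorem exists_exc (hbig : (K.subgroupOf (nrm K)).index + 1 < Nat.card K) : Nonempty (Exc K) := by
  classical
  obtain ⟨hdeg, hcount⟩ := deg_and_count K hTI hlt hC hab
  rcases Cfsg.Agent.S0851.result K hTI hlt hC hab with ⟨-, p, -, -, hp⟩ | ⟨ε, f, hε, hinj, hind⟩
  · have hbig' : (K.subgroupOf (Subgroup.normalizer (K : Set G))).index + 1 < Nat.card K := hbig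
    omega
  have := Fintype.ofFinite (Cfsg.IrrCharacter G)
  have hε2 : ε * ε = 1 := by rcases hε with rfl | rfl <;> norm_num
  have hεc : conj ε = ε := by rcases hε with rfl | rfl <;> simp
  have hε0 : ε ≠ 0 := fun h => by rw [h] at hε2; simp at hε2
  have hC' := Clifford.TICoherent.self_centralizing K hC
  have hdiffcf : ∀ r s : RelChar K, Cfsg.IsClassFunction (nrm K)
      ((r.1 : nrm K → ℂ) - (s.1 : nrm K → ℂ)) := fun r s =>
    Characters.Complete.classFun_sub (isClassFunction_irr r.1) (isClassFunction_irr s.1)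
  have hres : ∀ r s : RelChar K, ∀ u : nrm K, (r.1 : nrm K → ℂ) u - (s.1 : nrm K → ℂ) u =
      ε * ((f r : G → ℂ) u - (f s : G → ℂ) u) := by
    intro r s u
    have h := Clifford.TISubgroup.indFun_restrict K hC hTI _ (hdiffcf r s) (fun x hx => by
      rw [Pi.sub_apply, Clifford.KernelChars.vanish _ hC' r.1 r.2 hx,
        Clifford.KernelChars.vanish _ hC' s.1 s.2 hx, sub_zero]) (by
      rw [Pi.sub_apply, hdeg, hdeg, sub_self]) u
    rw [hind r s] at h
    exact h.symm
  have hmain : ∀ (ψ : G → ℂ), Cfsg.IsClassFunction G ψ → ∀ r s : RelChar K,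
      Cfsg.classInner ((r.1 : nrm K → ℂ) - (s.1 : nrm K → ℂ)) (fun y : nrm K => ψ y) =
        ε * (Cfsg.classInner (f r : G → ℂ) ψ - Cfsg.classInner (f s : G → ℂ) ψ) := by
    intro ψ hψ r s
    rw [← Induced.Basic.frobenius_reciprocity _ _ hψ, hind r s,
      Induced.Basic.classInner_smul_left, Induced.Basic.classInner_sub_left]
  -- constants
  have hconst : ∀ χ : Cfsg.IrrCharacter G, ∀ D : nrm K → ℂ, Cfsg.IsClassFunction (nrm K) D →
      (∀ r s : RelChar K, Cfsg.classInner ((r.1 : nrm K → ℂ) - (s.1 : nrm K → ℂ)) D = 0) →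
      ∃ b : ℂ, ∀ u : nrm K, (u : G) ∈ K → u ≠ 1 → D u = b := by
    intro χ D hD h0
    refine Clifford.KernelChars.eq_const (K.subgroupOf (nrm K)) hD fun μ ν hμ hν => ?_
    rw [hdeg ⟨μ, hμ⟩, hdeg ⟨ν, hν⟩, ← smul_sub, Induced.Basic.classInner_smul_left,
      h0 ⟨μ, hμ⟩ ⟨ν, hν⟩, mul_zero]
  have hrestr : ∀ χ : Cfsg.IrrCharacter G,
      Cfsg.IsClassFunction (nrm K) (fun y : nrm K => (χ : G → ℂ) y) := fun χ x y =>
    isClassFunction_irr χ (x : G) (y : G)
  obtain ⟨r₀⟩ : Nonempty (RelChar K) := by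
    refine (Nat.card_pos_iff.1 ?_).1
    by_contra h0
    rw [Nat.eq_zero_of_not_pos h0] at hcount
    omega
  have hvals : ∀ r : RelChar K, ∃ b : ℂ, ∀ u : nrm K, (u : G) ∈ K → u ≠ 1 →
      (f r : G → ℂ) u - ε * (r.1 : nrm K → ℂ) u = b := by
    intro r
    refine hconst (f r) ((fun y : nrm K => (f r : G → ℂ) y) - ε • (r.1 : nrm K → ℂ))
      (Characters.Complete.classFun_sub (hrestr (f r))
        (Characters.Complete.classFun_smul ε (isClassFunction_irr r.1))) fun μ ν => ?_
    rw [Induced.Basic.classInner_sub_right, Induced.Basic.classInner_smul_right,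
      hmain _ (isClassFunction_irr (f r)), Induced.Basic.classInner_sub_left, classInner_irr,
      classInner_irr, classInner_irr, classInner_irr, hεc]
    simp only [hinj.eq_iff, Subtype.ext_iff]
    ring
  choose b hb using hvals
  refine ⟨{ ε := ε, hε := hε, f := f, inj := hinj, c := b r₀, x := (f r₀ : G → ℂ) 1,
            deg := hdeg, count := hcount, degf := fun r => ?_, val := fun r u hu hu1 => ?_,
            other := fun χ hχ => ?_ }⟩
  · have h := hres r r₀ 1
    rw [hdeg, hdeg, sub_self] at h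
    exact sub_eq_zero.1 ((mul_eq_zero.1 h.symm).resolve_left hε0)
  · have h1 := hb r u hu hu1
    have h2 := hb r₀ u hu hu1
    have h3 := hres r r₀ u
    linear_combination h2 - ε * h3 - ((f r : G → ℂ) u - (f r₀ : G → ℂ) u) * hε2
  · obtain ⟨z, hz⟩ := hconst χ _ (hrestr χ) fun μ ν => by
      rw [hmain _ (isClassFunction_irr χ), classInner_irr, classInner_irr, if_neg (hχ μ),
        if_neg (hχ ν)]
      ring
    intro a ha b' hb' ha1 hb1
    rw [hz ⟨a, Subgroup.le_normalizer ha⟩ ha (fun h => ha1 (congrArg Subtype.val h)),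
      ← hz ⟨b', Subgroup.le_normalizer hb'⟩ hb' (fun h => hb1 (congrArg Subtype.val h))]

/-- The column sums over the relevant characters. -/
theorem rel_columns [Fintype (RelChar K)] {g : nrm K} (hg : (g : G) ∈ K) (hg1 : g ≠ 1) :
    (∑ r : RelChar K, (r.1 : nrm K → ℂ) g = -1) ∧
      ∑ r : RelChar K, (r.1 : nrm K → ℂ) g * conj ((r.1 : nrm K → ℂ) g) =
        (Nat.card K : ℂ) - ((K.subgroupOf (nrm K)).index : ℂ) := by
  classical
  have := Fintype.ofFinite (Cfsg.IrrCharacter (nrm K))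
  set K' : Subgroup (nrm K) := K.subgroupOf (nrm K)
  have hsum : ∀ F : Cfsg.IrrCharacter (nrm K) → ℂ, ∑ r : RelChar K, F r.1 =
      ∑ χ ∈ Finset.univ.filter
        (fun χ : Cfsg.IrrCharacter (nrm K) => Clifford.KernelChars.Rel K' (χ : nrm K → ℂ)), F χ :=
    fun F => (Finset.sum_subtype (Finset.univ.filter
      (fun χ : Cfsg.IrrCharacter (nrm K) => Clifford.KernelChars.Rel K' (χ : nrm K → ℂ)))
      (fun χ => by simp [Clifford.KernelChars.Rel, K', Subgroup.mem_subgroupOf]) F).symm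
  constructor
  · have h := Characters.Complete.sum_degree_mul_apply g
    rw [if_neg hg1, ← Finset.sum_filter_add_sum_filter_not Finset.univ
      (fun χ : Cfsg.IrrCharacter (nrm K) => Clifford.KernelChars.Rel K' (χ : nrm K → ℂ)),
      Clifford.KernelChars.sum_not_rel K' hg, ← hsum (fun χ => (χ : nrm K → ℂ) 1 * (χ : nrm K → ℂ) g),
      Finset.sum_congr rfl fun r _ => by rw [(deg_and_count K hTI hlt hC hab).1 r],
      ← Finset.mul_sum] at h
    refine mul_left_cancel₀ (Clifford.KernelChars.index_ne_zero K') ?_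
    linear_combination h
  · rw [hsum (fun χ => (χ : nrm K → ℂ) g * conj ((χ : nrm K → ℂ) g)),
      Clifford.KernelChars.sum_rel_norm K' hg, centralizer_nrm K hTI hlt hC hab hg hg1,
      card_nrm_sub]

/-- The norm of the exceptional part of a column. -/
theorem exc_column [Fintype (RelChar K)] (E : Exc K) {g : nrm K} (hg : (g : G) ∈ K) (hg1 : g ≠ 1) :
    ∑ r : RelChar K, Complex.normSq ((E.f r : G → ℂ) g) =
      (Nat.card K : ℝ) - ((K.subgroupOf (nrm K)).index : ℝ) - 2 * (E.ε * E.c).re +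
        (Nat.card (RelChar K) : ℝ) * Complex.normSq (E.ε * E.c) := by
  obtain ⟨h1, h2⟩ := rel_columns K hTI hlt hC hab hg hg1
  have hεn : Complex.normSq E.ε = 1 := by rcases E.hε with h | h <;> simp [h]
  have hval : ∀ r : RelChar K, Complex.normSq ((E.f r : G → ℂ) g) =
      Complex.normSq ((r.1 : nrm K → ℂ) g) +
        2 * ((r.1 : nrm K → ℂ) g * conj (E.ε * E.c)).re + Complex.normSq (E.ε * E.c) := by
    intro r
    rw [E.val r g hg hg1, show E.ε * (r.1 : nrm K → ℂ) g + E.c =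
      E.ε * ((r.1 : nrm K → ℂ) g + E.ε * E.c) by
        rcases E.hε with h | h <;> rw [h] <;> ring, map_mul, hεn, one_mul, Complex.normSq_add]
    ring
  have h2' : ∑ r : RelChar K, Complex.normSq ((r.1 : nrm K → ℂ) g) =
      (Nat.card K : ℝ) - ((K.subgroupOf (nrm K)).index : ℝ) := by
    apply Complex.ofReal_injective
    push_cast
    rw [← h2]
    simp [Complex.mul_conj]
  rw [Finset.sum_congr rfl fun r _ => hval r, Finset.sum_add_distrib, Finset.sum_add_distrib, h2',
    ← Finset.mul_sum, ← Complex.re_sum, ← Finset.sum_mul, h1, Finset.sum_const, Finset.card_univ,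
    nsmul_eq_mul, ← Nat.card_eq_fintype_card]
  simp only [neg_mul, one_mul, Complex.neg_re, Complex.conj_re]
  ring

/-- A column of an element of `K`. -/
theorem column_eq [Fintype (Cfsg.IrrCharacter G)] {g : G} (hg : g ∈ K) (hg1 : g ≠ 1) :
    ∑ χ : Cfsg.IrrCharacter G, Complex.normSq ((χ : G → ℂ) g) = (Nat.card K : ℝ) := by
  apply Complex.ofReal_injective
  push_cast
  have h := Characters.Complete.sum_irr_mul_conj g g
  rw [if_pos (IsConj.refl g)] at h
  have hc : Subgroup.centralizer ({g} : Set G) = K := le_antisymm (hC g hg hg1) fun x hx =>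
    Subgroup.mem_centralizer_singleton_iff.2 (hab x hx g hg)
  rw [hc] at h
  rw [← h]
  exact Finset.sum_congr rfl fun χ _ => (Complex.mul_conj _).symm

set_option maxHeartbeats 1600000 in
/-- An involution in `K` whose conjugates multiply into `K` only inside `K`: for `e ≥ 3` and
`(e + 1)² ≤ |K|` this is impossible unless every element of `K` squares to `1`. -/
theorem involutions_only {i : G} (hiK : i ∈ K) (hi : orderOf i = 2)
    (he : 3 ≤ (K.subgroupOf (nrm K)).index)
    (hK : ((K.subgroupOf (nrm K)).index + 1) ^ 2 ≤ Nat.card K)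
    (hG : (K.subgroupOf (nrm K)).index * Nat.card K ^ 2 ≤ Nat.card G)
    (hclass : Nat.card {v : G // v ∈ K ∧ v * v = 1 ∧ v ≠ 1} = (K.subgroupOf (nrm K)).index)
    (hconj : ∀ v ∈ K, v * v = 1 → v ≠ 1 → ∃ g : nrm K, (g : G) * i * (g : G)⁻¹ = v)
    (hprod : ∀ a b : G, a * i * a⁻¹ * (b * i * b⁻¹) ∈ K → a * i * a⁻¹ * (b * i * b⁻¹) ≠ 1 →
      a * i * a⁻¹ ∈ K ∧ b * i * b⁻¹ ∈ K) : ∀ u ∈ K, u * u = 1 := by
  classical
  set e := (K.subgroupOf (nrm K)).index with hedef
  intro u hu
  by_contra huu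
  have hu1 : u ≠ 1 := fun h => huu (by rw [h, one_mul])
  have hii : i * i = 1 := by rw [← pow_two, ← hi, pow_orderOf_eq_one]
  have hi1 : i ≠ 1 := fun h => by rw [h, orderOf_one] at hi; omega
  have hiinv : i⁻¹ = i := inv_eq_of_mul_eq_one_right hii
  obtain ⟨E⟩ := exists_exc K hTI hlt hC hab (by nlinarith)
  have := Fintype.ofFinite (RelChar K)
  have := Fintype.ofFinite (Cfsg.IrrCharacter G)
  have := Fintype.ofFinite (Cfsg.IrrCharacter (nrm K))
  set m := Nat.card K with hm
  let iN : nrm K := ⟨i, Subgroup.le_normalizer hiK⟩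
  let uN : nrm K := ⟨u, Subgroup.le_normalizer hu⟩
  have hiN1 : iN ≠ 1 := fun h => hi1 (congrArg Subtype.val h)
  have huN1 : uN ≠ 1 := fun h => hu1 (congrArg Subtype.val h)
  -- the pair counts, uniformly in `H = G` and `H = N`
  have hcount : ∀ (H : Type u) [Group H] [Fintype H] [Fintype (Cfsg.IrrCharacter H)] (φ : H →* G),
      Function.Injective φ → (∀ v ∈ K, v * v = 1 → v ≠ 1 → ∃ g : H, φ g * i * (φ g)⁻¹ = v) →
      ∀ (iH uH : H), φ iH = i → φ uH = u →
      Nat.card (Subgroup.centralizer ({iH} : Set H)) = m →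
      (Nat.card H : ℂ) * ∑ χ : Cfsg.IrrCharacter H, (χ : H → ℂ) iH * (χ : H → ℂ) iH *
          (conj ((χ : H → ℂ) uH) - conj ((χ : H → ℂ) iH)) / (χ : H → ℂ) 1 =
        -((m : ℂ) ^ 2 * ((e : ℂ) - 1)) := by
    intro H _ _ _ φ hφ hex iH uH hiH huH hcen
    simp only [mul_sub, sub_div, Finset.sum_sub_distrib]
    rw [← pairs_sum, ← pairs_sum]
    have hzero : IsEmpty {p : H × H // p.1 * iH * p.1⁻¹ * (p.2 * iH * p.2⁻¹) = uH} := by
      refine ⟨fun p => huu ?_⟩
      have h := congrArg φ p.2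
      simp only [map_mul, map_inv, hiH, huH] at h
      obtain ⟨h1, h2⟩ := hprod _ _ (by rw [h]; exact hu) (by rw [h]; exact hu1)
      have hsq : ∀ a : G, a * i * a⁻¹ * (a * i * a⁻¹) = 1 := fun a => by
        calc a * i * a⁻¹ * (a * i * a⁻¹) = a * (i * i) * a⁻¹ := by group
          _ = 1 := by rw [hii, mul_one, mul_inv_cancel]
      rw [← h]
      generalize hX : φ p.1.1 * i * (φ p.1.1)⁻¹ = X at h1
      generalize hY : φ p.1.2 * i * (φ p.1.2)⁻¹ = Y at h2
      calc X * Y * (X * Y) = X * (Y * X) * Y := by group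
        _ = X * (X * Y) * Y := by rw [hab _ h2 _ h1]
        _ = (X * X) * (Y * Y) := by group
        _ = 1 := by rw [← hX, ← hY, hsq, hsq, one_mul]
    rw [Nat.card_of_isEmpty, Nat.cast_zero, zero_sub, neg_inj]
    -- pairs with product `i`
    let V := {v : G // v ∈ K ∧ v * v = 1 ∧ v ≠ 1 ∧ v ≠ i}
    have hV : Nat.card V + 1 = e := by
      rw [← hclass, Nat.card_eq_fintype_card, Nat.card_eq_fintype_card, Fintype.card_subtype,
        Fintype.card_subtype]
      have heq : Finset.univ.filter (fun v : G => v ∈ K ∧ v * v = 1 ∧ v ≠ 1 ∧ v ≠ i) =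
          (Finset.univ.filter fun v : G => v ∈ K ∧ v * v = 1 ∧ v ≠ 1).erase i := by
        ext v; simp; tauto
      rw [heq, Finset.card_erase_add_one]
      simp [hiK, hii, hi1]
    have hfib : ∀ v : G, v ∈ K → v * v = 1 → v ≠ 1 →
        Nat.card {a : H // φ a * i * (φ a)⁻¹ = v} = m := by
      intro v hv hvv hv1
      obtain ⟨g, hg⟩ := hex v hv hvv hv1
      rw [← hcen]
      refine Nat.card_congr (Equiv.subtypeEquiv (Equiv.mulLeft g⁻¹) fun a => ?_)
      rw [Subgroup.mem_centralizer_singleton_iff, show Equiv.mulLeft g⁻¹ a = g⁻¹ * a from rfl, ← hg]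
      constructor
      · intro h
        apply hφ
        simp only [map_mul, map_inv, hiH]
        calc (φ g)⁻¹ * φ a * i = (φ g)⁻¹ * (φ a * i * (φ a)⁻¹) * φ a := by group
          _ = i * ((φ g)⁻¹ * φ a) := by rw [h]; group
      · intro h
        have h' := congrArg φ h
        simp only [map_mul, map_inv, hiH] at h'
        calc φ a * i * (φ a)⁻¹ = φ g * ((φ g)⁻¹ * φ a * i) * (φ a)⁻¹ := by group
          _ = φ g * i * (φ g)⁻¹ := by rw [h']; group
    let T := {p : H × H // p.1 * iH * p.1⁻¹ * (p.2 * iH * p.2⁻¹) = iH}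
    have hT : ∀ p : T, φ p.1.1 * i * (φ p.1.1)⁻¹ ∈ K ∧
        φ p.1.2 * i * (φ p.1.2)⁻¹ = φ p.1.1 * i * (φ p.1.1)⁻¹ * i := by
      intro p
      have h := congrArg φ p.2
      simp only [map_mul, map_inv, hiH] at h
      refine ⟨(hprod _ _ (by rw [h]; exact hiK) (by rw [h]; exact hi1)).1, ?_⟩
      conv_rhs => arg 2; rw [← h]
      rw [← mul_assoc, show φ p.1.1 * i * (φ p.1.1)⁻¹ * (φ p.1.1 * i * (φ p.1.1)⁻¹) =
        φ p.1.1 * (i * i) * (φ p.1.1)⁻¹ by group, hii, mul_one, mul_inv_cancel, one_mul]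
    have hmem : ∀ p : T, φ p.1.1 * i * (φ p.1.1)⁻¹ * (φ p.1.1 * i * (φ p.1.1)⁻¹) = 1 ∧
        φ p.1.1 * i * (φ p.1.1)⁻¹ ≠ 1 ∧ φ p.1.1 * i * (φ p.1.1)⁻¹ ≠ i := by
      intro p
      refine ⟨?_, fun h => hi1 ?_, fun h => hi1 ?_⟩
      · calc _ = φ p.1.1 * (i * i) * (φ p.1.1)⁻¹ := by group
          _ = 1 := by rw [hii, mul_one, mul_inv_cancel]
      · rwa [mul_inv_eq_one, mul_eq_left] at h
      · have h2 := (hT p).2
        rw [h, hii, mul_inv_eq_one, mul_eq_left] at h2
        exact h2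
    let e1 : T ≃ Σ v : V, {a : H // φ a * i * (φ a)⁻¹ = v.1} × {b : H // φ b * i * (φ b)⁻¹ = v.1 * i} :=
      { toFun := fun p => ⟨⟨_, (hT p).1, hmem p⟩, ⟨p.1.1, rfl⟩, ⟨p.1.2, (hT p).2⟩⟩
        invFun := fun q => ⟨(q.2.1.1, q.2.2.1), hφ (by
          simp only [map_mul, map_inv, hiH]
          rw [q.2.1.2, q.2.2.2, ← mul_assoc, q.1.2.2.1, one_mul])⟩
        left_inv := fun p => rfl
        right_inv := fun q => by
          obtain ⟨⟨v, hv⟩, ⟨a, ha⟩, ⟨b, hb⟩⟩ := q
          simp only at ha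
          subst ha
          rfl }
    have := Fintype.ofFinite V
    rw [Nat.card_congr e1, Nat.card_sigma, Finset.sum_congr rfl fun v _ => by
      rw [Nat.card_prod, hfib v.1 v.2.1 v.2.2.1 v.2.2.2.1, hfib (v.1 * i) (mul_mem v.2.1 hiK)
        (by rw [mul_assoc, ← mul_assoc i, hab i hiK v.1 v.2.1, mul_assoc v.1, hii, mul_one, v.2.2.1])
        (fun h => v.2.2.2.2 (by rw [eq_inv_of_mul_eq_one_left h, hiinv]))],
      Finset.sum_const, Finset.card_univ, ← Nat.card_eq_fintype_card, smul_eq_mul]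
    have : (Nat.card V : ℂ) = (e : ℂ) - 1 := by rw [← hV]; push_cast; ring
    push_cast
    rw [this]
    ring
  have hcenG : Subgroup.centralizer ({i} : Set G) = K := le_antisymm (hC i hiK hi1) fun x hx =>
    Subgroup.mem_centralizer_singleton_iff.2 (hab x hx i hiK)
  have hGsum := hcount G (MonoidHom.id G) Function.injective_id
    (fun v hv hvv hv1 => (hconj v hv hvv hv1).imp' Subtype.val fun g hg => hg) i u rfl rfl
    (by rw [hcenG])
  have hNsum := hcount (nrm K) (nrm K).subtype Subtype.val_injective hconj iN uN rfl rfl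
    (by rw [centralizer_nrm K hTI hlt hC hab (show (iN : G) ∈ K from hiK) hiN1, card_nrm_sub])
  -- only relevant / exceptional characters contribute
  have hne : ¬ IsConj iN uN := fun h => by
    obtain ⟨g, hg⟩ := isConj_iff.1 h
    apply huu
    have e1 : u = (g : G) * i * (g : G)⁻¹ := (congrArg Subtype.val hg).symm
    rw [e1]
    calc (g : G) * i * (g : G)⁻¹ * ((g : G) * i * (g : G)⁻¹) = (g : G) * (i * i) * (g : G)⁻¹ := by group
      _ = 1 := by rw [hii, mul_one, mul_inv_cancel]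
  let Δ : RelChar K → ℂ := fun r => conj ((r.1 : nrm K → ℂ) uN) - conj ((r.1 : nrm K → ℂ) iN)
  set th : RelChar K → ℂ := fun r => (r.1 : nrm K → ℂ) iN with hth
  have hrel : ∀ F : Cfsg.IrrCharacter (nrm K) → ℂ,
      (∀ χ : Cfsg.IrrCharacter (nrm K),
        (χ : nrm K → ℂ) uN = (χ : nrm K → ℂ) iN → F χ = 0) →
      ∑ χ, F χ = ∑ r : RelChar K, F r.1 := by
    intro F hF
    rw [← Finset.sum_subset (s₁ := Finset.univ.image (fun r : RelChar K => r.1))
      (Finset.subset_univ _) (fun χ _ hχ => hF χ ?_), Finset.sum_image (by simp)]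
    have hnot : ∀ k : nrm K, (k : G) ∈ K → (χ : nrm K → ℂ) k = (χ : nrm K → ℂ) 1 := fun k hk => by
      by_contra h
      exact hχ (Finset.mem_image.2 ⟨⟨χ, k, hk, h⟩, Finset.mem_univ _, rfl⟩)
    rw [hnot uN hu, hnot iN hiK]
  have D1 : ∑ r, Δ r = 0 := by
    have a1 := (rel_columns K hTI hlt hC hab (show (uN : G) ∈ K from hu) huN1).1
    have a2 := (rel_columns K hTI hlt hC hab (show (iN : G) ∈ K from hiK) hiN1).1
    simp only [Δ, Finset.sum_sub_distrib, ← map_sum, a1, a2, sub_self]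
  have D2 : ∑ r, th r * Δ r = -(m : ℂ) := by
    have h := Characters.Complete.sum_irr_mul_conj iN uN
    have h' := Characters.Complete.sum_irr_mul_conj iN iN
    rw [if_neg hne] at h
    rw [if_pos (IsConj.refl _),
      centralizer_nrm K hTI hlt hC hab (show (iN : G) ∈ K from hiK) hiN1, card_nrm_sub] at h'
    rw [← hrel (fun χ => (χ : nrm K → ℂ) iN * (conj ((χ : nrm K → ℂ) uN) - conj ((χ : nrm K → ℂ) iN)))
      (fun χ h => by rw [h, sub_self, mul_zero]), Finset.sum_congr rfl fun χ _ => mul_sub _ _ _,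
      Finset.sum_sub_distrib, h, h', zero_sub]
  have he0 : (e : ℂ) ≠ 0 := Nat.cast_ne_zero.2 (by omega)
  have hm0 : 0 < m := Nat.card_pos
  have hmC : (m : ℂ) ≠ 0 := Nat.cast_ne_zero.2 hm0.ne'
  have hNcard : (Nat.card (nrm K) : ℂ) = (m : ℂ) * (e : ℂ) := by
    rw [← (K.subgroupOf (nrm K)).card_mul_index, card_nrm_sub, Nat.cast_mul]
  have D3 : ∑ r, th r * th r * Δ r = -((m : ℂ) * ((e : ℂ) - 1)) := by
    rw [hrel _ (fun χ h => by rw [h, sub_self, mul_zero, zero_div]),
      Finset.sum_congr rfl (g := fun r => th r * th r * Δ r / (e : ℂ)) fun r _ => by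
        rw [E.deg r], ← Finset.sum_div, hNcard] at hNsum
    field_simp at hNsum
    simp only [pow_two] at hNsum ⊢
    linear_combination hNsum
  -- the same for `G`
  have hεε : E.ε * E.ε = 1 := by rcases E.hε with h | h <;> rw [h] <;> norm_num
  have hεc : conj E.ε = E.ε := by rcases E.hε with h | h <;> rw [h] <;> simp
  have hGimg : ∑ χ : Cfsg.IrrCharacter G, (χ : G → ℂ) i * (χ : G → ℂ) i *
      (conj ((χ : G → ℂ) u) - conj ((χ : G → ℂ) i)) / (χ : G → ℂ) 1 =
      ∑ r : RelChar K, (E.ε * th r + E.c) * (E.ε * th r + E.c) * (E.ε * Δ r) / E.x := by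
    rw [← Finset.sum_subset (s₁ := Finset.univ.image E.f) (Finset.subset_univ _) (fun χ _ hχ => by
        rw [E.other χ (fun r h => hχ (Finset.mem_image.2 ⟨r, Finset.mem_univ _, h⟩)) u hu i hiK hu1 hi1,
          sub_self, mul_zero, zero_div]), Finset.sum_image (fun a _ b _ h => E.inj h)]
    refine Finset.sum_congr rfl fun r _ => ?_
    have v1 := E.val r iN hiK hiN1
    have v2 := E.val r uN hu huN1
    rw [E.degf r, show (E.f r : G → ℂ) i = _ from v1, show (E.f r : G → ℂ) u = _ from v2]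
    simp only [map_add, map_mul, hεc, th, Δ]
    ring
  rw [hGimg] at hGsum
  set A : ℂ := (e : ℂ) - 1 + 2 * (E.ε * E.c) with hA
  have hsum3 : ∑ r : RelChar K, (E.ε * th r + E.c) * (E.ε * th r + E.c) * (E.ε * Δ r) / E.x =
      -((m : ℂ) * E.ε * A) / E.x := by
    rw [← Finset.sum_div]
    congr 1
    calc ∑ r : RelChar K, (E.ε * th r + E.c) * (E.ε * th r + E.c) * (E.ε * Δ r)
        = ∑ r : RelChar K, ((E.ε * E.ε) * E.ε * (th r * th r * Δ r) +
            2 * (E.ε * E.ε) * E.c * (th r * Δ r) + E.c * E.c * E.ε * Δ r) :=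
          Finset.sum_congr rfl fun r _ => by ring
      _ = _ := by
          rw [Finset.sum_add_distrib, Finset.sum_add_distrib, ← Finset.mul_sum, ← Finset.mul_sum,
            ← Finset.mul_sum, D1, D2, D3, hA, hεε]
          linear_combination (2 * (m : ℂ) * E.c) * hεε
  rw [hsum3] at hGsum
  obtain ⟨r₀⟩ : Nonempty (RelChar K) := by
    refine (Nat.card_pos_iff.1 (Nat.pos_of_ne_zero fun h0 => ?_)).1
    have := E.count
    rw [h0] at this
    nlinarith
  have hx0 : E.x ≠ 0 := by rw [← E.degf r₀]; exact apply_one_ne_zero _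
  field_simp at hGsum
  -- norms
  obtain ⟨k, hk⟩ : ∃ k, k = Nat.card (RelChar K) := ⟨_, rfl⟩
  have hkm : (k : ℝ) * e + 1 = m := by
    rw [hk, hedef, hm]; exact_mod_cast E.count
  set t : ℂ := E.ε * E.c with ht
  have hG2 : (k : ℝ) * Complex.normSq E.x ≤ Nat.card G := by
    have hsq := Characters.Complete.finsum_degree_sq (G := G)
    rw [finsum_eq_sum_of_fintype] at hsq
    have hr : ∑ χ : Cfsg.IrrCharacter G, Complex.normSq ((χ : G → ℂ) 1) = (Nat.card G : ℝ) := by
      apply Complex.ofReal_injective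
      push_cast
      rw [← hsq]
      refine Finset.sum_congr rfl fun χ _ => ?_
      rw [← Complex.mul_conj, conj_apply_one (isCharacter_irr χ), pow_two]
    rw [← hr, hk, Nat.card_eq_fintype_card, ← Finset.card_univ, ← nsmul_eq_mul, ← Finset.sum_const,
      Finset.sum_congr rfl fun r _ => by rw [← E.degf r]]
    rw [← Finset.sum_image (f := fun χ : Cfsg.IrrCharacter G => Complex.normSq ((χ : G → ℂ) 1))
      (fun a _ b _ h => E.inj h)]
    exact Finset.sum_le_sum_of_subset_of_nonneg (Finset.subset_univ _) fun _ _ _ =>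
      Complex.normSq_nonneg _
  have hcol : (m : ℝ) - e - 2 * t.re + k * Complex.normSq t ≤ m := by
    have h := exc_column K hTI hlt hC hab E (show (iN : G) ∈ K from hiK) hiN1
    have h' := column_eq K hTI hlt hC hab hiK hi1
    rw [hk, ht, hedef, hm, ← h]
    conv_rhs => rw [← h']
    rw [← Finset.sum_image (f := fun χ : Cfsg.IrrCharacter G => Complex.normSq ((χ : G → ℂ) i))
      (fun a _ b _ h => E.inj h)]
    exact Finset.sum_le_sum_of_subset_of_nonneg (Finset.subset_univ _) fun _ _ _ =>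
      Complex.normSq_nonneg _
  have hgs : (Nat.card G : ℝ) ^ 2 * Complex.normSq A =
      (m : ℝ) ^ 2 * ((e : ℝ) - 1) ^ 2 * Complex.normSq E.x := by
    have h := congrArg Complex.normSq hGsum
    simp only [map_mul, map_neg, Complex.normSq_neg, Complex.normSq_natCast, map_pow] at h
    have h1 : Complex.normSq E.ε = 1 := by rcases E.hε with h | h <;> simp [h]
    have h2 : Complex.normSq ((e : ℂ) - 1) = ((e : ℝ) - 1) ^ 2 := by
      rw [show (e : ℂ) - 1 = (((e : ℝ) - 1 : ℝ) : ℂ) by push_cast; ring, Complex.normSq_ofReal]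
      ring
    rw [h1, h2] at h
    have hm' : (0 : ℝ) < m := Nat.cast_pos.2 hm0
    linear_combination h
  have heR : (3 : ℝ) ≤ e := by exact_mod_cast he
  have hKR : ((e : ℝ) + 1) ^ 2 ≤ m := by exact_mod_cast hK
  have hke : (e : ℝ) + 2 ≤ k := by nlinarith
  have hnt : t.re * t.re ≤ Complex.normSq t := by
    rw [Complex.normSq_apply]; nlinarith [mul_self_nonneg t.im]
  have hAre : ((e : ℝ) - 1) / 3 ≤ (e : ℝ) - 1 + 2 * t.re := by
    by_contra hlt'
    push Not at hlt'
    nlinarith [mul_nonneg (show (0 : ℝ) ≤ k - (e + 2) by linarith) (mul_self_nonneg t.re),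
      mul_self_nonneg (t.re + ((e : ℝ) - 1) / 3), mul_self_nonneg ((e : ℝ) - 3)]
  have hA2 : ((e : ℝ) - 1) ^ 2 / 9 ≤ Complex.normSq A := by
    have : A.re = (e : ℝ) - 1 + 2 * t.re := by simp [hA, ht]
    rw [Complex.normSq_apply, this]
    nlinarith [mul_self_nonneg A.im]
  have hGR : (e : ℝ) * (m : ℝ) ^ 2 ≤ Nat.card G := by exact_mod_cast hG
  have hGpos : (0 : ℝ) < Nat.card G := Nat.cast_pos.2 Nat.card_pos
  have hm16 : (16 : ℝ) ≤ m := by nlinarith
  have he1 : (0 : ℝ) < ((e : ℝ) - 1) ^ 2 := by nlinarith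
  have key : (k : ℝ) * Nat.card G ≤ 9 * (m : ℝ) ^ 2 := by
    refine le_of_mul_le_mul_left ?_ (mul_pos hGpos he1)
    have s1 := mul_le_mul_of_nonneg_left hG2 (show (0 : ℝ) ≤ (m : ℝ) ^ 2 * ((e : ℝ) - 1) ^ 2 by positivity)
    have s2 := mul_le_mul_of_nonneg_left hA2 (show (0 : ℝ) ≤ (k : ℝ) * (Nat.card G : ℝ) ^ 2 by positivity)
    nlinarith
  have key2 := mul_le_mul_of_nonneg_left hGR (show (0 : ℝ) ≤ (k : ℝ) by positivity)
  nlinarith

/-- At most `e + 1` irreducible characters of `G` are real, provided only one real character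
vanishes on `K` minus the identity. -/
theorem card_real_le (hbig : (K.subgroupOf (nrm K)).index + 1 < Nat.card K)
    (hodd : Odd (Nat.card (nrm K))) (S₀ : Cfsg.IrrCharacter G)
    (hzero : ∀ χ : Cfsg.IrrCharacter G, (∀ g, ((χ : G → ℂ) g).im = 0) →
      (∀ v ∈ K, v ≠ 1 → (χ : G → ℂ) v = 0) → χ = S₀) :
    Nat.card {χ : Cfsg.IrrCharacter G // ∀ g, ((χ : G → ℂ) g).im = 0} ≤
      (K.subgroupOf (nrm K)).index + 1 := by
  classical
  obtain ⟨E⟩ := exists_exc K hTI hlt hC hab hbig
  have := Fintype.ofFinite (RelChar K)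
  have := Fintype.ofFinite (Cfsg.IrrCharacter G)
  set e := (K.subgroupOf (nrm K)).index
  have he : 0 < e := Nat.pos_of_ne_zero Subgroup.index_ne_zero_of_finite
  set m := Nat.card K with hm
  obtain ⟨v, hv, hv1⟩ : ∃ v ∈ K, v ≠ (1 : G) := by
    by_contra! h
    have : K = ⊥ := (Subgroup.eq_bot_iff_forall K).2 h
    rw [this, Subgroup.card_bot] at hm
    omega
  have hvinv1 : v⁻¹ ≠ 1 := inv_ne_one.2 hv1
  -- exceptional characters are not real
  have hnreal : ∀ χ : Cfsg.IrrCharacter G, (∀ g, ((χ : G → ℂ) g).im = 0) → ∀ r, E.f r ≠ χ := by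
    intro χ hχ r hr
    subst hr
    have hreal : ∀ g : nrm K, ((r.1 : nrm K → ℂ) g).im = 0 := by
      intro g
      by_cases hg : (g : G) ∈ K
      · by_cases hg1 : g = 1
        · rw [hg1, E.deg r]; simp
        have v1 := E.val r g hg hg1
        have v2 := E.val r g⁻¹ (inv_mem hg) (inv_ne_one.2 hg1)
        rw [Subgroup.coe_inv, apply_inv (isCharacter_irr (E.f r)),
          Complex.conj_eq_iff_im.2 (hχ _), v1, apply_inv (isCharacter_irr r.1)] at v2
        refine Complex.conj_eq_iff_im.1 (mul_left_cancel₀ ?_ (add_right_cancel v2)).symm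
        rcases E.hε with h | h <;> simp [h]
      · rw [Clifford.KernelChars.vanish (K.subgroupOf (nrm K))
          (Clifford.TICoherent.self_centralizing K hC) r.1 r.2 hg]
        simp
    have h1 := Characters.Indicator.eq_oneChar_of_real hodd r.1 hreal
    obtain ⟨k, -, hk⟩ := r.2
    rw [h1] at hk
    exact hk (by rw [oneChar_apply, oneChar_apply])
  -- the constants are integers
  have hint : ∀ χ : Cfsg.IrrCharacter G, (∀ r, E.f r ≠ χ) → ∃ j : ℤ, (χ : G → ℂ) v = j := by
    intro χ hχ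
    have := Fintype.ofFinite K
    obtain ⟨n, hn⟩ := H80.ClassMult.exists_sum_subgroup χ K
    obtain ⟨d, hd⟩ := exists_degree (isCharacter_irr χ)
    rw [← Finset.add_sum_erase _ _ (Finset.mem_univ (1 : K)), OneMemClass.coe_one, hd,
      Finset.sum_congr rfl (g := fun _ : K => (χ : G → ℂ) v) fun w hw => E.other χ hχ w w.2 v hv
        (fun h => Finset.ne_of_mem_erase hw (Subtype.ext h)) hv1,
      Finset.sum_const, Finset.card_erase_of_mem (Finset.mem_univ _), Finset.card_univ,
      ← Nat.card_eq_fintype_card, nsmul_eq_mul] at hn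
    obtain ⟨N, ρ, -, hρ⟩ := exists_rep χ
    refine exists_int_of_mul_eq (hρ ▸ Characters.Diag.isIntegral_char ρ v)
      (d := ((m - 1 : ℕ) : ℤ)) (by omega) (m := (m : ℤ) * n - d) ?_
    push_cast
    linear_combination hn
  -- at most `e` other characters are non-zero at `v`
  let T := Finset.univ.filter fun χ : Cfsg.IrrCharacter G => (∀ r, E.f r ≠ χ) ∧ (χ : G → ℂ) v ≠ 0
  have hT : T.card ≤ e := by
    have h1 : (T.card : ℝ) ≤ ∑ χ ∈ T, Complex.normSq ((χ : G → ℂ) v) := by
      rw [← mul_one (T.card : ℝ), ← nsmul_eq_mul, ← Finset.sum_const]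
      refine Finset.sum_le_sum fun χ hχ => ?_
      obtain ⟨-, h, h0⟩ := Finset.mem_filter.1 hχ
      obtain ⟨j, hj⟩ := hint χ h
      rw [hj] at h0 ⊢
      rw [Complex.normSq_intCast]
      have : (1 : ℤ) ≤ j * j := by
        have : j ≠ 0 := fun e => h0 (by simp [e])
        nlinarith [Int.one_le_abs this, abs_mul_abs_self j]
      exact_mod_cast this
    have hdis : Disjoint T (Finset.univ.image E.f) := Finset.disjoint_left.2 fun χ hχ hχ' => by
      obtain ⟨r, -, hr⟩ := Finset.mem_image.1 hχ'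
      exact (Finset.mem_filter.1 hχ).2.1 r hr
    have hsum : ∑ χ ∈ T, Complex.normSq ((χ : G → ℂ) v) +
        ∑ r : RelChar K, Complex.normSq ((E.f r : G → ℂ) v) ≤ (m : ℝ) := by
      rw [← column_eq K hTI hlt hC hab hv hv1,
        ← Finset.sum_image (f := fun χ : Cfsg.IrrCharacter G => Complex.normSq ((χ : G → ℂ) v))
          (fun a _ b _ h => E.inj h), ← Finset.sum_union hdis]
      exact Finset.sum_le_sum_of_subset_of_nonneg (Finset.subset_univ _) fun _ _ _ =>
        Complex.normSq_nonneg _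
    have h3 := exc_column K hTI hlt hC hab E (g := ⟨v, Subgroup.le_normalizer hv⟩) hv
      (fun h => hv1 (congrArg Subtype.val h))
    rw [show ((⟨v, Subgroup.le_normalizer hv⟩ : nrm K) : G) = v from rfl] at h3
    rw [h3] at hsum
    have hk2 : (2 : ℝ) ≤ Nat.card (RelChar K) := by
      have h2 : 2 ≤ Nat.card (RelChar K) := by
        by_contra h2
        have := E.count
        interval_cases h0 : Nat.card (RelChar K) <;> omega
      exact_mod_cast h2
    have hn : (E.ε * E.c).re * (E.ε * E.c).re ≤ Complex.normSq (E.ε * E.c) := by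
      rw [Complex.normSq_apply]; nlinarith [mul_self_nonneg (E.ε * E.c).im]
    have hlt' : (T.card : ℝ) < (e : ℝ) + 1 := by
      nlinarith [mul_self_nonneg ((E.ε * E.c).re - 1 / 2)]
    have : T.card < e + 1 := by exact_mod_cast hlt'
    omega
  calc Nat.card {χ : Cfsg.IrrCharacter G // ∀ g, ((χ : G → ℂ) g).im = 0}
      = (Finset.univ.filter fun χ : Cfsg.IrrCharacter G => ∀ g, ((χ : G → ℂ) g).im = 0).card := by
        rw [Nat.card_eq_fintype_card, Fintype.card_subtype]
    _ ≤ (insert S₀ T).card := Finset.card_le_card fun χ hχ => by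
        have hr := (Finset.mem_filter.1 hχ).2
        rw [Finset.mem_insert]
        by_cases h0 : (χ : G → ℂ) v = 0
        · refine Or.inl (hzero χ hr fun w hw hw1 => ?_)
          rw [E.other χ (hnreal χ hr) w hw v hv hw1 hv1, h0]
        · exact Or.inr (Finset.mem_filter.2 ⟨Finset.mem_univ _, hnreal χ hr, h0⟩)
    _ ≤ e + 1 := (Finset.card_insert_le _ _).trans (by omega)

end Cfsg.Agent.Lib.Zassenhaus.AbelianChars
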