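import Cfsg.Agent.Lib.Zassenhaus.Basic
import Mathlib

/-!
# Field coordinates for a Zassenhaus group with abelian regular subgroup of a point stabiliser

If `U ≤ G_a` is abelian, normalised by `G_a` and regular on the other points, and the commutative
group `G_ab` has at least half as many elements as `U` has non-identity elements (`|U|` odd), then
`Ω = F ∪ {∞}` with `U` the translations and `G_ab` multiplications.
-/

set_option autoImplicit false

namespace Cfsg.Agent.Lib.Zassenhaus

open MulAction
open scoped OnePoint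

theorem exists_coords {G Ω : Type*} [Group G] [MulAction G Ω] [Finite Ω]
    (hZ : Cfsg.IsZassenhausGroup G Ω) {a b x₀ : Ω} (hab : a ≠ b) (h0a : x₀ ≠ a) (h0b : x₀ ≠ b)
    (U : Subgroup G) (hUa : U ≤ stabilizer G a)
    (hUn : ∀ g : G, g • a = a → ∀ u ∈ U, g * u * g⁻¹ ∈ U)
    (hUc : ∀ u ∈ U, ∀ v ∈ U, u * v = v * u)
    (hreg : ∀ x : Ω, x ≠ a → ∃! u : U, (u : G) • b = x)
    (hDc : ∀ g ∈ stabilizer G a ⊓ stabilizer G b, ∀ h ∈ stabilizer G a ⊓ stabilizer G b,
      g * h = h * g)
    (hodd : Odd (Nat.card U))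
    (hd : Nat.card U - 1 ≤ 2 * Nat.card ↥(stabilizer G a ⊓ stabilizer G b)) :
    ∃ (F : Type) (_ : Field F) (_ : Fintype F) (E : OnePoint F ≃ Ω)
      (σ : ↥(stabilizer G a ⊓ stabilizer G b) →* Fˣ),
      E ∞ = a ∧ E ((0 : F) : OnePoint F) = b ∧ E ((1 : F) : OnePoint F) = x₀ ∧
      Fintype.card F = Nat.card U ∧ Function.Injective σ ∧
      (∀ h : F, ∃ g : G, g • a = a ∧ ∀ x : F, g • E x = E ↑(x + h)) ∧
      ∀ (d : ↥(stabilizer G a ⊓ stabilizer G b)) (x : F),
        (d : G) • E x = E ↑((σ d : F) * x) := by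
  classical
  have := finite_group hZ
  set D := stabilizer G a ⊓ stabilizer G b with hD
  have : IsMulCommutative U := ⟨⟨fun u v => Subtype.ext (hUc u u.2 v v.2)⟩⟩
  let : CommGroup U := { mul_comm := fun u v => Subtype.ext (hUc u u.2 v v.2) }
  have hDa : ∀ d : D, (d : G) • a = a := fun d => (mem_pair_stabilizer.1 d.2).1
  have hDb : ∀ d : D, (d : G) • b = b := fun d => (mem_pair_stabilizer.1 d.2).2
  -- the evaluation map
  let pt : U → Ω := fun u => (u : G) • b
  have hpt : ∀ u : U, pt u ≠ a := fun u h => hab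
    (MulAction.injective (u : G) ((mem_stabilizer_iff.1 (hUa u.2)).trans h.symm))
  have hptinj : Function.Injective pt := fun u v h => (hreg (pt v) (hpt v)).unique h rfl
  -- conjugation
  let cj : D → U →* U := fun d =>
    { toFun := fun u => ⟨(d : G) * u * (d : G)⁻¹, hUn d (hDa d) u u.2⟩
      map_one' := Subtype.ext (by simp)
      map_mul' := fun u v => Subtype.ext (by simp) }
  have hcjpt : ∀ d u, pt (cj d u) = (d : G) • pt u := fun d u => by
    change ((d : G) * u * (d : G)⁻¹) • b = (d : G) • (u : G) • b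
    rw [mul_smul, mul_smul, inv_smul_eq_iff.2 (hDb d).symm]
  have hfree : ∀ d : D, ∀ u : U, u ≠ 1 → cj d u = u → d = 1 := by
    intro d u hu h
    have h1 := congrArg pt h
    rw [hcjpt] at h1
    refine Subtype.ext (eq_one_of_three hZ hab ?_ (hpt u).symm (hDa d) (hDb d) h1)
    exact fun h2 => hu (hptinj (h2.symm.trans (by simp [pt])))
  let ρ : D →* AddMonoid.End (Additive U) :=
    { toFun := fun d => MonoidHom.toAdditive (cj d)
      map_one' := AddMonoidHom.ext fun u =>
        congrArg Additive.ofMul (show cj 1 u.toMul = u.toMul from Subtype.ext (by simp [cj]))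
      map_mul' := fun d e => AddMonoidHom.ext fun u =>
        congrArg Additive.ofMul (show cj (d * e) u.toMul = cj d (cj e u.toMul) from
          Subtype.ext (by simp [cj, mul_assoc])) }
  have hρ : ∀ d (u : Additive U), ρ d u = Additive.ofMul (cj d u.toMul) := fun d u => rfl
  have hcomm : ∀ x ∈ Set.range ρ, ∀ y ∈ Set.range ρ, x * y = y * x := by
    rintro _ ⟨d, rfl⟩ _ ⟨e, rfl⟩
    rw [← map_mul, ← map_mul, show d * e = e * d from Subtype.ext (hDc d d.2 e e.2)]
  let L := Subring.closure (Set.range ρ)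
  have hLc : IsMulCommutative L := Subring.isMulCommutative_closure hcomm
  let : CommRing L := { (inferInstance : Ring L) with mul_comm := hLc.is_comm.comm }
  let ρ' : D →* L :=
    { toFun := fun d => ⟨ρ d, Subring.subset_closure (Set.mem_range_self d)⟩
      map_one' := Subtype.ext (map_one ρ)
      map_mul' := fun d e => Subtype.ext (map_mul ρ d e) }
  -- invariant subgroups are trivial
  have hirr : ∀ W : AddSubgroup (Additive U), (∀ d, ∀ u ∈ W, ρ d u ∈ W) → W ≠ ⊥ → W = ⊤ := by
    intro W hW hne
    obtain ⟨⟨u, hu⟩, hu0⟩ := (AddSubgroup.ne_bot_iff_exists_ne_zero).1 hne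
    have hu1 : u.toMul ≠ 1 := fun h => hu0 (Subtype.ext h)
    let f : D → {v : W // v ≠ 0} := fun d => ⟨⟨ρ d u, hW d u hu⟩, fun h => by
      have h1 : cj d u.toMul = 1 := congrArg (fun v : W => (v : Additive U).toMul) h
      apply hu1
      have h2 : (d : G) * (u.toMul : G) * (d : G)⁻¹ = 1 := congrArg Subtype.val h1
      exact Subtype.ext (by simpa using h2)⟩
    have hf : Function.Injective f := by
      intro d e h
      have h1 : cj d u.toMul = cj e u.toMul :=
        congrArg (fun v : {v : W // v ≠ 0} => ((v : W) : Additive U).toMul) h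
      refine (inv_mul_eq_one.1 (hfree (e⁻¹ * d) u.toMul hu1 (Subtype.ext ?_))).symm
      have h2 : (d : G) * (u.toMul : G) * (d : G)⁻¹ = (e : G) * (u.toMul : G) * (e : G)⁻¹ :=
        congrArg Subtype.val h1
      change ((e⁻¹ * d : D) : G) * (u.toMul : G) * ((e⁻¹ * d : D) : G)⁻¹ = u.toMul
      calc ((e⁻¹ * d : D) : G) * (u.toMul : G) * ((e⁻¹ * d : D) : G)⁻¹
          = (e : G)⁻¹ * ((d : G) * (u.toMul : G) * (d : G)⁻¹) * e := by simp [mul_assoc]
        _ = u.toMul := by rw [h2]; group
    have h1 := Nat.card_le_card_of_injective f hf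
    have := Fintype.ofFinite W
    rw [Nat.card_eq_fintype_card (α := {v : W // v ≠ 0}), Fintype.card_subtype_compl,
      Fintype.card_subtype_eq, ← Nat.card_eq_fintype_card] at h1
    have h2 : Nat.card W ∣ Nat.card U := W.card_addSubgroup_dvd_card
    obtain ⟨c, hc⟩ := h2
    refine AddSubgroup.eq_top_of_card_eq _ ?_
    change Nat.card W = Nat.card U
    have hc1 : c ≠ 0 := fun h => by rw [h, mul_zero] at hc; exact Nat.card_pos.ne' hc
    have hc2 : c ≠ 2 := fun h => by
      rw [h] at hc
      exact hodd.not_two_dvd_nat ⟨_, by rw [hc, mul_comm]⟩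
    by_contra hcne
    have hc3 : c ≠ 1 := fun h => hcne (by rw [hc, h, mul_one])
    have hWpos : 1 < Nat.card W := by
      have : Nontrivial W := ⟨⟨u, hu⟩, 0, hu0⟩
      exact Finite.one_lt_card
    have h4 : Nat.card W * 3 ≤ Nat.card W * c := Nat.mul_le_mul_left _ (by omega)
    omega
  -- elements of `L` commute with `ρ d`
  have hLρ : ∀ (l : L) d u, (l : AddMonoid.End (Additive U)) (ρ d u) = ρ d ((l : AddMonoid.End (Additive U)) u) := by
    intro l d u
    have h : l * ρ' d = ρ' d * l := mul_comm _ _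
    exact congrArg (fun f : AddMonoid.End (Additive U) => f u) (congrArg Subtype.val h)
  have hinj : ∀ l : L, l ≠ 0 → Function.Injective (l : AddMonoid.End (Additive U)) := by
    intro l hl
    rw [injective_iff_map_eq_zero]
    intro u hu
    by_contra hu0
    refine hl (Subtype.ext (AddMonoidHom.ext fun v => ?_))
    have htop := hirr (AddMonoidHom.ker (l : AddMonoid.End (Additive U)))
      (fun d w hw => by
        have hw' : (l : AddMonoid.End (Additive U)) w = 0 := hw
        change (l : AddMonoid.End (Additive U)) (ρ d w) = 0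
        rw [hLρ, hw', map_zero])
      (fun h => hu0 (by
        have : u ∈ AddMonoidHom.ker (l : AddMonoid.End (Additive U)) := hu
        rwa [h, AddSubgroup.mem_bot] at this))
    have : v ∈ AddMonoidHom.ker (l : AddMonoid.End (Additive U)) := by
      rw [htop]; exact AddSubgroup.mem_top v
    exact this
  obtain ⟨u₀', hu₀', -⟩ := hreg x₀ h0a
  set u₀ : Additive U := Additive.ofMul u₀'
  have hu₀ : u₀ ≠ 0 := fun h => h0b (by
    rw [← hu₀', show u₀' = 1 from h]
    simp)
  have : Finite (AddMonoid.End (Additive U)) := Finite.of_injective _ DFunLike.coe_injective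
  have : Nontrivial L := ⟨0, 1, fun h => hu₀ (by
    have := congrArg (fun l : L => (l : AddMonoid.End (Additive U)) u₀) h
    simpa using this.symm)⟩
  have : NoZeroDivisors L := ⟨fun {l m} h => by
    by_contra! hne
    refine hne.2 (Subtype.ext (AddMonoidHom.ext fun v => hinj l hne.1 ?_))
    have := congrArg (fun x : L => (x : AddMonoid.End (Additive U)) v) h
    exact this.trans (map_zero (l : AddMonoid.End (Additive U))).symm⟩
  have : IsDomain L := NoZeroDivisors.to_isDomain L
  let : Field L := (Finite.isField_of_domain L).toField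
  let ev : L →+ Additive U :=
    { toFun := fun l => (l : AddMonoid.End (Additive U)) u₀
      map_zero' := rfl
      map_add' := fun l m => rfl }
  have hev : Function.Bijective ev := by
    refine ⟨(injective_iff_map_eq_zero ev).2 fun l hl => ?_, ?_⟩
    · by_contra hne
      exact hu₀ (hinj l hne (hl.trans (map_zero (l : AddMonoid.End (Additive U))).symm))
    · rw [← AddMonoidHom.range_eq_top]
      refine hirr _ ?_ fun h => hu₀ ?_
      · rintro d _ ⟨l, rfl⟩
        exact ⟨ρ' d * l, rfl⟩
      · have h1 : ev 1 ∈ (ev.range : AddSubgroup _) := ⟨1, rfl⟩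
        rw [h, AddSubgroup.mem_bot] at h1
        exact h1
  let F := Shrink.{0} L
  let : Fintype F := Fintype.ofFinite F
  let r : F ≃+* L := (equivShrink.{0} L).symm.ringEquiv
  let toΩ : OnePoint F → Ω := fun p => p.elim a fun x => pt (ev (r x)).toMul
  have htoΩ : Function.Bijective toΩ := by
    refine ⟨fun p q h => ?_, fun x => ?_⟩
    · cases p with
      | infty =>
        cases q with
        | infty => rfl
        | coe y => exact absurd h.symm (hpt _)
      | coe x =>
        cases q with
        | infty => exact absurd h (hpt _)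
        | coe y => rw [r.injective (hev.1 (Additive.toMul.injective (hptinj h)))]
    · by_cases hx : x = a
      · exact ⟨∞, hx.symm⟩
      · obtain ⟨u, hu, -⟩ := hreg x hx
        obtain ⟨l, hl⟩ := hev.2 (Additive.ofMul u)
        exact ⟨((r.symm l : F) : OnePoint F), by simp [toΩ, pt, hl, hu]⟩
  let E := Equiv.ofBijective toΩ htoΩ
  let σ : D →* Fˣ := (Units.map (r.symm : L →+* F).toMonoidHom).comp
    { toFun := fun d => ⟨ρ' d, ρ' d⁻¹, by rw [← map_mul, mul_inv_cancel, map_one],
        by rw [← map_mul, inv_mul_cancel, map_one]⟩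
      map_one' := Units.ext (map_one ρ')
      map_mul' := fun d e => Units.ext (map_mul ρ' d e) }
  have hσ : ∀ d, r (σ d : F) = ρ' d := fun d => r.apply_symm_apply _
  refine ⟨F, inferInstance, inferInstance, E, σ, rfl, ?_, ?_, ?_, ?_, fun h => ?_, fun d x => ?_⟩
  · simp [E, toΩ, pt]
  · change pt (ev (r 1)).toMul = x₀
    rw [map_one]
    exact hu₀'
  · rw [← Nat.card_eq_fintype_card]
    exact Nat.card_congr (r.toEquiv.trans ((Equiv.ofBijective ev hev).trans Additive.toMul))
  · intro d e h
    have h1 : ρ' d = ρ' e := by rw [← hσ, ← hσ, h]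
    have h2 : ρ d u₀ = ρ e u₀ := congrArg (fun l : L => (l : AddMonoid.End (Additive U)) u₀) h1
    have hd' : cj d u₀' = cj e u₀' := congrArg Additive.toMul h2
    refine (inv_mul_eq_one.1 (hfree (e⁻¹ * d) u₀' (fun h3 => hu₀ (congrArg Additive.ofMul h3)) ?_)).symm
    refine hptinj ?_
    rw [hcjpt, Subgroup.coe_mul, Subgroup.coe_inv, mul_smul, inv_smul_eq_iff, ← hcjpt, ← hcjpt, hd']
  · refine ⟨((ev (r h)).toMul : G), mem_stabilizer_iff.1 (hUa (ev (r h)).toMul.2), fun x => ?_⟩
    change ((ev (r h)).toMul : G) • pt (ev (r x)).toMul = pt (ev (r (x + h))).toMul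
    rw [map_add, map_add, toMul_add, mul_comm (ev (r x)).toMul]
    simp [pt, mul_smul]
  · change (d : G) • pt (ev (r x)).toMul = pt (ev (r ((σ d : F) * x))).toMul
    rw [map_mul, hσ, ← hcjpt]
    rfl

end Cfsg.Agent.Lib.Zassenhaus
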