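import Mathlib
import Cfsg.Agent.Lib.Linear.Transvection
import Cfsg.Agent.Lib.Linear.Order

/-!
# Recognising `PSL₂(F)` as a permutation group of `F ∪ {∞}`

* `nonempty_iso_psl` : an injective representation on `OnePoint F` whose image has the order of
  `PSL₂(F)` and contains the translations and `x ↦ -1/x` is an isomorphism with `PSL₂(F)`.
* `swap_eq_inv` : uniqueness of the involution with two given fixed points forces `t x = 1/x`.
-/

set_option autoImplicit false

namespace Cfsg.Agent.Lib.Zassenhaus.Moebius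

open scoped MatrixGroups OnePoint
open OnePoint Matrix

variable {F : Type} [Field F] [DecidableEq F]

/-- The representation of `PSL₂(F)` on `OnePoint F`. -/
noncomputable def pslHom : ProjectiveSpecialLinearGroup (Fin 2) F →* Equiv.Perm (OnePoint F) :=
  ((equivProjectivization F).symm.permCongrHom.toMonoidHom).comp
    Projectivization.PSLAction.toPermHom

theorem pslHom_injective : Function.Injective (pslHom (F := F)) := fun a b h =>
  ProjectiveSpecialLinearGroup.toPermHom_injective (by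
    simp only [pslHom, MonoidHom.comp_apply, MulEquiv.coe_toMonoidHom] at h
    exact (MulEquiv.injective _) h)

theorem pslHom_mk (g : SpecialLinearGroup (Fin 2) F) (x : OnePoint F) :
    pslHom (QuotientGroup.mk g) x = (SpecialLinearGroup.toGL g) • x := by
  refine (equivProjectivization F).injective ?_
  rw [equivProjectivization_smul]
  simp only [pslHom, MonoidHom.comp_apply, MulEquiv.coe_toMonoidHom, Equiv.permCongrHom,
    MulEquiv.coe_mk, Equiv.permCongr_apply, Equiv.symm_symm, Equiv.apply_symm_apply]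
  induction equivProjectivization F x using Projectivization.ind with | h v hv => rfl

/-- The matrix of `x ↦ -1/x`. -/
def invMat : SpecialLinearGroup (Fin 2) F := ⟨!![0, -1; 1, 0], by simp [Matrix.det_fin_two]⟩

theorem pslHom_transvection (c : F) :
    pslHom (QuotientGroup.mk (SpecialLinearGroup.transvection (show (0 : Fin 2) ≠ 1 by decide) c)) ∞ = ∞ ∧
      ∀ x : F, pslHom (QuotientGroup.mk
        (SpecialLinearGroup.transvection (show (0 : Fin 2) ≠ 1 by decide) c)) x = ↑(x + c) := by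
  refine ⟨?_, fun x => ?_⟩
  · rw [pslHom_mk, smul_infty_eq_self_iff]
    simp [SpecialLinearGroup.transvection_coe, Matrix.single]
  · rw [pslHom_mk, smul_some_eq_ite]
    simp [SpecialLinearGroup.transvection_coe, Matrix.single]

theorem pslHom_invMat :
    pslHom (QuotientGroup.mk (invMat (F := F))) ∞ = ((0 : F) : OnePoint F) ∧
      pslHom (QuotientGroup.mk (invMat (F := F))) ((0 : F) : OnePoint F) = ∞ ∧
      ∀ x : F, x ≠ 0 → pslHom (QuotientGroup.mk (invMat (F := F))) x = ↑(-x⁻¹) := by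
  refine ⟨?_, ?_, fun x hx => ?_⟩
  · rw [pslHom_mk, smul_infty_eq_ite]; simp [invMat, SpecialLinearGroup.toGL]
  · rw [pslHom_mk, smul_some_eq_ite]; simp [invMat, SpecialLinearGroup.toGL]
  · rw [pslHom_mk, smul_some_eq_ite]
    simp [invMat, SpecialLinearGroup.toGL, hx, neg_div]

variable [Fintype F]

/-- Recognition of `PSL₂(F)`, `|F|` odd. -/
theorem nonempty_iso_psl {G : Type*} [Group G] [Finite G] (hodd : Odd (Fintype.card F))
    (π : G →* Equiv.Perm (OnePoint F)) (hπ : Function.Injective π)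
    (hcard : 2 * Nat.card G = Fintype.card F * (Fintype.card F ^ 2 - 1))
    (htr : ∀ h : F, ∃ g : G, π g ∞ = ∞ ∧ ∀ x : F, π g x = ↑(x + h))
    (hJ : ∃ g : G, π g ∞ = ((0 : F) : OnePoint F) ∧ π g ((0 : F) : OnePoint F) = ∞ ∧
      ∀ x : F, x ≠ 0 → π g x = ↑(-x⁻¹)) :
    Nonempty (G ≃* ProjectiveSpecialLinearGroup (Fin 2) F) := by
  let φ : SpecialLinearGroup (Fin 2) F →* Equiv.Perm (OnePoint F) :=
    pslHom.comp (QuotientGroup.mk' _)
  have hJ' : φ invMat ∈ π.range := by
    obtain ⟨g, h1, h2, h3⟩ := hJ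
    refine ⟨g, Equiv.ext fun x => ?_⟩
    cases x with
    | infty => exact h1.trans pslHom_invMat.1.symm
    | coe x =>
      by_cases hx : x = 0
      · subst hx; exact h2.trans pslHom_invMat.2.1.symm
      · exact (h3 x hx).trans (pslHom_invMat.2.2 x hx).symm
  have hT : ∀ c : F, φ (SpecialLinearGroup.transvection (show (0 : Fin 2) ≠ 1 by decide) c) ∈ π.range := by
    intro c
    obtain ⟨g, h1, h2⟩ := htr c
    refine ⟨g, Equiv.ext fun x => ?_⟩
    cases x with
    | infty => exact h1.trans (pslHom_transvection c).1.symm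
    | coe x => exact (h2 x).trans ((pslHom_transvection c).2 x).symm
  have htop : π.range.comap φ = ⊤ := by
    refine Cfsg.Agent.Lib.Linear.sl_eq_top_of_transvection_mem _ fun i j hij c => ?_
    rw [Subgroup.mem_comap]
    fin_cases i <;> fin_cases j
    · exact absurd rfl hij
    · exact hT c
    · have e : SpecialLinearGroup.transvection hij c =
          invMat * SpecialLinearGroup.transvection (show (0 : Fin 2) ≠ 1 by decide) (-c) * invMat⁻¹ := by
        rw [eq_mul_inv_iff_mul_eq]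
        refine Subtype.ext ?_
        change (SpecialLinearGroup.transvection hij c : Matrix (Fin 2) (Fin 2) F) * !![0, -1; 1, 0] =
          !![0, -1; 1, 0] *
            (SpecialLinearGroup.transvection (show (0 : Fin 2) ≠ 1 by decide) (-c) : Matrix (Fin 2) (Fin 2) F)
        ext k l
        fin_cases k <;> fin_cases l <;>
          simp [invMat, SpecialLinearGroup.transvection_coe, Matrix.mul_apply, Matrix.single,
            Fin.sum_univ_two]
      rw [e, map_mul, map_mul, map_inv]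
      exact mul_mem (mul_mem hJ' (hT _)) (inv_mem hJ')
    · exact absurd rfl hij
  have hle : pslHom.range ≤ π.range := by
    rintro _ ⟨q, rfl⟩
    obtain ⟨g, rfl⟩ := QuotientGroup.mk'_surjective _ q
    have : g ∈ π.range.comap φ := by rw [htop]; exact Subgroup.mem_top g
    exact this
  have hP := Cfsg.Agent.Lib.Linear.two_mul_card_PSL_two_of_odd (F := F) hodd
  have heq : (pslHom (F := F)).range = π.range := by
    refine SetLike.coe_injective (Set.eq_of_subset_of_ncard_le hle ?_ (Set.toFinite _))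
    rw [← Nat.card_coe_set_eq, ← Nat.card_coe_set_eq]
    change Nat.card π.range ≤ Nat.card (pslHom (F := F)).range
    rw [← Nat.card_congr (MonoidHom.ofInjective hπ).toEquiv,
      ← Nat.card_congr (MonoidHom.ofInjective (pslHom_injective (F := F))).toEquiv]
    have e : Fintype.card F * (Fintype.card F - 1) * (Fintype.card F + 1) =
        Fintype.card F * (Fintype.card F ^ 2 - 1) := by
      rw [mul_assoc, mul_comm (Fintype.card F - 1), ← Nat.sq_sub_sq, one_pow]
    omega
  exact ⟨(MonoidHom.ofInjective hπ).trans ((MulEquiv.subgroupCongr heq.symm).trans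
    (MonoidHom.ofInjective (pslHom_injective (F := F))).symm)⟩

theorem exists_nonsquare_succ_square (h2 : ringChar F ≠ 2) (hneg : IsSquare (-1 : F)) :
    ∃ u : F, ¬ IsSquare u ∧ IsSquare (1 + u) ∧ 1 + u ≠ 0 := by
  obtain ⟨ν, hν⟩ := FiniteField.exists_nonsquare h2
  obtain ⟨a, b, hab⟩ : ∃ a b : F, a ^ 2 + b ^ 2 = ν := by
    obtain ⟨a, b, h⟩ := FiniteField.exists_root_sum_quadratic (R := F)
      (f := (Polynomial.X : Polynomial F) ^ 2)
      (g := (Polynomial.X : Polynomial F) ^ 2 - Polynomial.C ν)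
      (Polynomial.degree_X_pow 2) (Polynomial.degree_X_pow_sub_C (by norm_num) ν)
      (Nat.odd_iff.1 (Nat.not_even_iff_odd.1 fun h => h2 (FiniteField.even_card_iff_char_two.2
        (Nat.even_iff.1 h))))
    refine ⟨a, b, ?_⟩
    simp only [Polynomial.eval_pow, Polynomial.eval_X, Polynomial.eval_sub, Polynomial.eval_C] at h
    linear_combination h
  have ha : a ≠ 0 := fun h => hν ⟨b, by rw [← hab, h]; ring⟩
  have hb : b ≠ 0 := fun h => hν ⟨a, by rw [← hab, h]; ring⟩
  obtain ⟨i, hi⟩ := hneg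
  refine ⟨-(ν / a ^ 2), ?_, ?_, ?_⟩
  · rintro ⟨r, hr⟩
    refine hν ⟨i * r * a, ?_⟩
    rw [show i * r * a * (i * r * a) = (i * i) * (r * r) * a ^ 2 by ring, ← hi, ← hr]
    field_simp
  · refine ⟨i * (b / a), ?_⟩
    rw [show i * (b / a) * (i * (b / a)) = (i * i) * (b / a) ^ 2 by ring, ← hi, ← hab]
    field_simp
    ring
  · rw [← hab]
    field_simp
    intro h
    exact hb ((by simpa using h : b = 0 ∨ a = 0).resolve_right ha)

/-- If any two points determine at most one involution fixing them, an involution `t` interchanging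
`0`, `∞`, fixing `1` and inverting the square scalings is `x ↦ 1/x`. -/
theorem swap_eq_inv {G : Type*} [Group G] (h2 : ringChar F ≠ 2) (hneg : IsSquare (-1 : F))
    (π : G →* Equiv.Perm (OnePoint F)) (hπ : Function.Injective π)
    (htr : ∀ h : F, ∃ g : G, π g ∞ = ∞ ∧ ∀ x : F, π g x = ↑(x + h))
    (hsq : ∀ s : F, s ≠ 0 → IsSquare s → ∃ g : G, π g ∞ = ∞ ∧ ∀ x : F, π g x = ↑(s * x))
    (huniq : ∀ g g' : G, g * g = 1 → g' * g' = 1 → g ≠ 1 → g' ≠ 1 → ∀ x y : OnePoint F, x ≠ y →
      π g x = x → π g y = y → π g' x = x → π g' y = y → g = g')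
    {t : G} (ht : t * t = 1) (htinf : π t ∞ = ((0 : F) : OnePoint F))
    (ht1 : π t ((1 : F) : OnePoint F) = ((1 : F) : OnePoint F))
    (hanti : ∀ s : F, s ≠ 0 → IsSquare s → ∀ x y : F, π t x = ↑y → π t ↑(s * x) = ↑(s⁻¹ * y)) :
    ∀ x : F, x ≠ 0 → π t x = ↑(x⁻¹) := by
  have htt : ∀ p, π t (π t p) = p := fun p => by
    rw [← Equiv.Perm.mul_apply, ← map_mul, ht, map_one, Equiv.Perm.one_apply]
  have ht0 : π t ((0 : F) : OnePoint F) = ∞ := by rw [← htinf, htt]
  have hex : ∀ x : F, ∃ y : F, x ≠ 0 → π t x = ↑y ∧ y ≠ 0 := by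
    intro x
    by_cases hx : x = 0
    · exact ⟨0, fun h => absurd hx h⟩
    cases h : π t x with
    | infty =>
      refine absurd ?_ hx
      have := htt x
      rw [h, htinf] at this
      exact (coe_eq_coe.1 this).symm
    | coe y =>
      refine ⟨y, fun _ => ⟨rfl, fun hy => ?_⟩⟩
      have := htt x
      rw [h, hy, ht0] at this
      exact infty_ne_coe x this
  choose T hT using hex
  have hT1 : T 1 = 1 := coe_eq_coe.1 ((hT 1 one_ne_zero).1.symm.trans ht1)
  have hTs : ∀ s x : F, s ≠ 0 → IsSquare s → x ≠ 0 → T (s * x) = s⁻¹ * T x := fun s x hs hs' hx =>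
    coe_eq_coe.1 ((hT _ (mul_ne_zero hs hx)).1.symm.trans (hanti s hs hs' x _ (hT x hx).1))
  have hTsq : ∀ s : F, s ≠ 0 → IsSquare s → T s = s⁻¹ := fun s hs hs' => by
    simpa [hT1] using hTs s 1 hs hs' one_ne_zero
  obtain ⟨ν, hν⟩ := FiniteField.exists_nonsquare h2
  have hν0 : ν ≠ 0 := fun h => hν (h ▸ IsSquare.zero)
  set c := ν * T ν with hc
  have hmul : ∀ a b : F, ¬ IsSquare a → ¬ IsSquare b → IsSquare (a * b) := by
    intro a b ha hb
    have ha0 : a ≠ 0 := fun h => ha (h ▸ IsSquare.zero)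
    have hb0 : b ≠ 0 := fun h => hb (h ▸ IsSquare.zero)
    rw [← quadraticChar_one_iff_isSquare (mul_ne_zero ha0 hb0), map_mul,
      quadraticChar_neg_one_iff_not_isSquare.2 ha, quadraticChar_neg_one_iff_not_isSquare.2 hb]
    norm_num
  have hTn : ∀ x : F, ¬ IsSquare x → T x = c * x⁻¹ := by
    intro x hx
    have hx0 : x ≠ 0 := fun h => hx (h ▸ IsSquare.zero)
    have hsq' : IsSquare (x * ν⁻¹) := hmul x ν⁻¹ hx (by simpa using hν)
    have := hTs (x * ν⁻¹) ν (mul_ne_zero hx0 (inv_ne_zero hν0)) hsq' hν0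
    rw [show x * ν⁻¹ * ν = x by field_simp] at this
    rw [this, hc, _root_.mul_inv_rev, inv_inv]
    ring
  suffices hc1 : c = 1 by
    intro x hx
    rw [(hT x hx).1]
    by_cases hs : IsSquare x
    · rw [hTsq x hx hs]
    · rw [hTn x hs, hc1, one_mul]
  have hnT : ¬ IsSquare (T ν) := by
    intro h
    have h1 := htt ν
    rw [(hT ν hν0).1, (hT _ (hT ν hν0).2).1, coe_eq_coe, hTsq _ (hT ν hν0).2 h] at h1
    exact hν (h1 ▸ h.inv)
  have hcsq : IsSquare c := hmul ν _ hν hnT
  have hc0 : c ≠ 0 := mul_ne_zero hν0 (hT ν hν0).2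
  have h20 : (2 : F) ≠ 0 := Ring.two_ne_zero h2
  have hTneg : ∀ x : F, x ≠ 0 → T (-x) = -T x := by
    intro x hx
    rw [show -x = -1 * x by ring, hTs (-1) x (neg_ne_zero.2 one_ne_zero) hneg hx, inv_neg_one]
    ring
  -- the two involutions fixing `0` and `1`
  obtain ⟨τ, hτi, hτ⟩ := htr 2
  obtain ⟨μ, hμi, hμ⟩ := hsq (-1) (neg_ne_zero.2 one_ne_zero) hneg
  obtain ⟨θ, hθi, hθ⟩ := htr 2⁻¹
  obtain ⟨θ', hθ'i, hθ'⟩ := htr (-2⁻¹)
  set δ := 2⁻¹ / T 2⁻¹ with hδ
  have hgsq : IsSquare δ ∧ δ ≠ 0 := by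
    refine ⟨?_, div_ne_zero (inv_ne_zero h20) (hT _ (inv_ne_zero h20)).2⟩
    by_cases hs : IsSquare (2⁻¹ : F)
    · rw [hδ, hTsq _ (inv_ne_zero h20) hs, div_inv_eq_mul]
      exact hs.mul hs
    · rw [hδ, hTn _ hs, show (2⁻¹ : F) / (c * 2⁻¹⁻¹) = 2⁻¹ * 2⁻¹ / c by
        field_simp]
      exact (hmul _ _ hs hs).div hcsq
  obtain ⟨m, hmi, hm⟩ := hsq δ hgsq.2 hgsq.1
  have hπ' : ∀ g g' : G, ∀ p, π (g * g') p = π g (π g' p) := fun g g' p => by
    rw [map_mul, Equiv.Perm.mul_apply]
  let r := τ * μ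
  have hr : ∀ x : F, π r x = ↑(2 - x) := fun x => by
    rw [hπ', hμ, hτ]; congr 1; ring
  have hri : π r ∞ = ∞ := by rw [hπ', hμi, hτi]
  let A := t * r * t
  let w := θ * (m * t) * θ'
  have hw : ∀ x : F, x ≠ 2⁻¹ → π w x = ↑(δ * T (x - 2⁻¹) + 2⁻¹) := fun x hx => by
    rw [hπ', hπ', hπ', hθ', ← sub_eq_add_neg, (hT _ (sub_ne_zero.2 hx)).1, hm, hθ]
  have hwi : π w ∞ = ((2⁻¹ : F) : OnePoint F) := by
    rw [hπ', hπ', hπ', hθ'i, htinf, hm, hθ, mul_zero, zero_add]
  have hinvol : ∀ g : G, (∀ p, π g (π g p) = p) → g * g = 1 := fun g h =>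
    hπ (Equiv.ext fun p => by rw [hπ', h, map_one, Equiv.Perm.one_apply])
  have hAA : A * A = 1 := by
    have h1 : r * r = 1 := hinvol r fun p => by
      cases p with
      | infty => rw [hri, hri]
      | coe x => rw [hr, hr]; congr 1; ring
    calc A * A = t * r * (t * t) * r * t := by simp only [A, mul_assoc]
      _ = t * (r * r) * t := by rw [ht]; group
      _ = 1 := by rw [h1, mul_one, ht]
  have hmt : (m * t) * (m * t) = 1 := hinvol _ fun p => by
    cases p with
    | infty => rw [hπ', hπ', htinf, hm, mul_zero, ht0, hmi]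
    | coe x =>
      by_cases hx : x = 0
      · subst hx; rw [hπ', hπ', ht0, hmi, htinf, hm, mul_zero]
      · rw [hπ', hπ', (hT x hx).1, hm, (hT _ (mul_ne_zero hgsq.2 (hT x hx).2)).1, hm,
          hTs δ _ hgsq.2 hgsq.1 (hT x hx).2]
        have h1 := htt x
        rw [(hT x hx).1, (hT _ (hT x hx).2).1, coe_eq_coe] at h1
        rw [h1, mul_inv_cancel_left₀ hgsq.2]
  have hθθ : θ' * θ = 1 := hπ (Equiv.ext fun p => by
    rw [hπ', map_one, Equiv.Perm.one_apply]
    cases p with
    | infty => rw [hθi, hθ'i]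
    | coe x => rw [hθ, hθ']; congr 1; ring)
  have hww : w * w = 1 := by
    calc w * w = θ * (m * t) * (θ' * θ) * (m * t) * θ' := by simp only [w, mul_assoc]
      _ = θ * θ' := by rw [hθθ, mul_one, mul_assoc θ, hmt, mul_one]
      _ = 1 := mul_eq_one_comm.1 hθθ
  have hA0 : π A ((0 : F) : OnePoint F) = ((0 : F) : OnePoint F) := by
    rw [hπ', hπ', ht0, hri, htinf]
  have hA1 : π A ((1 : F) : OnePoint F) = ((1 : F) : OnePoint F) := by
    rw [hπ', hπ', ht1, hr, show (2 : F) - 1 = 1 by ring, ht1]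
  have hwne : ∀ g : G, π g ∞ = ((2⁻¹ : F) : OnePoint F) → g ≠ 1 := fun g h h' => by
    rw [h', map_one, Equiv.Perm.one_apply] at h
    exact infty_ne_coe _ h
  have hA1' : A ≠ 1 := fun h => by
    have := congrArg (fun g => π g ∞) h
    simp only [A, hπ', htinf, hr, sub_zero, map_one, Equiv.Perm.one_apply, (hT 2 h20).1] at this
    exact coe_ne_infty _ this
  have hw0 : π w ((0 : F) : OnePoint F) = ((0 : F) : OnePoint F) := by
    rw [hw 0 (inv_ne_zero h20).symm, zero_sub, hTneg _ (inv_ne_zero h20), hδ]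
    congr 1
    field_simp [(hT _ (inv_ne_zero h20)).2]
    ring
  have hw1 : π w ((1 : F) : OnePoint F) = ((1 : F) : OnePoint F) := by
    have h12 : (1 : F) - 2⁻¹ = 2⁻¹ := by field_simp; ring
    rw [hw 1 (fun h => by rw [h, sub_self] at h12; exact inv_ne_zero h20 h12.symm), h12, hδ]
    congr 1
    field_simp [(hT _ (inv_ne_zero h20)).2]
    ring
  have hAw : A = w := huniq A w hAA hww hA1' (hwne w hwi) _ _
    (fun h => zero_ne_one (coe_eq_coe.1 h)) hA0 hA1 hw0 hw1
  -- evaluate at `∞`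
  have hT2 : T 2 = 2⁻¹ := by
    have h := hwi
    rw [← hAw, hπ', hπ', htinf, hr, sub_zero, (hT 2 h20).1, coe_eq_coe] at h
    exact h
  by_cases hs2 : IsSquare (2 : F)
  swap
  · rw [hTn 2 hs2] at hT2
    exact mul_right_cancel₀ (inv_ne_zero h20) (hT2.trans (one_mul _).symm)
  -- evaluate at `(1 + u) / 2`
  have hs2' : IsSquare (2⁻¹ : F) := hs2.inv
  have hδ4 : δ = 2⁻¹ * 2⁻¹ := by
    rw [hδ, hTsq _ (inv_ne_zero h20) hs2', div_inv_eq_mul]
  obtain ⟨u, hu, hu1, hu0⟩ := exists_nonsquare_succ_square h2 hneg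
  have hune : u ≠ 0 := fun h => hu (h ▸ IsSquare.zero)
  set x := (1 + u) * 2⁻¹ with hx
  have hx0 : x ≠ 0 := mul_ne_zero hu0 (inv_ne_zero h20)
  have hTx : T x = 2 / (1 + u) := by
    rw [hTsq x hx0 (hu1.mul hs2'), hx, _root_.mul_inv_rev, inv_inv, div_eq_mul_inv]
  have hv : (2 : F) - T x = (2 * u) * (1 + u)⁻¹ := by rw [hTx]; field_simp; ring
  have hvn : ¬ IsSquare ((2 : F) - T x) := by
    rw [hv]
    intro h
    exact hu (by
      have := (h.mul hu1).mul hs2'
      rwa [show 2 * u * (1 + u)⁻¹ * (1 + u) * 2⁻¹ = u by field_simp] at this)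
  have hxu : x - 2⁻¹ = u * 2⁻¹ := by rw [hx]; ring
  have hxn : ¬ IsSquare (x - 2⁻¹) := by
    rw [hxu]
    intro h
    exact hu (by
      have := h.mul hs2
      rwa [show u * 2⁻¹ * 2 = u by field_simp] at this)
  have h := hw x (fun h' => hxn (by rw [h', sub_self]; exact IsSquare.zero))
  rw [← hAw, hπ', hπ', (hT x hx0).1, hr,
    (hT _ (fun h' => hvn (by rw [h']; exact IsSquare.zero))).1, coe_eq_coe, hTn _ hvn, hTn _ hxn,
    hδ4, hv, hxu] at h
  field_simp at h
  have : (c - 1) * u = 0 := by linear_combination h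
  exact sub_eq_zero.1 ((mul_eq_zero.1 this).resolve_right hune)

end Cfsg.Agent.Lib.Zassenhaus.Moebius
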