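import Cfsg.Agent.Lib.Zassenhaus.EvenPair
import Cfsg.Agent.Lib.Zassenhaus.Coords
import Cfsg.Agent.Lib.Zassenhaus.Moebius

/-!
# Zassenhaus groups with `|G_ab|` even and `2|G_ab| ≤ |Ω| - 2` are `PSL₂(q)`, `q` odd
-/

set_option autoImplicit false

namespace Cfsg.Agent.Lib.Zassenhaus

open MulAction
open scoped OnePoint

variable {G Ω : Type*} [Group G] [MulAction G Ω]

/-- For even `|G_ab|`: the abelian regular normal subgroup of `G_a`. -/
theorem exists_abelian_kernel [Finite Ω] (hZ : Cfsg.IsZassenhausGroup G Ω) {a b : Ω} (hab : a ≠ b)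
    {z : G} (hz : orderOf z = 2) (hzD : z ∈ stabilizer G a ⊓ stabilizer G b) :
    ∃ U : Subgroup G, U ≤ stabilizer G a ∧ (∀ g : G, g • a = a → ∀ u ∈ U, g * u * g⁻¹ ∈ U) ∧
      (∀ u ∈ U, ∀ v ∈ U, u * v = v * u) ∧ (∀ x : Ω, x ≠ a → ∃! u : U, (u : G) • b = x) ∧
      (∀ u ∈ U, z * u * z⁻¹ = u⁻¹) ∧
      Nat.card U + 1 = Nat.card Ω ∧
      Nat.card U * Nat.card ↥(stabilizer G a ⊓ stabilizer G b) = Nat.card (stabilizer G a) := by
  classical
  have := finite_group hZ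
  have hF := pair_isFrobeniusComplement hZ hab
  have hza : z ∈ stabilizer G a := hzD.1
  have hz1 : z ≠ 1 := fun h => by rw [h, orderOf_one] at hz; omega
  have hzz : z * z = 1 := by rw [← pow_two, ← hz, pow_orderOf_eq_one]
  obtain ⟨N, -, hN, hc, hinv, hcomm⟩ := Frobenius.exists_kernel_of_involution hF
    (t := ⟨z, hza⟩) hzD (fun h => hz1 (congrArg Subtype.val h)) (Subtype.ext hzz)
  let U : Subgroup G := N.map (stabilizer G a).subtype
  have hUa : U ≤ stabilizer G a := Subgroup.map_subtype_le N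
  have hmem : ∀ g : stabilizer G a, (g : G) ∈ U ↔ g ∈ N := fun g => by
    constructor
    · rintro ⟨h, hh, he⟩; rwa [← Subtype.ext he]
    · exact fun h => Subgroup.mem_map_of_mem _ h
  have hcard : Nat.card U = Nat.card N :=
    (Nat.card_congr (N.equivMapOfInjective _ (stabilizer G a).subtype_injective).toEquiv).symm
  have hreg : ∀ x : Ω, x ≠ a → ∃! u : U, (u : G) • b = x := by
    intro x hx
    obtain ⟨g, hga, hgb⟩ := exists_smul_pair hZ hab (Ne.symm hx)
    obtain ⟨⟨⟨n, hn⟩, ⟨d, hd⟩⟩, hnd⟩ := hc.2 ⟨g, mem_stabilizer_iff.2 hga⟩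
    have hdb : (d : G) • b = b := (mem_pair_stabilizer.1 hd).2
    refine ⟨⟨n, Subgroup.mem_map_of_mem _ hn⟩, ?_, ?_⟩
    · rw [← hgb, ← show (n : G) * d = g from congrArg Subtype.val hnd, mul_smul, hdb]
    · intro u hu
      refine Subtype.ext (inv_mul_eq_one.1 ?_).symm
      have hmN : (⟨(n : G)⁻¹ * u, mul_mem (inv_mem n.2) (hUa u.2)⟩ : stabilizer G a) ∈ N :=
        mul_mem (inv_mem hn) ((hmem ⟨u, hUa u.2⟩).1 u.2)
      have hmD : (⟨(n : G)⁻¹ * u, mul_mem (inv_mem n.2) (hUa u.2)⟩ : stabilizer G a) ∈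
          (stabilizer G a ⊓ stabilizer G b).subgroupOf (stabilizer G a) := by
        refine mem_pair_stabilizer.2 ⟨mem_stabilizer_iff.1 (mul_mem (inv_mem n.2) (hUa u.2)), ?_⟩
        change ((n : G)⁻¹ * u) • b = b
        rw [mul_smul, show (u : G) • b = x from hu, ← hgb,
          ← show (n : G) * d = g from congrArg Subtype.val hnd, mul_smul, hdb, inv_smul_smul]
      exact congrArg Subtype.val (Subgroup.disjoint_def.1 hc.disjoint hmN hmD)
  refine ⟨U, hUa, ?_, ?_, hreg, ?_, ?_, ?_⟩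
  · intro g hg u hu
    exact (hmem (⟨g, mem_stabilizer_iff.2 hg⟩ * ⟨u, hUa hu⟩ * ⟨g, mem_stabilizer_iff.2 hg⟩⁻¹)).2
      (hN.conj_mem _ ((hmem ⟨u, hUa hu⟩).1 hu) _)
  · intro u hu v hv
    exact congrArg (fun w : N => ((w : stabilizer G a) : G))
      (hcomm.is_comm.comm ⟨_, (hmem ⟨u, hUa hu⟩).1 hu⟩ ⟨_, (hmem ⟨v, hUa hv⟩).1 hv⟩)
  · intro u hu
    exact congrArg Subtype.val (hinv ⟨u, hUa hu⟩ ((hmem ⟨u, hUa hu⟩).1 hu))
  · let e : U ≃ {x : Ω // x ≠ a} := Equiv.ofBijective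
      (fun u => ⟨(u : G) • b, fun h => hab
        (MulAction.injective (u : G) ((mem_stabilizer_iff.1 (hUa u.2)).trans h.symm))⟩)
      ⟨fun u v h => (hreg _ fun h' => hab (MulAction.injective (u : G)
          ((mem_stabilizer_iff.1 (hUa u.2)).trans h'.symm))).unique rfl
          (congrArg Subtype.val h).symm,
        fun x => by obtain ⟨u, hu, -⟩ := hreg x x.2; exact ⟨u, Subtype.ext hu⟩⟩
    have := Fintype.ofFinite Ω
    rw [Nat.card_congr e, Nat.card_eq_fintype_card, Fintype.card_subtype_compl,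
      Fintype.card_subtype_eq, Nat.card_eq_fintype_card]
    have : 0 < Fintype.card Ω := Fintype.card_pos_iff.2 ⟨a⟩
    omega
  · rw [hcard, ← hc.card_mul_card,
      Nat.card_congr (Subgroup.subgroupOfEquivOfLe (inf_le_left : stabilizer G a ⊓ stabilizer G b ≤ _)).toEquiv]

/-- Zassenhaus: even `|G_ab|` and `2|G_ab| ≤ |Ω| - 2` force `PSL₂(q)`, `q` odd. -/
theorem iso_psl_of_even [Finite Ω] (hZ : Cfsg.IsZassenhausGroup G Ω) {a b : Ω} (hab : a ≠ b)
    (heven : Even (Nat.card ↥(stabilizer G a ⊓ stabilizer G b)))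
    (hle : 2 * Nat.card ↥(stabilizer G a ⊓ stabilizer G b) ≤ Nat.card Ω - 2) :
    ∃ (F : Type) (_ : Field F) (_ : Fintype F), ringChar F ≠ 2 ∧
      Fintype.card F + 1 = Nat.card Ω ∧
      Nonempty (G ≃* Matrix.ProjectiveSpecialLinearGroup (Fin 2) F) := by
  classical
  have := finite_group hZ
  obtain ⟨hge, hinv'⟩ := card_le_and_inverted hZ hab heven
  obtain ⟨hcyc, hswap⟩ := hinv' hle
  have heq : 2 * Nat.card ↥(stabilizer G a ⊓ stabilizer G b) = Nat.card Ω - 2 :=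
    le_antisymm hle hge
  obtain ⟨z, hz, hzfix⟩ := exists_pair_involution hZ hab heven hab
  have hzD : z ∈ stabilizer G a ⊓ stabilizer G b := mem_pair_stabilizer.2
    ⟨mem_fixedBy.1 (by rw [hzfix]; exact Set.mem_insert _ _),
     mem_fixedBy.1 (by rw [hzfix]; exact Set.mem_insert_of_mem _ rfl)⟩
  obtain ⟨U, hUa, hUn, hUc, hreg, hUz, hUcard, hUD⟩ := exists_abelian_kernel hZ hab hz hzD
  obtain ⟨t, ht, hta, htb⟩ := exists_swap hZ hab
  obtain ⟨-, htfix, htinv⟩ := hswap t hta htb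
  obtain ⟨x₀, hx₀⟩ : (fixedBy Ω t).Nonempty := by
    refine Set.nonempty_of_ncard_ne_zero ?_
    rw [← Nat.card_coe_set_eq, htfix]
    omega
  rw [mem_fixedBy] at hx₀
  have h0a : x₀ ≠ a := fun h => hab (by rw [← hta, ← h, hx₀])
  have h0b : x₀ ≠ b := fun h => hab (by rw [← htb, ← h, hx₀])
  have hnpos : 2 ≤ Nat.card Ω := by
    have := Fintype.ofFinite Ω
    rw [Nat.card_eq_fintype_card]
    exact Fintype.one_lt_card_iff.2 ⟨a, b, hab⟩
  have hUodd : Odd (Nat.card U) := ⟨Nat.card ↥(stabilizer G a ⊓ stabilizer G b), by omega⟩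
  have hDc : ∀ g ∈ stabilizer G a ⊓ stabilizer G b, ∀ h ∈ stabilizer G a ⊓ stabilizer G b,
      g * h = h * g := fun g hg h hh => congrArg Subtype.val ((IsCyclic.commGroup
        (α := ↥(stabilizer G a ⊓ stabilizer G b))).mul_comm ⟨g, hg⟩ ⟨h, hh⟩)
  obtain ⟨F, fF, ffF, E, σ, hEi, hE0, hE1, hFcard, hσinj, htr, hD⟩ :=
    exists_coords hZ hab h0a h0b U hUa hUn hUc hreg hDc hUodd (by omega)
  set d := Nat.card ↥(stabilizer G a ⊓ stabilizer G b) with hd
  have hq : Fintype.card F = 2 * d + 1 := by omega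
  have h2 : ringChar F ≠ 2 := fun h => by
    have := FiniteField.even_card_of_char_two h
    omega
  -- the image of `σ` consists of the non-zero squares
  have hdpos : 0 < d := Nat.card_pos
  have hrange : ∀ u : Fˣ, u ∈ σ.range ↔ u ^ d = 1 := by
    have hle' : σ.range ≤ (powMonoidHom d : Fˣ →* Fˣ).ker := by
      rintro _ ⟨x, rfl⟩
      rw [MonoidHom.mem_ker, powMonoidHom_apply, ← map_pow, pow_card_eq_one', map_one]
    have heq' : σ.range = (powMonoidHom d : Fˣ →* Fˣ).ker := by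
      refine Subgroup.eq_of_le_of_card_ge hle' ?_
      rw [IsCyclic.card_powMonoidHom_ker, ← Nat.card_congr (MonoidHom.ofInjective hσinj).toEquiv]
      exact Nat.le_of_dvd hdpos (Nat.gcd_dvd_right _ _)
    intro u
    rw [heq', MonoidHom.mem_ker, powMonoidHom_apply]
  have hsq_iff : ∀ u : Fˣ, IsSquare (u : F) ↔ u ∈ σ.range := by
    intro u
    rw [hrange, FiniteField.isSquare_iff h2 u.ne_zero, hq,
      show (2 * d + 1) / 2 = d by omega, ← Units.val_pow_eq_pow_val, Units.val_eq_one]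
  -- the permutation representation
  let π : G →* Equiv.Perm (OnePoint F) :=
    (E.symm.permCongrHom.toMonoidHom).comp (MulAction.toPermHom G Ω)
  have hπap : ∀ g p, π g p = E.symm (g • E p) := fun g p => rfl
  have hπ : Function.Injective π := by
    intro g h e
    have := faithful hZ
    refine eq_of_smul_eq_smul fun x : Ω => ?_
    have h1 := congrArg (fun f : Equiv.Perm (OnePoint F) => f (E.symm x)) e
    simpa [hπap] using h1
  have hπeq : ∀ g p p', g • E p = E p' → π g p = p' := fun g p p' h => by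
    rw [hπap, h, Equiv.symm_apply_apply]
  have hπtr : ∀ h : F, ∃ g : G, π g ∞ = ∞ ∧ ∀ x : F, π g x = ↑(x + h) := fun h => by
    obtain ⟨g, hga, hgx⟩ := htr h
    exact ⟨g, hπeq g _ _ (by rw [hEi, hga]), fun x => hπeq g _ _ (hgx x)⟩
  have hπD : ∀ e : ↥(stabilizer G a ⊓ stabilizer G b),
      π e ∞ = ∞ ∧ ∀ x : F, π e x = ↑((σ e : F) * x) := fun e =>
    ⟨hπeq _ _ _ (by rw [hEi]; exact (mem_pair_stabilizer.1 e.2).1),
      fun x => hπeq _ _ _ (hD e x)⟩
  have hπsq : ∀ s : F, s ≠ 0 → IsSquare s → ∃ e : ↥(stabilizer G a ⊓ stabilizer G b),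
      (σ e : F) = s := by
    intro s hs hs'
    obtain ⟨e, he⟩ := (hsq_iff (Units.mk0 s hs)).1 hs'
    exact ⟨e, by rw [he, Units.val_mk0]⟩
  -- `z` is multiplication by `-1`
  have hzσ : (σ ⟨z, hzD⟩ : F) = -1 := by
    have hsq : σ ⟨z, hzD⟩ * σ ⟨z, hzD⟩ = 1 := by
      rw [← map_mul, ← map_one σ]
      exact congrArg σ (Subtype.ext (show z * z = 1 by rw [← pow_two, ← hz, pow_orderOf_eq_one]))
    have hne : (σ ⟨z, hzD⟩ : F) ≠ 1 := fun h => by
      have h1 : (⟨z, hzD⟩ : ↥(stabilizer G a ⊓ stabilizer G b)) = 1 :=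
        hσinj ((Units.val_eq_one.1 h).trans (map_one σ).symm)
      rw [show z = 1 from congrArg Subtype.val h1, orderOf_one] at hz
      omega
    exact ((mul_self_eq_one_iff).1 (by rw [← Units.val_mul, hsq, Units.val_one])).resolve_left hne
  have hneg : IsSquare (-1 : F) := by
    rw [← hzσ]; exact (hsq_iff _).2 ⟨_, rfl⟩
  have htt : t * t = 1 := by rw [← pow_two, ← ht, pow_orderOf_eq_one]
  have htinf : π t ∞ = ((0 : F) : OnePoint F) := hπeq _ _ _ (by rw [hEi, hE0, hta])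
  have ht1 : π t ((1 : F) : OnePoint F) = ((1 : F) : OnePoint F) := hπeq _ _ _ (by rw [hE1, hx₀])
  have hord : ∀ g : G, g * g = 1 → g ≠ 1 → orderOf g = 2 := fun g h h1 =>
    orderOf_eq_prime (by rw [pow_two]; exact h) h1
  have huniq : ∀ g g' : G, g * g = 1 → g' * g' = 1 → g ≠ 1 → g' ≠ 1 → ∀ x y : OnePoint F, x ≠ y →
      π g x = x → π g y = y → π g' x = x → π g' y = y → g = g' := by
    intro g g' hg hg' hg1 hg1' x y hxy h1 h3 h4 h5
    have hE : ∀ g p, π g p = p → g • E p = E p := fun g p h => by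
      rw [hπap, Equiv.symm_apply_eq] at h; exact h
    exact pair_involution_unique hZ (E.injective.ne hxy) (mem_pair_stabilizer.2 ⟨hE g x h1, hE g y h3⟩)
      (mem_pair_stabilizer.2 ⟨hE g' x h4, hE g' y h5⟩) (hord g hg hg1) (hord g' hg' hg1')
  have hanti : ∀ s : F, s ≠ 0 → IsSquare s → ∀ x y : F, π t x = ↑y → π t ↑(s * x) = ↑(s⁻¹ * y) := by
    intro s hs hs' x y hxy
    obtain ⟨e, he⟩ := hπsq s hs hs'
    have h1 : t * (e : G) = ((e⁻¹ : ↥(stabilizer G a ⊓ stabilizer G b)) : G) * t := by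
      rw [Subgroup.coe_inv, ← htinv e e.2, inv_mul_cancel_right]
    rw [← he, ← (hπD e).2 x, ← Equiv.Perm.mul_apply, ← map_mul, h1, map_mul, Equiv.Perm.mul_apply,
      hxy, (hπD e⁻¹).2 y, map_inv, Units.val_inv_eq_inv_val]
  have hT := Moebius.swap_eq_inv h2 hneg π hπ hπtr
    (fun s hs hs' => by
      obtain ⟨e, he⟩ := hπsq s hs hs'
      exact ⟨e, (hπD e).1, fun x => by rw [(hπD e).2, he]⟩)
    huniq htt htinf ht1 hanti
  have ht0 : π t ((0 : F) : OnePoint F) = ∞ := by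
    rw [← htinf, ← Equiv.Perm.mul_apply, ← map_mul, htt, map_one, Equiv.Perm.one_apply]
  refine ⟨F, fF, ffF, h2, by omega, Moebius.nonempty_iso_psl
    (Nat.odd_iff.2 (by omega)) π hπ ?_ hπtr ⟨(z : G) * t, ?_, ?_, fun x hx => ?_⟩⟩
  · have := pretransitive hZ
    have hG : Nat.card G = Nat.card Ω * Nat.card (stabilizer G a) :=
      Cfsg.Agent.Lib.Perm.Basic.card_eq_card_mul_card_stabilizer a
    rw [hG, ← hUD, ← hUcard, ← hFcard, ← one_pow 2, Nat.sq_sub_sq, hq,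
      show 2 * d + 1 - 1 = 2 * d by omega]
    ring
  · rw [map_mul, Equiv.Perm.mul_apply, htinf, (hπD ⟨z, hzD⟩).2, mul_zero]
  · rw [map_mul, Equiv.Perm.mul_apply, ht0]
    exact (hπD ⟨z, hzD⟩).1
  · rw [map_mul, Equiv.Perm.mul_apply, hT x hx, (hπD ⟨z, hzD⟩).2, hzσ, neg_one_mul]

end Cfsg.Agent.Lib.Zassenhaus
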