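import Mathlib
import Cfsg.Agent.Lib.PGroups.UniqueInvolution
import Cfsg.Agent.Lib.Involutions.IndexTwo

/-!
# No sharply triply transitive extension without sign characters

`D` acts regularly on the non-zero elements of the abelian group `V`; `τ` is an involutory
automorphism with the functional equation of Kerby and Tits.  If `D` has no subgroup of index two
and the twisted element `x` commutes modulo the involution with all elements squaring to it, this is
impossible: `D` contains `Q₈` and an element `φ` of order three permuting its three classes, and the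
functional equation forces `τ` to invert both `φ` and its conjugates.
-/

set_option autoImplicit false
set_option linter.unusedSectionVars false

namespace Cfsg.Agent.Lib.Zassenhaus.SharpNearfield

/-- The hypotheses. -/
structure Datum (D V : Type*) [Group D] [AddCommGroup V] [DistribMulAction D V] where
  τ : D →* D
  one : V
  z : D
  x : D
  one_ne : one ≠ 0
  ττ : ∀ δ, τ (τ δ) = δ
  free : ∀ (δ : D) (v : V), v ≠ 0 → δ • v = v → δ = 1
  trans : ∀ v : V, v ≠ 0 → ∃ δ : D, δ • one = v
  zz : z * z = 1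
  z_ne : z ≠ 1
  z_smul : ∀ v : V, z • v = -v
  τz : τ z = z
  fix : ∀ δ, τ δ = δ → δ = 1 ∨ δ = z
  τx : τ x = x * z
  key : ∀ y, y * y = z → y * x * y⁻¹ = x ∨ y * x * y⁻¹ = x * z
  noHom : ∀ χ : D →* ℤˣ, χ = 1
  kt : ∀ δ₁ δ₂ δ₃ : D, δ₂ • one = one + δ₁ • one → δ₃ • one = one + τ δ₁ • one →
    τ δ₃ • one = one - τ δ₂ • one

variable {D V : Type*} [Group D] [AddCommGroup V] [DistribMulAction D V] (d : Datum D V)

include d

theorem ext_one {δ ε : D} (h : δ • d.one = ε • d.one) : δ = ε := by
  refine (inv_mul_eq_one.1 (d.free (ε⁻¹ * δ) d.one d.one_ne ?_)).symm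
  rw [mul_smul, h, inv_smul_smul]

theorem zc (δ : D) : δ * d.z = d.z * δ :=
  ext_one d (by rw [mul_smul, mul_smul, d.z_smul, d.z_smul, smul_neg])

theorem zc' (δ ε : D) : δ * d.z * ε = δ * ε * d.z := by rw [mul_assoc, ← zc d ε, mul_assoc]

theorem unique_invol {u : D} (hu : u * u = 1) : u = 1 ∨ u = d.z := by
  by_cases h : u • d.one + d.one = 0
  · exact Or.inr (ext_one d (by rw [d.z_smul]; exact eq_neg_of_add_eq_zero_left h))
  · refine Or.inl (d.free u _ h ?_)
    rw [smul_add, ← mul_smul, hu, one_smul, add_comm]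

theorem sq_x : d.x * d.x = d.z := by
  rcases d.fix (d.x * d.x) (by rw [map_mul, d.τx, ← mul_assoc, zc' d d.x d.x, mul_assoc, d.zz,
    mul_one]) with h | h
  · exfalso
    rcases unique_invol d h with h' | h' <;> have h2 := d.τx <;> rw [h'] at h2
    · rw [map_one, one_mul] at h2; exact d.z_ne h2.symm
    · rw [d.τz, d.zz] at h2; exact d.z_ne h2
  · exact h

theorem eq_of_commute {u v : D} (hu : u * u = d.z) (hv : v * v = d.z) (h : u * v = v * u) :
    v = u ∨ v = u * d.z := by
  rcases unique_invol d (u := v * u) (by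
    rw [mul_assoc, ← mul_assoc u v u, h, ← mul_assoc, ← mul_assoc, hv, mul_assoc, hu, d.zz]) with
    h' | h'
  · right
    rw [eq_inv_of_mul_eq_one_left h']
    refine inv_eq_of_mul_eq_one_right ?_
    rw [← mul_assoc, hu, d.zz]
  · left
    refine mul_right_cancel (b := u) ?_
    rw [h', hu]

theorem exists_conj_ne [Finite D] :
    ∃ δ : D, δ * d.x * δ⁻¹ ≠ d.x ∧ δ * d.x * δ⁻¹ ≠ d.x * d.z := by
  classical
  by_contra! h
  have hcl : ∀ δ : D, δ * d.x * δ⁻¹ = d.x ∨ δ * d.x * δ⁻¹ = d.x * d.z := fun δ =>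
    or_iff_not_imp_left.2 (h δ)
  have hne : d.x * d.z ≠ d.x := fun e => d.z_ne (mul_eq_left.1 e)
  let χ : D →* ℤˣ := MonoidHom.mk' (fun δ => if δ * d.x * δ⁻¹ = d.x then 1 else -1) fun α β => by
    have e : α * β * d.x * (α * β)⁻¹ = α * (β * d.x * β⁻¹) * α⁻¹ := by group
    simp only [e]
    have hαz : α * (d.x * d.z) * α⁻¹ = α * d.x * α⁻¹ * d.z := by
      rw [← mul_assoc α, zc' d]
    rcases hcl β with hb | hb <;> rcases hcl α with ha | ha
    · simp [hb, ha]
    · simp [hb, ha, hne]
    · simp [hb, hαz, ha, hne]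
    · simp [hb, hαz, ha, hne, mul_assoc d.x, d.zz]
  have hc : ∀ δ : D, δ * d.x * δ⁻¹ = d.x := fun δ => by
    by_contra hn
    have := congrArg (fun f : D →* ℤˣ => f δ) (d.noHom χ)
    simp [χ, hn] at this
  -- hence all elements squaring to `z` are `x^±1`, so Sylow 2-subgroups are cyclic
  have hX : ∀ y : D, y * y = d.z → y = d.x ∨ y = d.x * d.z := fun y hy =>
    eq_of_commute d (sq_x d) hy (mul_inv_eq_iff_eq_mul.1 (hc y)).symm
  have := Fact.mk Nat.prime_two
  have heven : Even (Nat.card D) := by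
    rw [even_iff_two_dvd, ← orderOf_eq_prime (p := 2) (x := d.z) (by rw [pow_two, d.zz]) d.z_ne]
    exact orderOf_dvd_natCard d.z
  obtain ⟨T⟩ := (inferInstance : Nonempty (Sylow 2 D))
  have hinvT : ∀ w : (T : Subgroup D), orderOf w = 2 → (w : D) = d.z := fun w hw => by
    refine (unique_invol d ?_).resolve_left fun hh => ?_
    · have h0 := pow_orderOf_eq_one w
      rw [hw, pow_two] at h0
      exact congrArg Subtype.val h0
    · rw [show w = 1 from Subtype.ext hh, orderOf_one] at hw
      omega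
  obtain ⟨H, hH⟩ : ∃ H : Subgroup D, H.index = 2 := by
    refine Involutions.IndexTwo.exists_index_two_of_cyclic_sylow heven T ?_
    rcases PGroups.isCyclic_or_quaternion (p := 2) T.isPGroup' (fun u v hu hv => by
      rw [show v = u from Subtype.ext ((hinvT v hv).trans (hinvT u hu).symm)]
      exact Subgroup.mem_zpowers u) with hcy | ⟨-, n, hn, ⟨e⟩⟩
    · exact hcy
    · exfalso
      set u := e.symm (QuaternionGroup.xa 0)
      set v := e.symm (QuaternionGroup.xa 1)
      have hpos : 0 < 2 ^ n := Nat.two_pow_pos n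
      have : NeZero (2 ^ n) := ⟨hpos.ne'⟩
      have hsq : ∀ i : ZMod (2 * 2 ^ n), ((e.symm (QuaternionGroup.xa i) : (T : Subgroup D)) : D) *
          (e.symm (QuaternionGroup.xa i) : (T : Subgroup D)) = d.z := fun i => by
        rw [← Subgroup.coe_mul, ← map_mul]
        refine hinvT _ ?_
        rw [MulEquiv.orderOf_eq, ← pow_two]
        exact (orderOf_pow' _ two_ne_zero).trans (by rw [QuaternionGroup.orderOf_xa]; norm_num)
      have hcomm : (u : D) * v = v * u := by
        rcases hX _ (hsq 0) with h0 | h0 <;> rcases hX _ (hsq 1) with h1 | h1 <;>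
          simp only [u, v, h0, h1] <;>
          first
            | rfl
            | rw [← mul_assoc, zc' d]
      have : u * v = v * u := Subtype.ext hcomm
      rw [← map_mul, ← map_mul, e.symm.injective.eq_iff, QuaternionGroup.xa_mul_xa,
        QuaternionGroup.xa_mul_xa, QuaternionGroup.a.injEq] at this
      have h2 : ((2 : ℕ) : ZMod (2 * 2 ^ n)) = 0 := by
        push_cast; linear_combination this
      rw [ZMod.natCast_eq_zero_iff] at h2
      have := Nat.le_of_dvd (by norm_num) h2
      have : 2 ≤ 2 ^ n := Nat.le_self_pow (by omega) 2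
      omega
  have := Subgroup.normal_of_index_eq_two hH
  have hcard : Nat.card (D ⧸ H) = 2 := hH
  obtain ⟨f⟩ : Nonempty ((D ⧸ H) ≃* ℤˣ) :=
    ⟨mulEquivOfPrimeCardEq hcard (by simp [Nat.card_eq_fintype_card])⟩
  obtain ⟨g, hg⟩ : ∃ g : D, g ∉ H := by
    by_contra! hall
    rw [show H = ⊤ from (Subgroup.eq_top_iff' H).2 hall, Subgroup.index_top] at hH
    omega
  have := congrArg (fun χ : D →* ℤˣ => χ g) (d.noHom (f.toMonoidHom.comp (QuotientGroup.mk' H)))
  simp at this
  exact hg this

/-- For an element of order three the functional equation gives inversion by `τ`. -/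
theorem inverts_of_order_three {φ : D} (h3 : φ * φ * φ = 1) (h1 : φ ≠ 1) : d.τ φ = φ⁻¹ := by
  have hsum : ∀ ψ : D, ψ * ψ * ψ = 1 → ψ ≠ 1 → d.one + ψ • d.one = -((ψ * ψ) • d.one) := by
    intro ψ hψ hψ1
    refine eq_neg_of_add_eq_zero_left ?_
    by_contra hne
    refine hψ1 (d.free ψ _ hne ?_)
    rw [smul_add, smul_add, ← mul_smul, ← mul_smul, ← mul_assoc, hψ, one_smul]
    abel
  have hτ3 : d.τ φ * d.τ φ * d.τ φ = 1 := by rw [← map_mul, ← map_mul, h3, map_one]
  have hτ1 : d.τ φ ≠ 1 := fun h => h1 (by rw [← d.ττ φ, h, map_one])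
  have h := d.kt φ (d.z * (φ * φ)) (d.z * d.τ (φ * φ))
    (by rw [mul_smul, d.z_smul, hsum φ h3 h1])
    (by rw [mul_smul, d.z_smul, hsum _ hτ3 hτ1, map_mul])
  simp only [map_mul, d.τz, d.ττ] at h
  rw [mul_smul d.z, mul_smul d.z, d.z_smul, d.z_smul, sub_neg_eq_add,
    ← hsum φ h3 h1, ← map_mul] at h
  have h' := ext_one d (add_left_cancel h)
  calc d.τ φ = d.τ (d.τ (φ * φ)) := by rw [← h']
    _ = φ * φ := d.ττ _
    _ = φ⁻¹ := eq_inv_of_mul_eq_one_left h3

theorem conj_z (δ u : D) : δ * (u * d.z) * δ⁻¹ = δ * u * δ⁻¹ * d.z := by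
  rw [← mul_assoc δ, zc' d]

theorem false_of_datum [Finite V] [Finite D] : False := by
  classical
  obtain ⟨x, hxd⟩ : ∃ x, x = d.x := ⟨_, rfl⟩
  obtain ⟨z, hzd⟩ : ∃ z, z = d.z := ⟨_, rfl⟩
  have hxx : x * x = z := by rw [hxd, hzd]; exact sq_x d
  have hzc : ∀ δ : D, δ * z = z * δ := hzd ▸ zc d
  have hzcz : ∀ δ ε : D, δ * z * ε = δ * ε * z := hzd ▸ zc' d
  have hcjz : ∀ δ u : D, δ * (u * z) * δ⁻¹ = δ * u * δ⁻¹ * z := hzd ▸ conj_z d
  have hzz : z * z = 1 := hzd ▸ d.zz
  have hzne : z ≠ 1 := hzd ▸ d.z_ne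
  have hτz : d.τ z = z := hzd ▸ d.τz
  have hτx : d.τ x = x * z := by rw [hxd, hzd]; exact d.τx
  have hfix : ∀ δ, d.τ δ = δ → δ = 1 ∨ δ = z := hzd ▸ d.fix
  have hkey : ∀ u, u * u = z → u * x * u⁻¹ = x ∨ u * x * u⁻¹ = x * z := by
    rw [hxd, hzd]; exact d.key
  have heqc : ∀ {u v : D}, u * u = z → v * v = z → u * v = v * u → v = u ∨ v = u * z := by
    rw [hzd]; exact fun hu hv h => eq_of_commute d hu hv h
  have hunique : ∀ {u : D}, u * u = 1 → u = 1 ∨ u = z := by
    rw [hzd]; exact fun h => unique_invol d h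
  have hxz : x * z ≠ x := fun e => hzne (mul_eq_left.1 e)
  obtain ⟨δ₀, hy1, hy2⟩ := exists_conj_ne d
  obtain ⟨y, hy⟩ : ∃ y, y = δ₀ * x * δ₀⁻¹ := ⟨_, rfl⟩
  rw [← hxd] at hy1 hy2
  rw [← hzd] at hy2
  rw [← hy] at hy1 hy2
  have hyy : y * y = z := by
    calc y * y = δ₀ * (x * x) * δ₀⁻¹ := by rw [hy]; group
      _ = z := by rw [hxx, hzc, mul_inv_cancel_right]
  -- anticommutation
  have hanti : ∀ u v : D, u * u = z → v * v = z →
      (u * v * u⁻¹ = v ∨ u * v * u⁻¹ = v * z) → u ≠ v → u ≠ v * z → u * v = v * u * z := by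
    intro u v hu hv h h1 h2
    rcases h with h | h
    · exact absurd (heqc hv hu (mul_inv_eq_iff_eq_mul.1 h).symm) (by simp [h1, h2])
    · rw [mul_inv_eq_iff_eq_mul] at h
      rw [h, hzcz]
  have key' : ∀ u : D, u * u = z → u * y * u⁻¹ = y ∨ u * y * u⁻¹ = y * z := by
    intro u hu
    have h := hkey (δ₀⁻¹ * u * δ₀) (by
      calc δ₀⁻¹ * u * δ₀ * (δ₀⁻¹ * u * δ₀) = δ₀⁻¹ * (u * u) * δ₀ := by group
        _ = z := by rw [hu, hzc, mul_assoc, inv_mul_cancel, mul_one])
    have e : u * y * u⁻¹ = δ₀ * (δ₀⁻¹ * u * δ₀ * x * (δ₀⁻¹ * u * δ₀)⁻¹) * δ₀⁻¹ := by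
      rw [hy]; group
    rcases h with h | h
    · left; rw [e, h, ← hy]
    · right; rw [e, h, hy]; exact hcjz δ₀ x
  have hyx : y * x = x * y * z := hanti y x hyy hxx (hkey y hyy) hy1 hy2
  have hxy : x * y = y * x * z := by rw [hyx, mul_assoc, hzz, mul_one]
  obtain ⟨w, hw⟩ : ∃ w, w = x * y := ⟨_, rfl⟩
  have hww : w * w = z := by
    calc w * w = x * (y * x) * y := by rw [hw]; group
      _ = x * (x * y * z) * y := by rw [hyx]
      _ = (x * x) * y * (z * y) := by group
      _ = (x * x) * (y * y) * z := by rw [← hzc y, ← mul_assoc, ← mul_assoc, mul_assoc (x * x) y y, mul_assoc]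
      _ = z := by rw [hxx, hyy, hzz, one_mul]
  let f : Fin 3 → D := ![x, y, w]
  have hf : ∀ i, f i * f i = z := by intro i; fin_cases i <;> simp [f, hxx, hyy, hww]
  have hcls : ∀ u : D, u * u = z → ∃ i, u = f i ∨ u = f i * z := by
    intro u hu
    by_cases h1 : u = x ∨ u = x * z
    · exact ⟨0, h1⟩
    by_cases h2 : u = y ∨ u = y * z
    · exact ⟨1, h2⟩
    push Not at h1 h2
    have e1 := hanti u x hu hxx (hkey u hu) h1.1 h1.2
    have e2 := hanti u y hu hyy (key' u hu) h2.1 h2.2
    refine ⟨2, heqc hww hu ?_⟩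
    calc w * u = x * (y * u) := by rw [hw, mul_assoc]
      _ = x * (u * y * z) := by
        rw [e2, mul_assoc (y * u), hzz, mul_one]
      _ = x * u * y * z := by group
      _ = u * x * z * y * z := by
        rw [show x * u = u * x * z by rw [e1, mul_assoc (x * u), hzz, mul_one]]
      _ = u * w := by rw [hzcz, mul_assoc, hzz, mul_one, hw, mul_assoc]
  have hinj : ∀ i j, (f i = f j ∨ f i = f j * z) → i = j := by
    have hw1 : ∀ u : D, u * u = z → u ≠ 1 ∧ u ≠ z := fun u hu =>
      ⟨fun e => hzne (by rw [← hu, e, one_mul]), fun e => hzne (hu.symm.trans (e ▸ hzz))⟩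
    have hsymm : ∀ u v : D, u = v * z → v = u * z := fun u v e => by rw [e, mul_assoc, hzz, mul_one]
    intro i j h
    by_contra hne
    obtain ⟨hy3, hy4⟩ := hw1 y hyy
    obtain ⟨hx3, hx4⟩ := hw1 x hxx
    fin_cases i <;> fin_cases j <;> simp [f] at h hne <;> try rw [hw] at h
    · rcases h with h | h
      · exact hy1 h.symm
      · exact hy2 (hsymm _ _ h)
    · rcases h with h | h
      · exact hy3 (mul_eq_left.1 h.symm)
      · rw [mul_assoc] at h
        exact hy4 (eq_inv_of_mul_eq_one_left (mul_eq_left.1 h.symm) |>.trans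
          (inv_eq_of_mul_eq_one_right hzz))
    · rcases h with h | h
      · exact hy1 h
      · exact hy2 h
    · rcases h with h | h
      · exact hx3 (mul_eq_right.1 h.symm)
      · rw [← hzcz x y] at h
        exact hx4 (by
          have := mul_eq_right.1 h.symm
          exact (eq_inv_of_mul_eq_one_left this).trans (inv_eq_of_mul_eq_one_right hzz))
    · rcases h with h | h
      · exact hy3 (mul_eq_left.1 h)
      · exact hy4 (mul_left_cancel (h.trans (by rw [hzc])) )
    · rcases h with h | h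
      · exact hx3 (mul_eq_right.1 h)
      · exact hx4 (mul_right_cancel (h.trans (hzc y)))
  -- the action on the three classes
  have hex : ∀ (δ : D) (i : Fin 3), ∃ j, δ * f i * δ⁻¹ = f j ∨ δ * f i * δ⁻¹ = f j * z := fun δ i => by
    refine hcls _ ?_
    calc δ * f i * δ⁻¹ * (δ * f i * δ⁻¹) = δ * (f i * f i) * δ⁻¹ := by group
      _ = z := by rw [hf, hzc, mul_inv_cancel_right]
  choose P hP using hex
  have hPuniq : ∀ δ i j, (δ * f i * δ⁻¹ = f j ∨ δ * f i * δ⁻¹ = f j * z) → P δ i = j := by
    intro δ i j h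
    refine hinj _ _ ?_
    rcases hP δ i with h1 | h1 <;> rcases h with h2 | h2 <;> rw [h1] at h2
    · exact Or.inl h2
    · exact Or.inr h2
    · exact Or.inr (by rw [← h2, mul_assoc, hzz, mul_one])
    · exact Or.inl (mul_right_cancel h2)
  have hPmul : ∀ α β i, P (α * β) i = P α (P β i) := by
    intro α β i
    refine hPuniq _ _ _ ?_
    have e : α * β * f i * (α * β)⁻¹ = α * (β * f i * β⁻¹) * α⁻¹ := by group
    rcases hP β i with h1 | h1 <;> rcases hP α (P β i) with h2 | h2
    · left; rw [e, h1, h2]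
    · right; rw [e, h1, h2]
    · right; rw [e, h1, hcjz, h2]
    · left; rw [e, h1, hcjz, h2, mul_assoc, hzz, mul_one]
  have hPone : ∀ i, P 1 i = i := fun i => hPuniq _ _ _ (Or.inl (by group))
  let π : D →* Equiv.Perm (Fin 3) := MonoidHom.mk' (fun δ =>
    ⟨P δ, P δ⁻¹, fun i => by rw [← hPmul, inv_mul_cancel, hPone],
      fun i => by rw [← hPmul, mul_inv_cancel, hPone]⟩) fun α β => Equiv.ext (hPmul α β)
  have hπ : ∀ δ i, π δ i = P δ i := fun δ i => rfl
  have hsign : ∀ δ, Equiv.Perm.sign (π δ) = 1 := fun δ =>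
    congrArg (fun χ : D →* ℤˣ => χ δ) (d.noHom (Equiv.Perm.sign.comp π))
  set K := π.ker with hKdef
  have hK : ∀ δ, δ ∈ K → ∀ i, δ * f i * δ⁻¹ = f i ∨ δ * f i * δ⁻¹ = f i * z := fun δ hδ i => by
    have h := hP δ i
    rwa [← hπ, MonoidHom.mem_ker.1 hδ, Equiv.Perm.one_apply] at h
  have hxy' : x * y * x⁻¹ = y * z := by
    rw [mul_inv_eq_iff_eq_mul, hzcz]; exact hxy
  have hyx' : y * x * y⁻¹ = x * z := by
    rw [mul_inv_eq_iff_eq_mul, hzcz]; exact hyx
  -- some element moves the three classes cyclically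
  obtain ⟨δ, hδ⟩ : ∃ δ, π δ ≠ 1 := ⟨δ₀, fun h => by
    have := hK δ₀ (MonoidHom.mem_ker.2 h) 0
    simp [f] at this
    rw [← hy] at this
    exact this.elim hy1 hy2⟩
  have hA3 : ∀ σ : Equiv.Perm (Fin 3), Equiv.Perm.sign σ = 1 → σ ≠ 1 →
      σ * σ * σ = 1 ∧ σ * σ ≠ 1 ∧ σ 0 ≠ 0 := by decide
  have hrange : Nat.card π.range = 3 := by
    have hle : π.range ≤ alternatingGroup (Fin 3) := by
      rintro _ ⟨δ, rfl⟩; exact Equiv.Perm.mem_alternatingGroup.2 (hsign δ)
    have h1 := Subgroup.card_dvd_of_le hle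
    have h2 : Nat.card (alternatingGroup (Fin 3)) = 3 := by
      rw [nat_card_alternatingGroup, Nat.card_fin]; rfl
    rw [h2] at h1
    refine (Nat.prime_three.eq_one_or_self_of_dvd _ h1).resolve_left fun h => hδ ?_
    have := Subgroup.eq_bot_of_card_eq _ h
    exact (Subgroup.eq_bot_iff_forall _).1 this _ ⟨δ, rfl⟩
  -- signs on `x` and `y`
  let sg : Fin 3 → K → ℤˣ := fun i δ => if (δ : D) * f i * (δ : D)⁻¹ = f i then 1 else -1
  have hfz : ∀ i, f i * z ≠ f i := fun i e => hzne (mul_eq_left.1 e)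
  have hsg : ∀ i (α β : K), sg i (α * β) = sg i α * sg i β := by
    intro i α β
    have e : ((α * β : K) : D) * f i * ((α * β : K) : D)⁻¹ =
        (α : D) * ((β : D) * f i * (β : D)⁻¹) * (α : D)⁻¹ := by
      rw [Subgroup.coe_mul]; group
    simp only [sg, e]
    rcases hK β β.2 i with hb | hb <;> rcases hK α α.2 i with ha | ha
    · simp [hb, ha]
    · simp [hb, ha, hfz]
    · simp [hb, hcjz, ha, hfz]
    · simp [hb, hcjz, ha, hfz, mul_assoc (f i), hzz]
  have hs_one : ∀ i (γ : K), (γ : D) * f i * (γ : D)⁻¹ = f i → sg i γ = 1 := fun i γ h => if_pos h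
  have hs_neg : ∀ i (γ : K), (γ : D) * f i * (γ : D)⁻¹ = f i * z → sg i γ = -1 := fun i γ h =>
    if_neg fun h' => hfz i (h.symm.trans h')
  have hs_eq : ∀ i (γ : K), sg i γ = 1 → (γ : D) * f i * (γ : D)⁻¹ = f i := fun i γ h =>
    (hK γ γ.2 i).resolve_right fun h' => by rw [hs_neg i γ h'] at h; exact absurd h (by decide)
  let S : K →* ℤˣ × ℤˣ := (MonoidHom.mk' (sg 0) (hsg 0)).prod (MonoidHom.mk' (sg 1) (hsg 1))
  have hmemK : ∀ u : D, (∀ i, u * f i * u⁻¹ = f i ∨ u * f i * u⁻¹ = f i * z) → u ∈ K := fun u h =>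
    MonoidHom.mem_ker.2 (Equiv.ext fun i => (hπ u i).trans (hPuniq u i i (h i)))
  have hxK : x ∈ K := hmemK x fun i => by
    fin_cases i
    · exact Or.inl (show x * x * x⁻¹ = x by group)
    · exact Or.inr hxy'
    · refine Or.inr (show x * w * x⁻¹ = w * z from ?_)
      calc x * w * x⁻¹ = x * (x * y * x⁻¹) := by rw [hw]; group
        _ = w * z := by rw [hxy', hw, mul_assoc]
  have hyK : y ∈ K := hmemK y fun i => by
    fin_cases i
    · exact Or.inr hyx'
    · exact Or.inl (show y * y * y⁻¹ = y by group)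
    · refine Or.inr (show y * w * y⁻¹ = w * z from ?_)
      calc y * w * y⁻¹ = (y * x * y⁻¹) * y := by rw [hw]; group
        _ = w * z := by rw [hyx', hzcz, hw]
  have hS : Function.Surjective S := by
    have hSx : S ⟨x, hxK⟩ = (1, -1) :=
      Prod.ext (hs_one 0 _ (show x * x * x⁻¹ = x by group)) (hs_neg 1 _ hxy')
    have hSy : S ⟨y, hyK⟩ = (-1, 1) :=
      Prod.ext (hs_neg 0 _ hyx') (hs_one 1 _ (show y * y * y⁻¹ = y by group))
    rintro ⟨u, v⟩
    rcases Int.units_eq_one_or u with rfl | rfl <;> rcases Int.units_eq_one_or v with rfl | rfl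
    · exact ⟨1, map_one S⟩
    · exact ⟨_, hSx⟩
    · exact ⟨_, hSy⟩
    · exact ⟨⟨x, hxK⟩ * ⟨y, hyK⟩, by rw [map_mul, hSx, hSy]; simp⟩
  set c := Nat.card S.ker
  have hcardK : Nat.card K = 4 * c := by
    rw [← S.ker.card_mul_index, Subgroup.index_ker, MonoidHom.range_eq_top.2 hS, Subgroup.card_top,
      mul_comm]
    simp [Nat.card_eq_fintype_card]
    rfl
  have hcardD : Nat.card D = 12 * c := by
    rw [← K.card_mul_index, hKdef, Subgroup.index_ker, hrange, ← hKdef, hcardK]; ring
  have hCf : ∀ γ : K, γ ∈ S.ker → ((γ : D) * x = x * γ ∧ (γ : D) * y = y * γ) := by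
    intro γ hγ
    rw [MonoidHom.mem_ker] at hγ
    exact ⟨mul_inv_eq_iff_eq_mul.1 (hs_eq 0 γ (congrArg Prod.fst hγ)),
      mul_inv_eq_iff_eq_mul.1 (hs_eq 1 γ (congrArg Prod.snd hγ))⟩
  have hzker : (⟨z, hmemK z fun i => Or.inl (by rw [← hzc, mul_inv_cancel_right])⟩ : K) ∈ S.ker := by
    exact MonoidHom.mem_ker.2 (Prod.ext (hs_one 0 _ (show z * x * z⁻¹ = x by rw [← hzc, mul_inv_cancel_right]))
      (hs_one 1 _ (show z * y * z⁻¹ = y by rw [← hzc, mul_inv_cancel_right])))
  have hc2 : 2 ∣ c := by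
    have := Subgroup.orderOf_dvd_natCard (s := S.ker) hzker
    rwa [Subgroup.orderOf_mk, orderOf_eq_prime (by rw [pow_two, hzz]) hzne] at this
  have := Fintype.ofFinite V
  have hV : Nat.card V = 12 * c + 1 := by
    have hbij : Function.Bijective (fun δ : D =>
        (⟨δ • d.one, fun h => d.one_ne (by simpa using congrArg (δ⁻¹ • ·) h)⟩ : {v : V // v ≠ 0})) :=
      ⟨fun α β h => ext_one d (congrArg Subtype.val h),
        fun v => (d.trans v.1 v.2).imp fun δ h => Subtype.ext h⟩
    rw [← hcardD, Nat.card_congr (Equiv.ofBijective _ hbij), Nat.card_eq_fintype_card,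
      Nat.card_eq_fintype_card, Fintype.card_subtype_compl, Fintype.card_subtype_eq]
    have : 0 < Fintype.card V := Fintype.card_pos
    omega
  -- `τ y = x y` modulo `⟨z⟩`
  have hτy : d.τ y = w ∨ d.τ y = w * z := by
    obtain ⟨i, hi⟩ := hcls (d.τ y) (by rw [← map_mul, hyy, hτz])
    fin_cases i <;> simp [f] at hi
    · exfalso
      rcases hi with h | h <;> have h' := congrArg d.τ h <;> rw [d.ττ] at h'
      · exact hy2 (h'.trans hτx)
      · rw [map_mul, hτx, hτz, mul_assoc, hzz, mul_one] at h'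
        exact hy1 h'
    · exfalso
      rcases hi with h | h
      · rcases hfix y h with h' | h'
        · exact hzne (by rw [← hyy, h', one_mul])
        · exact hzne (hyy.symm.trans (h' ▸ hzz))
      · have hfx : d.τ (x⁻¹ * y) = x⁻¹ * y := by
          rw [map_mul, map_inv, hτx, h, hzc, hzc y]
          group
        rcases hfix _ hfx with h' | h'
        · exact hy1 (inv_mul_eq_one.1 h').symm
        · exact hy2 (inv_mul_eq_iff_eq_mul.1 h')
    · exact hi
  have hc3 : ¬ 3 ∣ c := by
    intro h3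
    -- the odd part `H` of the centraliser of `x`, `y` is abelian
    have h4 : c % 4 = 2 := by
      by_contra hne
      have : Fact (Nat.Prime 2) := ⟨Nat.prime_two⟩
      obtain ⟨F, hF⟩ := Sylow.exists_subgroup_card_pow_prime (G := S.ker) (n := 2) 2
        (show 2 ^ 2 ∣ c by rw [show (2 : ℕ) ^ 2 = 4 from rfl]; omega)
      have hmem : ∀ u : F, (u : S.ker) = 1 ∨ (((u : S.ker) : K) : D) = z := by
        intro u
        have h := pow_card_eq_one' (x := u)
        rw [hF] at h
        set g : D := (((u : S.ker) : K) : D)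
        have hg : g ^ 4 = 1 := congrArg (fun u : F => (((u : S.ker) : K) : D)) h
        rcases hunique (u := g * g) (by rw [← hg]; simp only [pow_succ, pow_zero, one_mul, mul_assoc]) with h1 | h1
        · rcases hunique h1 with h2 | h2
          · exact Or.inl (Subtype.ext (Subtype.ext h2))
          · exact Or.inr h2
        · exfalso
          obtain ⟨hgx, hgy⟩ := hCf _ (u : S.ker).2
          rcases heqc hxx h1 hgx.symm with e | e <;>
            rcases heqc hyy h1 hgy.symm with e' | e'
          · exact hy1 (e'.symm.trans e)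
          · exact hy2 (by rw [← e, e', mul_assoc, hzz, mul_one])
          · exact hy2 (e'.symm.trans e)
          · exact hy1 (mul_right_cancel (e'.symm.trans e))
      have := Fintype.ofFinite F
      have hle : Nat.card F ≤ 2 := by
        classical
        have hsub : (Finset.univ : Finset F).image (fun u : F => (((u : S.ker) : K) : D)) ⊆ {1, z} :=
          fun v hv => by
            obtain ⟨u, -, rfl⟩ := Finset.mem_image.1 hv
            rcases hmem u with h | h
            · simp [h]
            · simp [h]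
        have := (Finset.card_le_card hsub).trans Finset.card_le_two
        rwa [Finset.card_image_of_injective _ (fun u v e => Subtype.ext (Subtype.ext (Subtype.ext e))),
          Finset.card_univ, ← Nat.card_eq_fintype_card] at this
      rw [hF] at hle
      norm_num at hle
    obtain ⟨H, hH⟩ := Involutions.IndexTwo.exists_index_two_of_mod_four (G := S.ker) h4
    have := Subgroup.normal_of_index_eq_two hH
    have hHcard : Nat.card H * 2 = c := by rw [← hH, Subgroup.card_mul_index]
    set h' := Nat.card H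
    have hHodd : h' % 2 = 1 := by omega
    have hHiff : ∀ u : S.ker, u ∈ H ↔ u ^ h' = 1 := by
      refine fun u => ⟨fun hu => congrArg Subtype.val (pow_card_eq_one' (x := (⟨u, hu⟩ : H))),
        fun hu => ?_⟩
      obtain ⟨q, hq⟩ : ∃ q, h' = 2 * q + 1 := ⟨h' / 2, by omega⟩
      have h2 : u ^ (2 * q) ∈ H := by
        rw [pow_mul]; exact pow_mem (Subgroup.sq_mem_of_index_two hH u) q
      have e : u ^ (2 * q) * u = 1 := by rw [← pow_succ, ← hq, hu]
      exact (mul_mem_cancel_left h2).1 (e ▸ one_mem H)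
    -- `τ` acts on the kernel of `S`
    have hinS : ∀ g : D, g * x = x * g → g * y = y * g → ∃ γ : S.ker, ((γ : K) : D) = g := by
      intro g hx' hy'
      have hgK : g ∈ K := hmemK g fun i => Or.inl (by
        fin_cases i <;> rw [mul_inv_eq_iff_eq_mul] <;> simp [f]
        · exact hx'
        · exact hy'
        · rw [hw, ← mul_assoc, hx', mul_assoc, hy', mul_assoc])
      refine ⟨⟨⟨g, hgK⟩, ?_⟩, rfl⟩
      exact MonoidHom.mem_ker.2 (Prod.ext (hs_one 0 _ (mul_inv_eq_iff_eq_mul.2 hx'))
        (hs_one 1 _ (mul_inv_eq_iff_eq_mul.2 hy')))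
    have hτS : ∀ γ : S.ker, ∃ γ' : S.ker, ((γ' : K) : D) = d.τ ((γ : K) : D) := by
      intro γ
      obtain ⟨hgx, hgy⟩ := hCf _ γ.2
      set g : D := ((γ : K) : D)
      have h1 : d.τ g * x = x * d.τ g := by
        have h := congrArg d.τ hgx
        rw [map_mul, map_mul, hτx, ← mul_assoc, hzcz] at h
        exact mul_right_cancel h
      refine hinS _ h1 ?_
      have h := congrArg d.τ hgy
      rw [map_mul, map_mul] at h
      rcases hτy with e | e <;> rw [e] at h
      · rw [hw, ← mul_assoc, h1, mul_assoc, mul_assoc] at h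
        exact mul_left_cancel h
      · rw [← mul_assoc, hzcz] at h
        have h' := mul_right_cancel h
        rw [hw, ← mul_assoc, h1, mul_assoc, mul_assoc] at h'
        exact mul_left_cancel h'
    choose tS htS using hτS
    let τH : H →* H := MonoidHom.mk' (fun u => ⟨tS u, (hHiff _).2 (by
        refine Subtype.ext (Subtype.ext ?_)
        show ((tS u : K) : D) ^ h' = 1
        rw [htS, ← map_pow]
        have := congrArg (fun v : S.ker => ((v : K) : D)) ((hHiff u).1 u.2)
        exact (congrArg d.τ this).trans (map_one _))⟩)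
      fun u v => Subtype.ext (Subtype.ext (Subtype.ext (by
        show ((tS (u * v : H) : K) : D) = ((tS u : K) : D) * ((tS v : K) : D)
        rw [htS, htS, htS, ← map_mul]; rfl)))
    have hτfix : MonoidHom.FixedPointFree τH := by
      intro u hu
      have h : d.τ (((u : S.ker) : K) : D) = (((u : S.ker) : K) : D) := by
        rw [← htS]; exact congrArg (fun v : H => (((v : S.ker) : K) : D)) hu
      rcases hfix _ h with h | h
      · exact Subtype.ext (Subtype.ext (Subtype.ext h))
      · exfalso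
        have h1 := congrArg (fun v : S.ker => ((v : K) : D)) ((hHiff _).1 u.2)
        change (((u : S.ker) : K) : D) ^ h' = 1 at h1
        rw [h, show h' = 2 * (h' / 2) + 1 by omega, pow_succ, pow_mul, pow_two, hzz, one_pow,
          one_mul] at h1
        exact hzne h1
    have hτinv : Function.Involutive τH := fun u => Subtype.ext (Subtype.ext (Subtype.ext (by
      show ((tS (tS u) : K) : D) = (((u : S.ker) : K) : D)
      rw [htS, htS, d.ττ])))
    have hHcomm := hτfix.commute_all_of_involutive hτinv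
    obtain ⟨ω₀, hω⟩ := exists_prime_orderOf_dvd_card' (hp := Fact.mk Nat.prime_three) (G := H) 3
      (show 3 ∣ h' by omega)
    set ω : D := (((ω₀ : S.ker) : K) : D) with hωdef
    obtain ⟨hωx, hωy⟩ := hCf _ (ω₀ : S.ker).2
    have hω3 : ω * ω * ω = 1 := by
      have := pow_orderOf_eq_one ω₀
      rw [hω, pow_three'] at this
      exact congrArg (fun v : H => (((v : S.ker) : K) : D)) this
    have hω1 : ω ≠ 1 := fun h => by
      rw [show ω₀ = 1 from Subtype.ext (Subtype.ext (Subtype.ext h)), orderOf_one] at hω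
      omega
    have hω2 : ∀ v : V, ω • ω • v + ω • v + v = 0 := fun v => by
      by_contra hne
      refine hω1 (d.free ω _ hne ?_)
      rw [smul_add, smul_add, show ω • ω • ω • v = (ω * ω * ω) • v by rw [mul_smul, mul_smul],
        hω3, one_smul]
      abel
    -- the endomorphisms
    let L : D → AddMonoid.End V := fun δ => DistribMulAction.toAddMonoidEnd D V δ
    have hL : ∀ α β, L (α * β) = L α * L β := fun α β => map_mul _ α β
    have hLz : L z = -1 := by ext v; rw [hzd]; exact d.z_smul v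
    have hLc : ∀ α β, α * β = β * α → L α * L β = L β * L α := fun α β h => by rw [← hL, h, hL]
    have eXX : L x * L x = -1 := by rw [← hL, hxx, hLz]
    have eYY : L y * L y = -1 := by rw [← hL, hyy, hLz]
    have eYX : L y * L x = -(L x * L y) := by
      rw [← hL, hyx, hL, hL, hLz, mul_neg, mul_one]
    have eW : L ω * L ω + L ω + 1 = 0 := by ext v; exact hω2 v
    have eWX := hLc ω x hωx
    have eWY := hLc ω y hωy
    set X := L x
    set Y := L y
    set O := L ω
    let hE : AddMonoid.End V := (X + Y + X * Y) * (O + O + 1)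
    let kE : AddMonoid.End V := X - Y
    have hXXY : X * (X * Y) = -Y := by rw [← mul_assoc, eXX, neg_mul, one_mul]
    have hXYX : X * Y * X = Y := by rw [mul_assoc, eYX, mul_neg, hXXY, neg_neg]
    have hYXY : Y * (X * Y) = X := by rw [← mul_assoc, eYX, neg_mul, mul_assoc, eYY, mul_neg, neg_neg, mul_one]
    have hXYY : X * Y * Y = -X := by rw [mul_assoc, eYY, mul_neg, mul_one]
    have hanti : (X - Y) * (X + Y + X * Y) = -((X + Y + X * Y) * (X - Y)) := by
      simp only [add_mul, sub_mul, mul_add, mul_sub, hXXY, hXYX, hYXY, hXYY, eXX, eYY, eYX]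
      abel
    have hsq3 : (X + Y + X * Y) * (X + Y + X * Y) = -3 := by
      have hXYXY : X * Y * (X * Y) = -1 := by rw [mul_assoc, hYXY, eXX]
      simp only [add_mul, mul_add, hXXY, hXYX, hYXY, hXYY, hXYXY, eXX, eYY, eYX]
      rw [show (3 : AddMonoid.End V) = 1 + 1 + 1 by norm_num]
      abel
    have hOc : ∀ A : AddMonoid.End V, O * A = A * O → (O + O + 1) * A = A * (O + O + 1) :=
      fun A h => by simp only [add_mul, mul_add, h, one_mul, mul_one]
    have hO2 : (O + O + 1) * (O + O + 1) = -3 := by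
      have hOO : O * O = -O - 1 := by linear_combination (norm := abel) eW
      simp only [add_mul, mul_add, hOO, one_mul, mul_one]
      rw [show (3 : AddMonoid.End V) = 1 + 1 + 1 by norm_num]
      abel
    have hcS : O * (X + Y + X * Y) = (X + Y + X * Y) * O := by
      simp only [mul_add, add_mul, ← mul_assoc, eWX, eWY]
      rw [mul_assoc X O Y, eWY, ← mul_assoc]
    have hh : hE * hE = 9 := by
      calc hE * hE = (X + Y + X * Y) * ((O + O + 1) * (X + Y + X * Y)) * (O + O + 1) := by
            simp only [hE, mul_assoc]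
        _ = (X + Y + X * Y) * (X + Y + X * Y) * ((O + O + 1) * (O + O + 1)) := by
            rw [hOc _ hcS]; simp only [mul_assoc]
        _ = 9 := by rw [hsq3, hO2]; norm_num
    have hk : kE * hE = -(hE * kE) := by
      have hcX : (O + O + 1) * (X - Y) = (X - Y) * (O + O + 1) :=
        hOc _ (by rw [mul_sub, sub_mul, eWX, eWY])
      calc kE * hE = (X - Y) * (X + Y + X * Y) * (O + O + 1) := by simp only [hE, kE, mul_assoc]
        _ = -((X + Y + X * Y) * ((X - Y) * (O + O + 1))) := by rw [hanti, neg_mul, mul_assoc]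
        _ = -(hE * kE) := by rw [← hcX]; simp only [hE, kE, mul_assoc]
    have hkk : kE * kE = -2 := by
      simp only [kE, sub_mul, mul_sub, eXX, eYY, eYX]
      rw [show (2 : AddMonoid.End V) = 1 + 1 by norm_num]
      abel
    have hap : ∀ (A B : AddMonoid.End V) (v : V), (A * B) v = A (B v) := fun A B v => rfl
    have hnum : ∀ (k : ℕ) (v : V), (k : AddMonoid.End V) v = k • v := fun k v =>
      AddMonoid.End.natCast_apply k v
    -- multiplication by `2` and by `3` is injective
    have hinj' : ∀ k : ℕ, (k = 2 ∨ k = 3) → ∀ v : V, k • v = 0 → v = 0 := by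
      intro k hk v hv
      have hord := (addOrderOf_dvd_of_nsmul_eq_zero hv)
      have hcard' : addOrderOf v ∣ 12 * c + 1 := hV ▸ addOrderOf_dvd_natCard v
      have hcop : Nat.Coprime k (12 * c + 1) := by
        rcases hk with rfl | rfl <;>
          refine (Nat.Prime.coprime_iff_not_dvd (by norm_num)).2 ?_ <;> omega
      exact AddMonoid.addOrderOf_eq_one_iff.1 (Nat.eq_one_of_dvd_coprimes hcop hord hcard')
    have hhv : ∀ v, hE (hE v) = 9 • v := fun v => by rw [← hap, hh]; exact hnum 9 v
    have hkv : ∀ v, kE (hE v) = -hE (kE v) := fun v => by rw [← hap, hk]; rfl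
    have hkkv : ∀ v, kE (kE v) = -(2 • v) := fun v => by
      rw [← hap, hkk]; exact congrArg Neg.neg (hnum 2 v)
    have hkinj : Function.Injective kE := fun v w e => by
      have := congrArg kE e
      rw [hkkv, hkkv, neg_inj] at this
      exact sub_eq_zero.1 (hinj' 2 (Or.inl rfl) _ (by rw [nsmul_sub, this, sub_self]))
    let P : AddSubgroup V := AddMonoidHom.ker ((hE - 3 : AddMonoid.End V) : V →+ V)
    let N : AddSubgroup V := AddMonoidHom.ker ((hE + 3 : AddMonoid.End V) : V →+ V)
    have hPm : ∀ v, v ∈ P ↔ hE v = 3 • v := fun v => by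
      change hE v - (3 : AddMonoid.End V) v = 0 ↔ _
      rw [sub_eq_zero, show (3 : AddMonoid.End V) v = 3 • v from hnum 3 v]
    have hNm : ∀ v, v ∈ N ↔ hE v = -(3 • v) := fun v => by
      change hE v + (3 : AddMonoid.End V) v = 0 ↔ _
      rw [add_eq_zero_iff_eq_neg, show (3 : AddMonoid.End V) v = 3 • v from hnum 3 v]
    -- `P × N ≃ V`
    have h6 : ∀ v : V, 6 • v = 0 → v = 0 := fun v hv =>
      hinj' 3 (Or.inr rfl) _ (hinj' 2 (Or.inl rfl) _ (by rw [← mul_nsmul]; exact hv))
    let add : P × N → V := fun q => (q.1 : V) + q.2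
    have hadd : Function.Injective add := by
      rintro ⟨⟨p, hp⟩, ⟨q, hq⟩⟩ ⟨⟨p', hp'⟩, ⟨q', hq'⟩⟩ e
      change p + q = p' + q' at e
      have e' : p - p' = q' - q := sub_eq_sub_iff_add_eq_add.2 (by rw [e, add_comm])
      have h1 := (hPm _).1 (sub_mem hp hp')
      have h2 : hE (p - p') = -(3 • (p - p')) := by
        rw [e']; exact (hNm _).1 (sub_mem hq' hq)
      have h3 : p - p' = 0 := h6 _ (by
        rw [h1, eq_neg_iff_add_eq_zero, ← add_nsmul] at h2; exact h2)
      rw [sub_eq_zero] at h3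
      subst h3
      rw [sub_self, eq_comm, sub_eq_zero] at e'
      subst e'
      rfl
    have hsurj : Function.Surjective add := by
      intro v
      obtain ⟨u, hu⟩ : ∃ u : V, 6 • u = v :=
        Finite.surjective_of_injective (f := fun u : V => 6 • u)
          (fun u u' e => sub_eq_zero.1 (h6 _ (by rw [nsmul_sub]; exact sub_eq_zero.2 e))) v
      refine ⟨(⟨3 • u + hE u, (hPm _).2 ?_⟩, ⟨3 • u - hE u, (hNm _).2 ?_⟩), ?_⟩
      · rw [map_add, map_nsmul, hhv]; module
      · rw [map_sub, map_nsmul, hhv]; module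
      · rw [← hu]; change 3 • u + hE u + (3 • u - hE u) = _; module
    have hPN : Nat.card P = Nat.card N := by
      have hkP : ∀ v, v ∈ P → kE v ∈ N := fun v hv => (hNm _).2 (by
        have := hkv v
        rw [(hPm v).1 hv, map_nsmul] at this
        rw [this, neg_neg])
      have hkN : ∀ v, v ∈ N → kE v ∈ P := fun v hv => (hPm _).2 (by
        have := hkv v
        rw [(hNm v).1 hv, map_neg, map_nsmul, neg_inj] at this
        exact this.symm)
      refine le_antisymm
        (Nat.card_le_card_of_injective (fun v : P => (⟨kE v, hkP v v.2⟩ : N)) ?_)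
        (Nat.card_le_card_of_injective (fun v : N => (⟨kE v, hkN v v.2⟩ : P)) ?_) <;>
      exact fun v w e => Subtype.ext (hkinj (congrArg Subtype.val e))
    set s := Nat.card P
    have hm : s * s = 12 * c + 1 := by
      rw [← hV, ← Nat.card_congr (Equiv.ofBijective add ⟨hadd, hsurj⟩), Nat.card_prod, ← hPN]
    -- the kernel of `S` acts freely on the non-zero elements of `P`
    let Pn := {v : P // v ≠ 0}
    have hCP : ∀ γ : H, ∀ v, v ∈ P → (((γ : S.ker) : K) : D) • v ∈ P := by
      intro γ v hv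
      obtain ⟨hgx, hgy⟩ := hCf _ (γ : S.ker).2
      set g : D := (((γ : S.ker) : K) : D)
      have hgO : g • (ω • v) = ω • (g • v) := by
        -- `L g` commutes with `O`: both commute with `X`, `Y`
        rw [← mul_smul, ← mul_smul]
        exact congrArg (fun δ : D => δ • v)
          (congrArg (fun u : H => (((u : S.ker) : K) : D)) (hHcomm γ ω₀).eq)
      refine (hPm _).2 ?_
      have hv' := (hPm v).1 hv
      have e : hE (g • v) = g • hE v := by
        change (X + Y + X * Y) ((O + O + 1) (g • v)) = g • (X + Y + X * Y) ((O + O + 1) v)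
        change x • (ω • g • v + ω • g • v + g • v) + y • (ω • g • v + ω • g • v + g • v) +
            x • y • (ω • g • v + ω • g • v + g • v) =
          g • (x • (ω • v + ω • v + v) + y • (ω • v + ω • v + v) + x • y • (ω • v + ω • v + v))
        simp only [smul_add, ← mul_smul, ← mul_assoc]
        simp only [mul_smul, ← hgO]
        simp only [← mul_smul, ← mul_assoc, hgx, hgy]
        rw [mul_assoc x g y, hgy, ← mul_assoc]
      rw [e, hv', ← DistribMulAction.toAddMonoidHom_apply, map_nsmul]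
      rfl
    let act : MulAction H Pn :=
      { smul := fun γ v => ⟨⟨(((γ : S.ker) : K) : D) • (v.1 : V), hCP γ _ v.1.2⟩, fun h => v.2 (Subtype.ext (by
          have := congrArg (fun u : P => (((γ : S.ker) : K) : D)⁻¹ • (u : V)) h
          simpa using this))⟩
        one_smul := fun v => Subtype.ext (Subtype.ext (one_smul D _))
        mul_smul := fun γ η v => Subtype.ext (Subtype.ext (mul_smul (((γ : S.ker) : K) : D) _ _)) }
    letI := act
    have hfree : ∀ v : Pn, MulAction.stabilizer H v = ⊥ := fun v => by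
      rw [Subgroup.eq_bot_iff_forall]
      intro γ hγ
      refine Subtype.ext (Subtype.ext (Subtype.ext (d.free _ (v.1 : V) (fun h => v.2 (Subtype.ext h)) ?_)))
      exact congrArg (fun u : Pn => (u.1 : V)) hγ
    have hdiv : h' ∣ s - 1 := by
      have e := Nat.card_congr (MulAction.selfEquivOrbitsQuotientProd hfree)
      rw [Nat.card_prod] at e
      have hPn : Nat.card Pn = s - 1 := by
        have := Fintype.ofFinite P
        simp only [Pn, s, Nat.card_eq_fintype_card, Fintype.card_subtype_compl,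
          Fintype.card_subtype_eq]
      rw [← hPn, e]
      exact dvd_mul_left _ _
    obtain ⟨k, hk'⟩ := hdiv
    obtain ⟨q, hq⟩ : 3 ∣ h' := by omega
    have hh0 : 0 < h' := by omega
    have hs2 : 2 ≤ s := by
      by_contra hlt
      interval_cases s <;> omega
    obtain ⟨u, hu⟩ : ∃ u, s = u + 1 := ⟨s - 1, by omega⟩
    rw [hu, Nat.add_sub_cancel] at hk'
    have hprod : k * (u + 2) = 24 := by
      refine Nat.eq_of_mul_eq_mul_left hh0 ?_
      rw [← mul_assoc, ← hk']
      rw [hu, ← hHcard] at hm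
      linarith
    have hule : u ≤ 22 := by
      have : 0 < k := Nat.pos_of_ne_zero fun h0 => by rw [h0, zero_mul] at hprod; omega
      have := Nat.le_mul_of_pos_left (u + 2) this
      omega
    have h3u : u = 3 * (q * k) := by rw [hk', hq, mul_assoc]
    rw [hu, ← hHcard, hq] at hm
    interval_cases u <;> omega
  -- an element of order three moving the classes
  have hK3 : ¬ 3 ∣ Nat.card K := by rw [hcardK]; omega
  obtain ⟨hπ3, hπ2, -⟩ := hA3 _ (hsign δ) hδ
  set φ := δ ^ Nat.card K with hφ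
  have hπφ : π φ ≠ 1 := by
    rw [hφ, map_pow]
    obtain ⟨q, hq⟩ : ∃ q, Nat.card K = 3 * q + 1 ∨ Nat.card K = 3 * q + 2 :=
      ⟨Nat.card K / 3, by omega⟩
    rcases hq with hq | hq <;> rw [hq, pow_add, pow_mul, pow_three', hπ3, one_pow, one_mul]
    · rwa [pow_one]
    · rwa [pow_two]
  have hφ3 : φ * φ * φ = 1 := by
    rw [← pow_three', hφ, ← pow_mul, mul_comm, pow_mul]
    have h := pow_card_eq_one' (x := (⟨δ ^ 3, MonoidHom.mem_ker.2 (by rw [map_pow, pow_three', hπ3])⟩ : K))
    exact congrArg Subtype.val h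
  have hφ1 : φ ≠ 1 := fun h => hπφ (by rw [h, map_one])
  have hφ0 : π φ 0 ≠ 0 := (hA3 _ (hsign φ) hπφ).2.2
  have hψ3 : y * φ * y⁻¹ * (y * φ * y⁻¹) * (y * φ * y⁻¹) = 1 := by
    calc _ = y * (φ * φ * φ) * y⁻¹ := by group
      _ = 1 := by rw [hφ3, mul_one, mul_inv_cancel]
  have e1 := inverts_of_order_three d hφ3 hφ1
  have e2 := inverts_of_order_three d hψ3 (fun h => hφ1 (by
    rw [mul_inv_eq_one, mul_eq_left] at h; exact h))
  have e3 : w * φ⁻¹ * w⁻¹ = y * φ⁻¹ * y⁻¹ := by
    rw [map_mul, map_mul, map_inv, e1] at e2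
    rcases hτy with h | h <;> rw [h] at e2
    · rw [e2]; group
    · rw [mul_inv_rev w z, show w * z * φ⁻¹ = w * φ⁻¹ * z from hzcz w φ⁻¹, ← mul_assoc,
        mul_inv_cancel_right] at e2
      rw [e2]; group
  have e4 : φ * x * φ⁻¹ = x := by
    have hconj : y⁻¹ * w = x * z := by
      rw [inv_mul_eq_iff_eq_mul, ← mul_assoc, hyx, mul_assoc, hzz, mul_one]; exact hw
    have e5 : (x * z) * φ⁻¹ = φ⁻¹ * (x * z) := by
      rw [← hconj]
      calc y⁻¹ * w * φ⁻¹ = y⁻¹ * (w * φ⁻¹ * w⁻¹) * w := by group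
        _ = y⁻¹ * (y * φ⁻¹ * y⁻¹) * w := by rw [e3]
        _ = _ := by group
    rw [hzcz, ← mul_assoc φ⁻¹] at e5
    have e6 : x * φ⁻¹ = φ⁻¹ * x := mul_right_cancel e5
    rw [mul_assoc, e6, mul_inv_cancel_left]
  exact hφ0 ((hπ φ 0).trans (hPuniq φ 0 0 (Or.inl e4)))

end Cfsg.Agent.Lib.Zassenhaus.SharpNearfield
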