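import Cfsg.Agent.Lib.Zassenhaus.SharpStructure
import Cfsg.Agent.Lib.Zassenhaus.SharpNearfield
import Cfsg.Agent.Lib.Zassenhaus.EvenPSL

/-!
# No simple Zassenhaus group has `|G_ab| = |Ω| - 2` even
-/

set_option autoImplicit false

namespace Cfsg.Agent.Lib.Zassenhaus

open MulAction

variable {G Ω : Type*} [Group G] [MulAction G Ω]

theorem sharp_even_false [Finite Ω] [IsSimpleGroup G] (hZ : Cfsg.IsZassenhausGroup G Ω) {a b : Ω}
    (hab : a ≠ b) (hd : Nat.card ↥(stabilizer G a ⊓ stabilizer G b) + 2 = Nat.card Ω)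
    (heven : Even (Nat.card ↥(stabilizer G a ⊓ stabilizer G b))) : False := by
  classical
  have := finite_group hZ
  obtain ⟨z, t, x, hzD, hz, ht, hta, htb, htz, ⟨c, htc⟩, hfix, hxD, hxt, hkey, hχ⟩ :=
    exists_sharp_datum hZ hab hd heven
  obtain ⟨U, hUa, hUn, hUc, hreg, hUz, hUcard, -⟩ := exists_abelian_kernel hZ hab hz hzD
  set D := stabilizer G a ⊓ stabilizer G b with hDdef
  have hti : t⁻¹ = t := inv_eq_of_mul_eq_one_right ht
  have hzi : z⁻¹ = z := inv_eq_of_mul_eq_one_right (by rw [← pow_two, ← hz, pow_orderOf_eq_one])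
  have hDa : ∀ δ : D, (δ : G) • a = a := fun δ => (mem_pair_stabilizer.1 δ.2).1
  have hDb : ∀ δ : D, (δ : G) • b = b := fun δ => (mem_pair_stabilizer.1 δ.2).2
  have hUfix : ∀ u : U, (u : G) • a = a := fun u => mem_stabilizer_iff.1 (hUa u.2)
  have hca : c ≠ a := fun h => hab (by rw [← hta, ← h, htc])
  have hcb : c ≠ b := fun h => hab (by rw [← htb, ← h, htc])
  obtain ⟨u₀, hu₀, -⟩ := hreg c hca
  have hub : ∀ u v : U, (u : G) • b = (v : G) • b → u = v := fun u v h =>
    (hreg ((v : G) • b) (fun h' => hab (MulAction.injective (v : G) ((hUfix v).trans h'.symm)))).unique h rfl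
  -- conjugation as an action on `Additive U`
  let conj : D → U → U := fun δ u => ⟨(δ : G) * u * (δ : G)⁻¹, hUn δ (hDa δ) u u.2⟩
  let _instComm : CommGroup U := { (inferInstance : Group U) with
    mul_comm := fun u v => Subtype.ext (hUc u u.2 v v.2) }
  let _instAct : DistribMulAction D (Additive U) :=
    { smul := fun δ v => Additive.ofMul (conj δ v.toMul)
      one_smul := fun v => congrArg Additive.ofMul (Subtype.ext (by simp [conj]; rfl))
      mul_smul := fun α β v => congrArg Additive.ofMul (Subtype.ext (by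
        show ((α * β : D) : G) * (v.toMul : G) * ((α * β : D) : G)⁻¹ =
          (α : G) * ((β : G) * (v.toMul : G) * (β : G)⁻¹) * (α : G)⁻¹
        rw [Subgroup.coe_mul]; group))
      smul_zero := fun δ => congrArg Additive.ofMul (Subtype.ext (by simp [conj]))
      smul_add := fun δ v w => congrArg Additive.ofMul (Subtype.ext (by
        show (δ : G) * ((v.toMul : G) * (w.toMul : G)) * (δ : G)⁻¹ =
          (δ : G) * (v.toMul : G) * (δ : G)⁻¹ * ((δ : G) * (w.toMul : G) * (δ : G)⁻¹)
        group)) }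
  have hsmul : ∀ (δ : D) (v : Additive U), ((δ • v).toMul : G) = (δ : G) * (v.toMul : G) * (δ : G)⁻¹ :=
    fun δ v => rfl
  have hpt : ∀ (δ : D) (v : Additive U), ((δ • v).toMul : G) • b = (δ : G) • (v.toMul : G) • b :=
    fun δ v => by rw [hsmul, mul_smul, mul_smul, inv_smul_eq_iff.2 (hDb δ).symm]
  let z' : D := ⟨z, hzD⟩
  let τ : D →* D := MonoidHom.mk' (fun δ => ⟨t * δ * t⁻¹, swap_conj_mem hta htb δ.2⟩)
    fun α β => Subtype.ext (by simp [mul_assoc])
  have hzc : z • c = ((u₀ : U) : G)⁻¹ • b := by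
    rw [← hu₀, ← mul_smul, ← hUz u₀ u₀.2, mul_smul (z * (u₀ : G)),
      inv_smul_eq_iff.2 (hDb z').symm, mul_smul]
  have htzc : t • z • c = z • c := by
    rw [← mul_smul, mul_inv_eq_iff_eq_mul.1 htz, mul_smul, htc]
  have hza : z • a = a := hDa z'
  have hzb : z • b = b := hDb z'
  -- the functional equation
  have hS : t * u₀ * t = u₀ * z * t * u₀ := by
    have hzcne : z • c ≠ a ∧ z • c ≠ b :=
      ⟨fun h => hca (MulAction.injective z (h.trans hza.symm)),
        fun h => hcb (MulAction.injective z (h.trans hzb.symm))⟩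
    have hzu : z * u₀ = (u₀ : G)⁻¹ * z := by
      rw [← hUz u₀ u₀.2]; group
    set g := t * (u₀ : G) * t
    set h := (u₀ : G) * z * t * u₀
    have e1 : g • a = h • a := by
      simp only [g, h, mul_smul, hta, htb, hUfix u₀, hu₀, htc, hzb]
    have e2 : g • b = h • b := by
      simp only [g, h, mul_smul, hta, htb, hUfix u₀, hu₀, htc]
      rw [hzc, smul_inv_smul]
    have e3 : g • z • c = h • z • c := by
      simp only [g, h, mul_smul]
      rw [htzc]
      conv_lhs => rw [hzc, smul_inv_smul, htb]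
      conv_rhs => rw [hzc, smul_inv_smul, htb, hza, hUfix u₀]
    exact inv_mul_eq_one.1 (eq_one_of_three hZ hab hzcne.2.symm hzcne.1.symm
      (by rw [mul_smul, ← e1, inv_smul_smul]) (by rw [mul_smul, ← e2, inv_smul_smul])
      (by rw [mul_smul, ← e3, inv_smul_smul]))
  have hne : u₀ ≠ 1 := fun h => hcb (by rw [← hu₀, h, Subgroup.coe_one, one_smul])
  have := Fintype.ofFinite Ω
  refine SharpNearfield.false_of_datum (D := D) (V := Additive U)
    { τ := τ
      one := Additive.ofMul u₀
      z := z'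
      x := ⟨x, hxD⟩
      one_ne := fun h => hne h
      ττ := fun δ => Subtype.ext (by
        show t * (t * (δ : G) * t⁻¹) * t⁻¹ = δ
        rw [hti]
        calc t * (t * (δ : G) * t) * t = (t * t) * δ * (t * t) := by group
          _ = δ := by rw [ht, one_mul, mul_one])
      free := ?_
      trans := ?_
      zz := Subtype.ext (show z * z = 1 by rw [← pow_two, ← hz, pow_orderOf_eq_one])
      z_ne := fun h => by rw [show z = 1 from congrArg Subtype.val h, orderOf_one] at hz; omega
      z_smul := fun v => congrArg Additive.ofMul (Subtype.ext (hUz _ v.toMul.2))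
      τz := Subtype.ext htz
      fix := fun δ h => (hfix δ δ.2 (congrArg Subtype.val h)).imp (fun e => Subtype.ext e)
        (fun e => Subtype.ext e)
      τx := Subtype.ext hxt
      key := fun y hy => (hkey y y.2 (congrArg Subtype.val hy)).imp (fun e => Subtype.ext e)
        (fun e => Subtype.ext e)
      noHom := hχ
      kt := ?_ }
  · intro δ v hv h
    have h1 : (δ : G) • (v.toMul : G) • b = (v.toMul : G) • b := by rw [← hpt, h]
    refine Subtype.ext (eq_one_of_three hZ hab ?_ ?_ (hDa δ) (hDb δ) h1)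
    · exact fun e => hv (hub v.toMul 1 (by rw [Subgroup.coe_one, one_smul]; exact e.symm))
    · exact fun e => hab (MulAction.injective (v.toMul : G) ((hUfix v.toMul).trans e))
  · -- a semiregular group of the right order is regular
    intro v hv
    let W := {w : Additive U // w ≠ 0}
    have := Fintype.ofFinite W
    have := Fintype.ofFinite D
    have hinj : Function.Injective (fun δ : D => (⟨δ • Additive.ofMul u₀, fun h => hne (by
        have := congrArg (fun w : Additive U => δ⁻¹ • w) h
        rw [inv_smul_smul, smul_zero] at this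
        exact this)⟩ : W)) := by
      intro α β h
      have h1 : (β⁻¹ * α) • Additive.ofMul u₀ = Additive.ofMul u₀ := by
        rw [mul_smul, show α • Additive.ofMul u₀ = β • Additive.ofMul u₀ from congrArg Subtype.val h,
          inv_smul_smul]
      refine (inv_mul_eq_one.1 (Subtype.ext (eq_one_of_three hZ hab hcb.symm hca.symm
        (hDa (β⁻¹ * α)) (hDb (β⁻¹ * α)) ?_))).symm
      rw [← hu₀]
      conv_lhs => rw [← toMul_ofMul u₀, ← hpt, h1, toMul_ofMul]
    have hsurj := ((Fintype.bijective_iff_injective_and_card _).2 ⟨hinj, by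
      rw [← Nat.card_eq_fintype_card, ← Nat.card_eq_fintype_card]
      have := Fintype.ofFinite (Additive U)
      have h2 : Nat.card W = Nat.card U - 1 := by
        rw [← Nat.card_congr (Additive.ofMul (α := U)).symm]
        simp only [W, Nat.card_eq_fintype_card, Fintype.card_subtype_compl, Fintype.card_subtype_eq]
      change Nat.card ↥D = Nat.card W
      omega⟩).2 ⟨v, hv⟩
    obtain ⟨δ, hδ⟩ := hsurj
    exact ⟨δ, congrArg Subtype.val hδ⟩
  · intro δ₁ δ₂ δ₃ h2 h3
    -- evaluate the equation at the point of `δ₁ • u₀`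
    have htD : ∀ δ : D, t • (δ : G) • c = (τ δ : G) • c := fun δ => by
      rw [show (τ δ : G) = t * δ * t⁻¹ from rfl, mul_smul, mul_smul, hti, htc]
    have hptc : ∀ δ : D, ((δ • Additive.ofMul u₀).toMul : G) • b = (δ : G) • c := fun δ => by
      rw [hpt, toMul_ofMul, hu₀]
    have h2' : (u₀ : G) • (δ₁ : G) • c = (δ₂ : G) • c := by
      rw [← hptc, ← hptc, h2, toMul_add, toMul_ofMul, Subgroup.coe_mul, mul_smul]
    have h3' : (u₀ : G) • (τ δ₁ : G) • c = (δ₃ : G) • c := by
      rw [← hptc, ← hptc, h3, toMul_add, toMul_ofMul, Subgroup.coe_mul, mul_smul]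
    refine congrArg Additive.ofMul (hub ((τ δ₃ • Additive.ofMul u₀).toMul)
      ((Additive.ofMul u₀ - τ δ₂ • Additive.ofMul u₀).toMul) ?_)
    have hneg : -(τ δ₂ • Additive.ofMul u₀) = z' • τ δ₂ • Additive.ofMul u₀ :=
      congrArg Additive.ofMul (Subtype.ext (hUz _ (τ δ₂ • Additive.ofMul u₀).toMul.2)).symm
    rw [sub_eq_add_neg, hneg, toMul_add, toMul_ofMul, Subgroup.coe_mul, mul_smul, hptc, hpt, hptc]
    have := congrArg (fun g : G => g • (δ₁ : G) • c) hS
    simp only [mul_smul] at this
    rw [h2', htD, h3', htD, htD] at this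
    exact this

/-- The two-point stabiliser acts semiregularly on the remaining points. -/
theorem card_pair_dvd [Finite Ω] (hZ : Cfsg.IsZassenhausGroup G Ω) {a b : Ω} (hab : a ≠ b) :
    Nat.card ↥(stabilizer G a ⊓ stabilizer G b) ∣ Nat.card Ω - 2 := by
  classical
  let R := {w : Ω // w ≠ a ∧ w ≠ b}
  let D := stabilizer G a ⊓ stabilizer G b
  let _instR : MulAction D R :=
    { smul := fun δ w => ⟨(δ : G) • w.1,
        fun h => w.2.1 (MulAction.injective (δ : G) (h.trans (mem_pair_stabilizer.1 δ.2).1.symm)),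
        fun h => w.2.2 (MulAction.injective (δ : G) (h.trans (mem_pair_stabilizer.1 δ.2).2.symm))⟩
      one_smul := fun w => Subtype.ext (one_smul G _)
      mul_smul := fun α β w => Subtype.ext (mul_smul (α : G) β _) }
  have hfree : ∀ w : R, stabilizer D w = ⊥ := fun w => (Subgroup.eq_bot_iff_forall _).2 fun δ hδ =>
    Subtype.ext (eq_one_of_three hZ hab (Ne.symm w.2.2) (Ne.symm w.2.1)
      (mem_pair_stabilizer.1 δ.2).1 (mem_pair_stabilizer.1 δ.2).2
      (congrArg Subtype.val (mem_stabilizer_iff.1 hδ)))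
  have e := Nat.card_congr (MulAction.selfEquivOrbitsQuotientProd hfree)
  rw [Nat.card_prod] at e
  have hR : Nat.card R = Nat.card Ω - 2 := by
    have h1 : ({a, b}ᶜ : Set Ω) = {w | w ≠ a ∧ w ≠ b} := by
      ext w; simp [not_or]
    rw [← Set.ncard_pair hab, ← Set.ncard_compl, h1, ← Nat.card_coe_set_eq]
    rfl
  exact ⟨_, by rw [← hR, e, mul_comm]⟩

/-- In a simple Zassenhaus group an even `|G_ab|` is `(|Ω| - 2) / 2`. -/
theorem two_mul_card_le_of_simple [Finite Ω] [IsSimpleGroup G]
    (hZ : Cfsg.IsZassenhausGroup G Ω) {a b : Ω} (hab : a ≠ b)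
    (heven : Even (Nat.card ↥(stabilizer G a ⊓ stabilizer G b))) :
    2 * Nat.card ↥(stabilizer G a ⊓ stabilizer G b) ≤ Nat.card Ω - 2 := by
  have := finite_group hZ
  obtain ⟨k, hk⟩ := card_pair_dvd hZ hab
  have h1 := (card_le_and_inverted hZ hab heven).1
  by_contra hlt
  rw [hk] at h1 hlt
  have hd : 0 < Nat.card ↥(stabilizer G a ⊓ stabilizer G b) := Nat.card_pos
  obtain ⟨c, hca, hcb⟩ := exists_third hZ a b
  have h3 : 3 ≤ Nat.card Ω := by
    have := Fintype.ofFinite Ω
    rw [Nat.card_eq_fintype_card]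
    exact Fintype.two_lt_card_iff.2 ⟨a, b, c, hab, hca.symm, hcb.symm⟩
  match k, hk with
  | 0, hk => simp at hk; omega
  | 1, hk => exact sharp_even_false hZ hab (by omega) heven
  | k + 2, hk => exact hlt (by nlinarith)

end Cfsg.Agent.Lib.Zassenhaus
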