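import Cfsg.Agent.Lib.Zassenhaus.AbelianChars
import Cfsg.Agent.Lib.Clifford.TICoherent
import Cfsg.Agent.S0852
import Cfsg.Agent.S0853

/-!
# Coherent TI subgroups with Frobenius normaliser

The arguments of `AbelianChars` for a coherent, not necessarily abelian, TI subgroup `K`.

* `involutions_only` : if `K` has an involution and two conjugates of it have product in `K` only
  trivially, `K` consists of `1` and involutions.
* `card_real_le` : at most `e + 1` irreducible characters of `G` are real.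
-/

set_option autoImplicit false
set_option linter.unusedSectionVars false

namespace Cfsg.Agent.Lib.Zassenhaus.CoherentChars

open scoped ComplexConjugate
open Cfsg.Agent.Lib.Characters.Basic
open Cfsg.Agent.Lib.Zassenhaus.AbelianChars (nrm RelChar pairs_sum exists_int_of_mul_eq card_nrm_sub)

universe u

variable {G : Type u} [Group G] [Fintype G] (K : Subgroup G)

/-- The characters of the normaliser that are not trivial on `K`. -/
abbrev relSet : Set (nrm K → ℂ) :=
  {χ | Cfsg.IsIrrCharacter (nrm K) χ ∧ ∃ k : nrm K, (k : G) ∈ K ∧ χ k ≠ χ 1}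

/-- The exceptional data, with the weights `w r = r(1) / e`. -/
structure Exc where
  ε : ℂ
  hε : ε = 1 ∨ ε = -1
  f : RelChar K → Cfsg.IrrCharacter G
  inj : Function.Injective f
  c : ℂ
  x : ℂ
  w : RelChar K → ℂ
  hx : x ≠ 0
  deg : ∀ r : RelChar K, (r.1 : nrm K → ℂ) 1 = ((K.subgroupOf (nrm K)).index : ℂ) * w r
  wconj : ∀ r, conj (w r) = w r
  wne : ∀ r, w r ≠ 0
  degf : ∀ r, (f r : G → ℂ) 1 = x * w r
  val : ∀ r, ∀ u : nrm K, (u : G) ∈ K → u ≠ 1 → (f r : G → ℂ) u = ε * (r.1 : nrm K → ℂ) u + c * w r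
  other : ∀ χ : Cfsg.IrrCharacter G, (∀ r, f r ≠ χ) → ∀ a ∈ K, ∀ b ∈ K, a ≠ 1 → b ≠ 1 →
    (χ : G → ℂ) a = (χ : G → ℂ) b

variable (hTI : ∀ g : G, g ∉ nrm K → ∀ k ∈ K, g * k * g⁻¹ ∈ K → k = 1) (hlt : K < nrm K)
  (hC : ∀ k ∈ K, k ≠ 1 → Subgroup.centralizer ({k} : Set G) ≤ K)
include hTI hlt hC

theorem exists_exc [Fintype (nrm K)] (htwo : ∃ χ ∈ relSet K, ∃ ξ ∈ relSet K, χ ≠ ξ)
    (hcoh : Cfsg.IsCoherent (relSet K) ({1}ᶜ : Set (nrm K))
      (fun α => Cfsg.indFun (nrm K) α)) : Nonempty (Exc K) := by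
  classical
  obtain ⟨-, star, hstar, hext⟩ := hcoh
  obtain ⟨m, hm⟩ := Cfsg.Agent.S0853.result K hTI hlt hC (relSet K) rfl htwo star hstar hext
  set e : ℂ := ((K.subgroupOf (nrm K)).index : ℂ) with he
  have he0 : e ≠ 0 := Nat.cast_ne_zero.2 Subgroup.index_ne_zero_of_finite
  have hmem : ∀ r : RelChar K, (r.1 : nrm K → ℂ) ∈ relSet K := fun r => ⟨r.1.2, r.2⟩
  have hdeg0 : ∀ r : RelChar K, (r.1 : nrm K → ℂ) 1 ≠ 0 := fun r => apply_one_ne_zero r.1
  have hsgn : ∀ r : RelChar K, ∃ (s : ℂ) (φ : Cfsg.IrrCharacter G),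
      (s = 1 ∨ s = -1) ∧ star r.1 = s • (φ : G → ℂ) := by
    intro r
    rcases Clifford.TICoherent.star_signed K rfl hstar (hmem r) with h | h
    · exact ⟨1, ⟨_, h⟩, Or.inl rfl, (one_smul ℂ _).symm⟩
    · exact ⟨-1, ⟨_, h⟩, Or.inr rfl, by simp⟩
  choose s f hs hsf using hsgn
  obtain ⟨χ₀, hχ₀, htwo'⟩ := htwo
  set r₀ : RelChar K := ⟨⟨χ₀, hχ₀.1⟩, hχ₀.2⟩ with hr₀
  have hprop : ∀ r : RelChar K,
      (r₀.1 : nrm K → ℂ) 1 * star r.1 1 = (r.1 : nrm K → ℂ) 1 * star r₀.1 1 := by
    intro r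
    have h := Clifford.TICoherent.comb_restrict K hTI hC rfl hstar hext (hmem r) (hmem r₀) 1
    simp only [Pi.sub_apply, Pi.smul_apply, smul_eq_mul, OneMemClass.coe_one] at h
    linear_combination -h
  -- all signs agree
  have hsign : ∀ r, s r = s r₀ := by
    intro r
    obtain ⟨a, hapos, ha⟩ := exists_degree_pos r.1
    obtain ⟨b, hbpos, hb⟩ := exists_degree_pos r₀.1
    obtain ⟨p, hppos, hp⟩ := exists_degree_pos (f r)
    obtain ⟨q, hqpos, hq⟩ := exists_degree_pos (f r₀)
    have h := hprop r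
    rw [hsf r, hsf r₀, Pi.smul_apply, Pi.smul_apply, smul_eq_mul, smul_eq_mul, ha, hb, hp, hq] at h
    have h1 : (0 : ℕ) < b * p := Nat.mul_pos hbpos hppos
    have h2 : (0 : ℕ) < a * q := Nat.mul_pos hapos hqpos
    rcases hs r with e1 | e1 <;> rcases hs r₀ with e2 | e2 <;> rw [e1, e2] <;> exfalso <;>
      rw [e1, e2] at h
    · have : ((b * p + a * q : ℕ) : ℂ) = 0 := by push_cast; linear_combination h
      rw [Nat.cast_eq_zero] at this; omega
    · have : ((b * p + a * q : ℕ) : ℂ) = 0 := by push_cast; linear_combination -h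
      rw [Nat.cast_eq_zero] at this; omega
  set ε := s r₀ with hεdef
  have hεε : ε * ε = 1 := by rcases hs r₀ with h | h <;> rw [hεdef, h] <;> norm_num
  have hfε : ∀ r g, (f r : G → ℂ) g = ε * star r.1 g := by
    intro r g
    rw [hsf r, hsign r, Pi.smul_apply, smul_eq_mul, ← mul_assoc, hεε, one_mul]
  have hinj : Function.Injective f := by
    intro r r' h
    by_contra hne
    have hs0 := hstar.2.2.1 _ (Isometry.Inner.subset_zspan _ (hmem r)) _
      (Isometry.Inner.subset_zspan _ (hmem r'))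
    rw [classInner_irr_of_ne (fun e => hne (Subtype.ext e)), hsf r, hsf r', h,
      Induced.Basic.classInner_smul_left, Induced.Basic.classInner_smul_right, classInner_self_irr,
      mul_one] at hs0
    rcases hs r with e1 | e1 <;> rcases hs r' with e2 | e2 <;> simp [e1, e2] at hs0
  have hx0 : (f r₀ : G → ℂ) 1 ≠ 0 := apply_one_ne_zero _
  have hw0 : (r₀.1 : nrm K → ℂ) 1 / e ≠ 0 := div_ne_zero (hdeg0 r₀) he0
  refine ⟨{ ε := ε, hε := hs r₀, f := f, inj := hinj, c := ε * (m : ℂ),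
            x := (f r₀ : G → ℂ) 1 / ((r₀.1 : nrm K → ℂ) 1 / e),
            w := fun r => (r.1 : nrm K → ℂ) 1 / e, hx := div_ne_zero hx0 hw0,
            deg := fun r => (mul_div_cancel₀ _ he0).symm,
            wconj := fun r => by rw [map_div₀, conj_apply_one (isCharacter_irr r.1), he, map_natCast],
            wne := fun r => div_ne_zero (hdeg0 r) he0,
            degf := fun r => ?_, val := fun r u hu hu1 => ?_, other := fun χ hχ => ?_ }⟩
  · have h := hprop r
    have h0 := hdeg0 r₀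
    rw [hfε r 1, hfε r₀ 1]
    field_simp
    linear_combination ε * h
  · rw [hfε r]
    have h := hm r.1 (hmem r) u hu hu1
    show ε * star r.1 (u : G) = _
    linear_combination ε * h
  · intro a ha b hb ha1 hb1
    by_contra hne
    obtain ⟨ψ, hψ, hor⟩ := (Cfsg.Agent.S0852.result K hTI hlt hC (relSet K) rfl
      ⟨χ₀, hχ₀, htwo'⟩ star hstar hext χ χ.2).2 ⟨a, ha, b, hb, ha1, hb1, hne⟩
    refine hχ ⟨⟨ψ, hψ.1⟩, hψ.2⟩ (Subtype.ext (funext fun g => ?_))
    have h1 := hfε ⟨⟨ψ, hψ.1⟩, hψ.2⟩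
    rcases hor with e1 | e1
    · rcases hs r₀ with h | h
      · rw [h1 g, hεdef, h, one_mul, e1]
      · exfalso
        obtain ⟨p, hppos, hp⟩ := exists_degree_pos (f ⟨⟨ψ, hψ.1⟩, hψ.2⟩)
        obtain ⟨q, hqpos, hq⟩ := exists_degree_pos χ
        have h2 := h1 1
        rw [hεdef, h, hp, ← e1, hq] at h2
        have : ((p + q : ℕ) : ℂ) = 0 := by push_cast; linear_combination h2
        rw [Nat.cast_eq_zero] at this; omega
    · rcases hs r₀ with h | h
      · exfalso
        obtain ⟨p, hppos, hp⟩ := exists_degree_pos (f ⟨⟨ψ, hψ.1⟩, hψ.2⟩)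
        obtain ⟨q, hqpos, hq⟩ := exists_degree_pos χ
        have h2 := h1 1
        have h3 : star ψ 1 = -(χ : G → ℂ) 1 := by rw [e1]; simp
        rw [hεdef, h, hp, h3, hq] at h2
        have : ((p + q : ℕ) : ℂ) = 0 := by push_cast; linear_combination h2
        rw [Nat.cast_eq_zero] at this; omega
      · rw [h1 g, hεdef, h, e1]; simp

omit hTI hlt hC in
/-- The centraliser in the normaliser. -/
theorem card_centralizer_nrm (hC : ∀ k ∈ K, k ≠ 1 → Subgroup.centralizer ({k} : Set G) ≤ K)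
    {g : nrm K} (hg : (g : G) ∈ K) (hg1 : g ≠ 1) :
    Nat.card (Subgroup.centralizer ({g} : Set (nrm K))) =
      Nat.card (Subgroup.centralizer ({(g : G)} : Set G)) := by
  refine Nat.card_eq_of_bijective (fun x => (⟨((x : nrm K) : G), ?_⟩ :
    Subgroup.centralizer ({(g : G)} : Set G))) ⟨fun x y h => ?_, fun y => ?_⟩
  · exact Subgroup.mem_centralizer_singleton_iff.2
      (congrArg Subtype.val (Subgroup.mem_centralizer_singleton_iff.1 x.2))
  · exact Subtype.ext (Subtype.ext (congrArg (fun z : Subgroup.centralizer ({(g : G)} : Set G) => (z : G)) h))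
  · exact ⟨⟨⟨y, Subgroup.le_normalizer (hC g hg (fun e => hg1 (Subtype.ext e)) y.2)⟩,
      Subgroup.mem_centralizer_singleton_iff.2
        (Subtype.ext (Subgroup.mem_centralizer_singleton_iff.1 y.2))⟩, rfl⟩

/-- The column sums over the relevant characters. -/
theorem rel_columns [Fintype (RelChar K)] (E : Exc K) {g : nrm K} (hg : (g : G) ∈ K) (hg1 : g ≠ 1) :
    (∑ r : RelChar K, E.w r * (r.1 : nrm K → ℂ) g = -1) ∧
      (∑ r : RelChar K, (r.1 : nrm K → ℂ) g * conj ((r.1 : nrm K → ℂ) g) =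
        (Nat.card (Subgroup.centralizer ({(g : G)} : Set G)) : ℂ) -
          ((K.subgroupOf (nrm K)).index : ℂ)) ∧
      ((K.subgroupOf (nrm K)).index : ℂ) * ∑ r : RelChar K, E.w r * E.w r =
        (Nat.card K : ℂ) - 1 := by
  classical
  have := Fintype.ofFinite (Cfsg.IrrCharacter (nrm K))
  set K' : Subgroup (nrm K) := K.subgroupOf (nrm K)
  have hsum : ∀ F : Cfsg.IrrCharacter (nrm K) → ℂ, ∑ r : RelChar K, F r.1 =
      ∑ χ ∈ Finset.univ.filter
        (fun χ : Cfsg.IrrCharacter (nrm K) => Clifford.KernelChars.Rel K' (χ : nrm K → ℂ)), F χ :=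
    fun F => (Finset.sum_subtype (Finset.univ.filter
      (fun χ : Cfsg.IrrCharacter (nrm K) => Clifford.KernelChars.Rel K' (χ : nrm K → ℂ)))
      (fun χ => by simp [Clifford.KernelChars.Rel, K', Subgroup.mem_subgroupOf]) F).symm
  refine ⟨?_, ?_, ?_⟩
  · have h := Characters.Complete.sum_degree_mul_apply g
    rw [if_neg hg1, ← Finset.sum_filter_add_sum_filter_not Finset.univ
      (fun χ : Cfsg.IrrCharacter (nrm K) => Clifford.KernelChars.Rel K' (χ : nrm K → ℂ)),
      Clifford.KernelChars.sum_not_rel K' hg, ← hsum (fun χ => (χ : nrm K → ℂ) 1 * (χ : nrm K → ℂ) g),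
      Finset.sum_congr rfl (g := fun r : RelChar K =>
        (K'.index : ℂ) * (E.w r * (r.1 : nrm K → ℂ) g)) (fun r _ => by rw [E.deg r, mul_assoc]),
      ← Finset.mul_sum] at h
    refine mul_left_cancel₀ (Clifford.KernelChars.index_ne_zero K') ?_
    linear_combination h
  · rw [hsum (fun χ => (χ : nrm K → ℂ) g * conj ((χ : nrm K → ℂ) g)),
      Clifford.KernelChars.sum_rel_norm K' hg, card_centralizer_nrm K hC hg hg1]
  · have h := Clifford.KernelChars.sum_rel_sq K'
    rw [← hsum (fun χ => (χ : nrm K → ℂ) 1 ^ 2), card_nrm_sub K,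
      Finset.sum_congr rfl (g := fun r : RelChar K => (K'.index : ℂ) * ((K'.index : ℂ) * (E.w r * E.w r)))
        (fun r _ => by rw [E.deg r]; ring), ← Finset.mul_sum, ← Finset.mul_sum] at h
    exact mul_left_cancel₀ (Clifford.KernelChars.index_ne_zero K') h

/-- The norm of the exceptional part of a column. -/
theorem exc_column [Fintype (RelChar K)] (E : Exc K) {g : nrm K} (hg : (g : G) ∈ K) (hg1 : g ≠ 1) :
    ∑ r : RelChar K, Complex.normSq ((E.f r : G → ℂ) g) =
      (Nat.card (Subgroup.centralizer ({(g : G)} : Set G)) : ℝ) -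
        ((K.subgroupOf (nrm K)).index : ℝ) - 2 * (E.ε * E.c).re +
        ((Nat.card K : ℝ) - 1) / ((K.subgroupOf (nrm K)).index : ℝ) *
          Complex.normSq (E.ε * E.c) := by
  obtain ⟨h1, h2, h3⟩ := rel_columns K hTI hlt hC E hg hg1
  have hεn : Complex.normSq E.ε = 1 := by rcases E.hε with h | h <;> simp [h]
  have he0 : ((K.subgroupOf (nrm K)).index : ℝ) ≠ 0 :=
    Nat.cast_ne_zero.2 Subgroup.index_ne_zero_of_finite
  have hval : ∀ r : RelChar K, Complex.normSq ((E.f r : G → ℂ) g) =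
      Complex.normSq ((r.1 : nrm K → ℂ) g) +
        2 * (E.w r * (r.1 : nrm K → ℂ) g * conj (E.ε * E.c)).re +
        Complex.normSq (E.w r) * Complex.normSq (E.ε * E.c) := by
    intro r
    rw [E.val r g hg hg1, show E.ε * (r.1 : nrm K → ℂ) g + E.c * E.w r =
      E.ε * ((r.1 : nrm K → ℂ) g + E.ε * E.c * E.w r) by
        rcases E.hε with h | h <;> rw [h] <;> ring, map_mul, hεn, one_mul, Complex.normSq_add,
      map_mul Complex.normSq _ (E.w r), map_mul (starRingEnd ℂ) _ (E.w r), E.wconj r,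
      show (r.1 : nrm K → ℂ) g * ((starRingEnd ℂ) (E.ε * E.c) * E.w r) =
        E.w r * (r.1 : nrm K → ℂ) g * (starRingEnd ℂ) (E.ε * E.c) by ring]
    ring
  have h2' : ∑ r : RelChar K, Complex.normSq ((r.1 : nrm K → ℂ) g) =
      (Nat.card (Subgroup.centralizer ({(g : G)} : Set G)) : ℝ) -
        ((K.subgroupOf (nrm K)).index : ℝ) := by
    apply Complex.ofReal_injective
    push_cast
    rw [← h2]
    simp [Complex.mul_conj]
  have h3' : ∑ r : RelChar K, Complex.normSq (E.w r) =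
      ((Nat.card K : ℝ) - 1) / ((K.subgroupOf (nrm K)).index : ℝ) := by
    rw [eq_div_iff he0]
    apply Complex.ofReal_injective
    push_cast
    rw [← h3, mul_comm]
    congr 1
    exact Finset.sum_congr rfl fun r _ => by rw [← Complex.mul_conj, E.wconj r]
  rw [Finset.sum_congr rfl fun r _ => hval r, Finset.sum_add_distrib, Finset.sum_add_distrib, h2',
    ← Finset.mul_sum, ← Complex.re_sum, ← Finset.sum_mul, ← Finset.sum_mul, h1, h3']
  simp only [neg_mul, one_mul, Complex.neg_re, Complex.conj_re]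
  ring

/-- A column of an element of `K`. -/
theorem column_eq [Fintype (Cfsg.IrrCharacter G)] {g : G} :
    ∑ χ : Cfsg.IrrCharacter G, Complex.normSq ((χ : G → ℂ) g) =
      (Nat.card (Subgroup.centralizer ({g} : Set G)) : ℝ) := by
  apply Complex.ofReal_injective
  push_cast
  have h := Characters.Complete.sum_irr_mul_conj g g
  rw [if_pos (IsConj.refl g)] at h
  rw [← h]
  exact Finset.sum_congr rfl fun χ _ => (Complex.mul_conj _).symm

set_option maxHeartbeats 1600000 in
/-- An involution in `K` whose conjugates multiply into `K` only inside `K`: for `e ≥ 3` and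
`(e + 1)² ≤ |K|` this is impossible unless every element of `K` squares to `1`. -/
theorem involutions_only (E : Exc K) {i : G} (hiK : i ∈ K) (hi : orderOf i = 2)
    (he : 3 ≤ (K.subgroupOf (nrm K)).index)
    (hK : ((K.subgroupOf (nrm K)).index + 1) ^ 2 ≤ Nat.card K)
    (hG : (K.subgroupOf (nrm K)).index * Nat.card K ^ 2 ≤ Nat.card G)
    (hclass : Nat.card {v : G // v ∈ K ∧ v * v = 1 ∧ v ≠ 1} = (K.subgroupOf (nrm K)).index)
    (hconj : ∀ v ∈ K, v * v = 1 → v ≠ 1 → ∃ g : nrm K, (g : G) * i * (g : G)⁻¹ = v)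
    (hinvc : ∀ v ∈ K, v * v = 1 → ∀ x ∈ K, x * v = v * x)
    (hprod : ∀ a b : G, a * i * a⁻¹ * (b * i * b⁻¹) ∈ K → a * i * a⁻¹ * (b * i * b⁻¹) ≠ 1 →
      a * i * a⁻¹ ∈ K ∧ b * i * b⁻¹ ∈ K) : ∀ u ∈ K, u * u = 1 := by
  classical
  set e := (K.subgroupOf (nrm K)).index with hedef
  intro u hu
  by_contra huu
  have hu1 : u ≠ 1 := fun h => huu (by rw [h, one_mul])
  have hii : i * i = 1 := by rw [← pow_two, ← hi, pow_orderOf_eq_one]
  have hi1 : i ≠ 1 := fun h => by rw [h, orderOf_one] at hi; omega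
  have hiinv : i⁻¹ = i := inv_eq_of_mul_eq_one_right hii
  have := Fintype.ofFinite (RelChar K)
  have := Fintype.ofFinite (Cfsg.IrrCharacter G)
  have := Fintype.ofFinite (Cfsg.IrrCharacter (nrm K))
  set m := Nat.card K with hm
  let iN : nrm K := ⟨i, Subgroup.le_normalizer hiK⟩
  let uN : nrm K := ⟨u, Subgroup.le_normalizer hu⟩
  have hiN1 : iN ≠ 1 := fun h => hi1 (congrArg Subtype.val h)
  have huN1 : uN ≠ 1 := fun h => hu1 (congrArg Subtype.val h)
  -- the pair counts, uniformly in `H = G` and `H = N`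
  have hcount : ∀ (H : Type u) [Group H] [Fintype H] [Fintype (Cfsg.IrrCharacter H)] (φ : H →* G),
      Function.Injective φ → (∀ v ∈ K, v * v = 1 → v ≠ 1 → ∃ g : H, φ g * i * (φ g)⁻¹ = v) →
      ∀ (iH uH : H), φ iH = i → φ uH = u →
      Nat.card (Subgroup.centralizer ({iH} : Set H)) = m →
      (Nat.card H : ℂ) * ∑ χ : Cfsg.IrrCharacter H, (χ : H → ℂ) iH * (χ : H → ℂ) iH *
          (conj ((χ : H → ℂ) uH) - conj ((χ : H → ℂ) iH)) / (χ : H → ℂ) 1 =
        -((m : ℂ) ^ 2 * ((e : ℂ) - 1)) := by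
    intro H _ _ _ φ hφ hex iH uH hiH huH hcen
    simp only [mul_sub, sub_div, Finset.sum_sub_distrib]
    rw [← pairs_sum, ← pairs_sum]
    have hzero : IsEmpty {p : H × H // p.1 * iH * p.1⁻¹ * (p.2 * iH * p.2⁻¹) = uH} := by
      refine ⟨fun p => huu ?_⟩
      have h := congrArg φ p.2
      simp only [map_mul, map_inv, hiH, huH] at h
      obtain ⟨h1, h2⟩ := hprod _ _ (by rw [h]; exact hu) (by rw [h]; exact hu1)
      have hsq : ∀ a : G, a * i * a⁻¹ * (a * i * a⁻¹) = 1 := fun a => by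
        calc a * i * a⁻¹ * (a * i * a⁻¹) = a * (i * i) * a⁻¹ := by group
          _ = 1 := by rw [hii, mul_one, mul_inv_cancel]
      rw [← h]
      generalize hX : φ p.1.1 * i * (φ p.1.1)⁻¹ = X at h1
      generalize hY : φ p.1.2 * i * (φ p.1.2)⁻¹ = Y at h2
      calc X * Y * (X * Y) = X * (Y * X) * Y := by group
        _ = X * (X * Y) * Y := by rw [hinvc X h1 (by rw [← hX]; exact hsq _) Y h2]
        _ = (X * X) * (Y * Y) := by group
        _ = 1 := by rw [← hX, ← hY, hsq, hsq, one_mul]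
    rw [Nat.card_of_isEmpty, Nat.cast_zero, zero_sub, neg_inj]
    -- pairs with product `i`
    let V := {v : G // v ∈ K ∧ v * v = 1 ∧ v ≠ 1 ∧ v ≠ i}
    have hV : Nat.card V + 1 = e := by
      rw [← hclass, Nat.card_eq_fintype_card, Nat.card_eq_fintype_card, Fintype.card_subtype,
        Fintype.card_subtype]
      have heq : Finset.univ.filter (fun v : G => v ∈ K ∧ v * v = 1 ∧ v ≠ 1 ∧ v ≠ i) =
          (Finset.univ.filter fun v : G => v ∈ K ∧ v * v = 1 ∧ v ≠ 1).erase i := by
        ext v; simp; tauto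
      rw [heq, Finset.card_erase_add_one]
      simp [hiK, hii, hi1]
    have hfib : ∀ v : G, v ∈ K → v * v = 1 → v ≠ 1 →
        Nat.card {a : H // φ a * i * (φ a)⁻¹ = v} = m := by
      intro v hv hvv hv1
      obtain ⟨g, hg⟩ := hex v hv hvv hv1
      rw [← hcen]
      refine Nat.card_congr (Equiv.subtypeEquiv (Equiv.mulLeft g⁻¹) fun a => ?_)
      rw [Subgroup.mem_centralizer_singleton_iff, show Equiv.mulLeft g⁻¹ a = g⁻¹ * a from rfl, ← hg]
      constructor
      · intro h
        apply hφ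
        simp only [map_mul, map_inv, hiH]
        calc (φ g)⁻¹ * φ a * i = (φ g)⁻¹ * (φ a * i * (φ a)⁻¹) * φ a := by group
          _ = i * ((φ g)⁻¹ * φ a) := by rw [h]; group
      · intro h
        have h' := congrArg φ h
        simp only [map_mul, map_inv, hiH] at h'
        calc φ a * i * (φ a)⁻¹ = φ g * ((φ g)⁻¹ * φ a * i) * (φ a)⁻¹ := by group
          _ = φ g * i * (φ g)⁻¹ := by rw [h']; group
    let T := {p : H × H // p.1 * iH * p.1⁻¹ * (p.2 * iH * p.2⁻¹) = iH}
    have hT : ∀ p : T, φ p.1.1 * i * (φ p.1.1)⁻¹ ∈ K ∧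
        φ p.1.2 * i * (φ p.1.2)⁻¹ = φ p.1.1 * i * (φ p.1.1)⁻¹ * i := by
      intro p
      have h := congrArg φ p.2
      simp only [map_mul, map_inv, hiH] at h
      refine ⟨(hprod _ _ (by rw [h]; exact hiK) (by rw [h]; exact hi1)).1, ?_⟩
      conv_rhs => arg 2; rw [← h]
      rw [← mul_assoc, show φ p.1.1 * i * (φ p.1.1)⁻¹ * (φ p.1.1 * i * (φ p.1.1)⁻¹) =
        φ p.1.1 * (i * i) * (φ p.1.1)⁻¹ by group, hii, mul_one, mul_inv_cancel, one_mul]
    have hmem : ∀ p : T, φ p.1.1 * i * (φ p.1.1)⁻¹ * (φ p.1.1 * i * (φ p.1.1)⁻¹) = 1 ∧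
        φ p.1.1 * i * (φ p.1.1)⁻¹ ≠ 1 ∧ φ p.1.1 * i * (φ p.1.1)⁻¹ ≠ i := by
      intro p
      refine ⟨?_, fun h => hi1 ?_, fun h => hi1 ?_⟩
      · calc _ = φ p.1.1 * (i * i) * (φ p.1.1)⁻¹ := by group
          _ = 1 := by rw [hii, mul_one, mul_inv_cancel]
      · rwa [mul_inv_eq_one, mul_eq_left] at h
      · have h2 := (hT p).2
        rw [h, hii, mul_inv_eq_one, mul_eq_left] at h2
        exact h2
    let e1 : T ≃ Σ v : V, {a : H // φ a * i * (φ a)⁻¹ = v.1} × {b : H // φ b * i * (φ b)⁻¹ = v.1 * i} :=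
      { toFun := fun p => ⟨⟨_, (hT p).1, hmem p⟩, ⟨p.1.1, rfl⟩, ⟨p.1.2, (hT p).2⟩⟩
        invFun := fun q => ⟨(q.2.1.1, q.2.2.1), hφ (by
          simp only [map_mul, map_inv, hiH]
          rw [q.2.1.2, q.2.2.2, ← mul_assoc, q.1.2.2.1, one_mul])⟩
        left_inv := fun p => rfl
        right_inv := fun q => by
          obtain ⟨⟨v, hv⟩, ⟨a, ha⟩, ⟨b, hb⟩⟩ := q
          simp only at ha
          subst ha
          rfl }
    have := Fintype.ofFinite V
    rw [Nat.card_congr e1, Nat.card_sigma, Finset.sum_congr rfl fun v _ => by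
      rw [Nat.card_prod, hfib v.1 v.2.1 v.2.2.1 v.2.2.2.1, hfib (v.1 * i) (mul_mem v.2.1 hiK)
        (by rw [mul_assoc, ← mul_assoc i, (hinvc i hiK hii v.1 v.2.1).symm, mul_assoc v.1, hii, mul_one, v.2.2.1])
        (fun h => v.2.2.2.2 (by rw [eq_inv_of_mul_eq_one_left h, hiinv]))],
      Finset.sum_const, Finset.card_univ, ← Nat.card_eq_fintype_card, smul_eq_mul]
    have : (Nat.card V : ℂ) = (e : ℂ) - 1 := by rw [← hV]; push_cast; ring
    push_cast
    rw [this]
    ring
  have hcenG : Subgroup.centralizer ({i} : Set G) = K := le_antisymm (hC i hiK hi1) fun x hx =>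
    Subgroup.mem_centralizer_singleton_iff.2 (hinvc i hiK hii x hx)
  have hcenN : Nat.card (Subgroup.centralizer ({iN} : Set (nrm K))) = m := by
    rw [card_centralizer_nrm K hC (show (iN : G) ∈ K from hiK) hiN1, hcenG]
  have hGsum := hcount G (MonoidHom.id G) Function.injective_id
    (fun v hv hvv hv1 => (hconj v hv hvv hv1).imp' Subtype.val fun g hg => hg) i u rfl rfl
    (by rw [hcenG])
  have hNsum := hcount (nrm K) (nrm K).subtype Subtype.val_injective hconj iN uN rfl rfl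
    hcenN
  -- only relevant / exceptional characters contribute
  have hne : ¬ IsConj iN uN := fun h => by
    obtain ⟨g, hg⟩ := isConj_iff.1 h
    apply huu
    have e1 : u = (g : G) * i * (g : G)⁻¹ := (congrArg Subtype.val hg).symm
    rw [e1]
    calc (g : G) * i * (g : G)⁻¹ * ((g : G) * i * (g : G)⁻¹) = (g : G) * (i * i) * (g : G)⁻¹ := by group
      _ = 1 := by rw [hii, mul_one, mul_inv_cancel]
  let Δ : RelChar K → ℂ := fun r => conj ((r.1 : nrm K → ℂ) uN) - conj ((r.1 : nrm K → ℂ) iN)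
  set th : RelChar K → ℂ := fun r => (r.1 : nrm K → ℂ) iN with hth
  have hrel : ∀ F : Cfsg.IrrCharacter (nrm K) → ℂ,
      (∀ χ : Cfsg.IrrCharacter (nrm K),
        (χ : nrm K → ℂ) uN = (χ : nrm K → ℂ) iN → F χ = 0) →
      ∑ χ, F χ = ∑ r : RelChar K, F r.1 := by
    intro F hF
    rw [← Finset.sum_subset (s₁ := Finset.univ.image (fun r : RelChar K => r.1))
      (Finset.subset_univ _) (fun χ _ hχ => hF χ ?_), Finset.sum_image (by simp)]
    have hnot : ∀ k : nrm K, (k : G) ∈ K → (χ : nrm K → ℂ) k = (χ : nrm K → ℂ) 1 := fun k hk => by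
      by_contra h
      exact hχ (Finset.mem_image.2 ⟨⟨χ, k, hk, h⟩, Finset.mem_univ _, rfl⟩)
    rw [hnot uN hu, hnot iN hiK]
  have D1 : ∑ r, E.w r * Δ r = 0 := by
    have a1 := congrArg (starRingEnd ℂ) (rel_columns K hTI hlt hC E (show (uN : G) ∈ K from hu) huN1).1
    have a2 := congrArg (starRingEnd ℂ) (rel_columns K hTI hlt hC E (show (iN : G) ∈ K from hiK) hiN1).1
    simp only [map_sum, map_mul, E.wconj] at a1 a2
    simp only [Δ, mul_sub, Finset.sum_sub_distrib, a1, a2, sub_self]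
  have D2 : ∑ r, th r * Δ r = -(m : ℂ) := by
    have h := Characters.Complete.sum_irr_mul_conj iN uN
    have h' := Characters.Complete.sum_irr_mul_conj iN iN
    rw [if_neg hne] at h
    rw [if_pos (IsConj.refl _), hcenN] at h'
    rw [← hrel (fun χ => (χ : nrm K → ℂ) iN * (conj ((χ : nrm K → ℂ) uN) - conj ((χ : nrm K → ℂ) iN)))
      (fun χ h => by rw [h, sub_self, mul_zero]), Finset.sum_congr rfl fun χ _ => mul_sub _ _ _,
      Finset.sum_sub_distrib, h, h', zero_sub]
  have he0 : (e : ℂ) ≠ 0 := Nat.cast_ne_zero.2 (by omega)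
  have hm0 : 0 < m := Nat.card_pos
  have hmC : (m : ℂ) ≠ 0 := Nat.cast_ne_zero.2 hm0.ne'
  have hNcard : (Nat.card (nrm K) : ℂ) = (m : ℂ) * (e : ℂ) := by
    rw [← (K.subgroupOf (nrm K)).card_mul_index, card_nrm_sub, Nat.cast_mul]
  have D3 : ∑ r, th r * th r * Δ r / E.w r = -((m : ℂ) * ((e : ℂ) - 1)) := by
    rw [hrel _ (fun χ h => by rw [h, sub_self, mul_zero, zero_div]),
      Finset.sum_congr rfl (g := fun r => th r * th r * Δ r / E.w r / (e : ℂ)) fun r _ => by
        rw [E.deg r, div_div, mul_comm (E.w r)], ← Finset.sum_div, hNcard] at hNsum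
    generalize (∑ r, th r * th r * Δ r / E.w r) = S3 at hNsum ⊢
    field_simp at hNsum
    linear_combination hNsum
  -- the same for `G`
  have hεε : E.ε * E.ε = 1 := by rcases E.hε with h | h <;> rw [h] <;> norm_num
  have hεc : conj E.ε = E.ε := by rcases E.hε with h | h <;> rw [h] <;> simp
  have hGimg : ∑ χ : Cfsg.IrrCharacter G, (χ : G → ℂ) i * (χ : G → ℂ) i *
      (conj ((χ : G → ℂ) u) - conj ((χ : G → ℂ) i)) / (χ : G → ℂ) 1 =
      ∑ r : RelChar K, (E.ε * th r + E.c * E.w r) * (E.ε * th r + E.c * E.w r) * (E.ε * Δ r) / (E.x * E.w r) := by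
    rw [← Finset.sum_subset (s₁ := Finset.univ.image E.f) (Finset.subset_univ _) (fun χ _ hχ => by
        rw [E.other χ (fun r h => hχ (Finset.mem_image.2 ⟨r, Finset.mem_univ _, h⟩)) u hu i hiK hu1 hi1,
          sub_self, mul_zero, zero_div]), Finset.sum_image (fun a _ b _ h => E.inj h)]
    refine Finset.sum_congr rfl fun r _ => ?_
    have v1 := E.val r iN hiK hiN1
    have v2 := E.val r uN hu huN1
    rw [E.degf r, show (E.f r : G → ℂ) i = _ from v1, show (E.f r : G → ℂ) u = _ from v2]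
    simp only [map_add, map_mul, hεc, th, Δ]
    ring
  rw [hGimg] at hGsum
  set A : ℂ := (e : ℂ) - 1 + 2 * (E.ε * E.c) with hA
  have hsum3 : ∑ r : RelChar K, (E.ε * th r + E.c * E.w r) * (E.ε * th r + E.c * E.w r) * (E.ε * Δ r) / (E.x * E.w r) =
      -((m : ℂ) * E.ε * A) / E.x := by
    calc ∑ r : RelChar K, (E.ε * th r + E.c * E.w r) * (E.ε * th r + E.c * E.w r) * (E.ε * Δ r) / (E.x * E.w r)
        = ∑ r : RelChar K, ((E.ε * E.ε) * E.ε * (th r * th r * Δ r / E.w r) +
            2 * (E.ε * E.ε) * E.c * (th r * Δ r) + E.c * E.c * E.ε * (E.w r * Δ r)) / E.x :=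
          Finset.sum_congr rfl fun r _ => by
            have h1 := E.wne r
            have h2 := E.hx
            field_simp
            ring
      _ = _ := by
          rw [← Finset.sum_div]
          congr 1
          rw [Finset.sum_add_distrib, Finset.sum_add_distrib, ← Finset.mul_sum, ← Finset.mul_sum,
            ← Finset.mul_sum, D1, D2, D3, hA, hεε]
          linear_combination (2 * (m : ℂ) * E.c) * hεε
  rw [hsum3] at hGsum
  have hx0 : E.x ≠ 0 := E.hx
  field_simp at hGsum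
  -- norms
  obtain ⟨k, hk⟩ : ∃ k : ℝ, k = ((Nat.card K : ℝ) - 1) / ((K.subgroupOf (nrm K)).index : ℝ) := ⟨_, rfl⟩
  have hkm : k * e + 1 = m := by
    rw [hk, hedef, hm]
    field_simp [show ((K.subgroupOf (nrm K)).index : ℝ) ≠ 0 from
      Nat.cast_ne_zero.2 Subgroup.index_ne_zero_of_finite]
    ring
  set t : ℂ := E.ε * E.c with ht
  have hG2 : k * Complex.normSq E.x ≤ Nat.card G := by
    have hsq := Characters.Complete.finsum_degree_sq (G := G)
    rw [finsum_eq_sum_of_fintype] at hsq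
    have hr : ∑ χ : Cfsg.IrrCharacter G, Complex.normSq ((χ : G → ℂ) 1) = (Nat.card G : ℝ) := by
      apply Complex.ofReal_injective
      push_cast
      rw [← hsq]
      refine Finset.sum_congr rfl fun χ _ => ?_
      rw [← Complex.mul_conj, conj_apply_one (isCharacter_irr χ), pow_two]
    have hkw : k * Complex.normSq E.x = ∑ r : RelChar K, Complex.normSq ((E.f r : G → ℂ) 1) := by
      rw [Finset.sum_congr rfl fun r _ => by rw [E.degf r, map_mul], ← Finset.mul_sum, mul_comm]
      congr 1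
      apply Complex.ofReal_injective
      push_cast
      have h3 := (rel_columns K hTI hlt hC E (show (iN : G) ∈ K from hiK) hiN1).2.2
      rw [hk]
      push_cast
      rw [div_eq_iff (Nat.cast_ne_zero.2 Subgroup.index_ne_zero_of_finite), ← h3, mul_comm]
      congr 1
      exact Finset.sum_congr rfl fun r _ => by rw [← Complex.mul_conj, E.wconj r]
    rw [← hr, hkw, ← Finset.sum_image (f := fun χ : Cfsg.IrrCharacter G => Complex.normSq ((χ : G → ℂ) 1))
      (fun a _ b _ h => E.inj h)]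
    exact Finset.sum_le_sum_of_subset_of_nonneg (Finset.subset_univ _) fun _ _ _ =>
      Complex.normSq_nonneg _
  have hcol : (m : ℝ) - e - 2 * t.re + k * Complex.normSq t ≤ m := by
    have h := exc_column K hTI hlt hC E (show (iN : G) ∈ K from hiK) hiN1
    have h' := column_eq K hTI hlt hC (g := i)
    rw [show ((iN : G)) = i from rfl, hcenG] at h
    rw [hcenG] at h'
    rw [hk, ht, hedef, hm, ← h]
    conv_rhs => rw [← h']
    rw [← Finset.sum_image (f := fun χ : Cfsg.IrrCharacter G => Complex.normSq ((χ : G → ℂ) i))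
      (fun a _ b _ h => E.inj h)]
    exact Finset.sum_le_sum_of_subset_of_nonneg (Finset.subset_univ _) fun _ _ _ =>
      Complex.normSq_nonneg _
  have hgs : (Nat.card G : ℝ) ^ 2 * Complex.normSq A =
      (m : ℝ) ^ 2 * ((e : ℝ) - 1) ^ 2 * Complex.normSq E.x := by
    have h := congrArg Complex.normSq hGsum
    simp only [map_mul, Complex.normSq_neg, Complex.normSq_natCast] at h
    have h1 : Complex.normSq E.ε = 1 := by rcases E.hε with h | h <;> simp [h]
    have h2 : Complex.normSq ((e : ℂ) - 1) = ((e : ℝ) - 1) ^ 2 := by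
      rw [show (e : ℂ) - 1 = (((e : ℝ) - 1 : ℝ) : ℂ) by push_cast; ring, Complex.normSq_ofReal]
      ring
    rw [h1, h2] at h
    have hm' : (0 : ℝ) < m := Nat.cast_pos.2 hm0
    linear_combination h
  have heR : (3 : ℝ) ≤ e := by exact_mod_cast he
  have hKR : ((e : ℝ) + 1) ^ 2 ≤ m := by exact_mod_cast hK
  have hke : (e : ℝ) + 2 ≤ k := by nlinarith
  have hnt : t.re * t.re ≤ Complex.normSq t := by
    rw [Complex.normSq_apply]; nlinarith [mul_self_nonneg t.im]
  have hAre : ((e : ℝ) - 1) / 3 ≤ (e : ℝ) - 1 + 2 * t.re := by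
    by_contra hlt'
    push Not at hlt'
    nlinarith [mul_nonneg (show (0 : ℝ) ≤ k - (e + 2) by linarith) (mul_self_nonneg t.re),
      mul_self_nonneg (t.re + ((e : ℝ) - 1) / 3), mul_self_nonneg ((e : ℝ) - 3)]
  have hA2 : ((e : ℝ) - 1) ^ 2 / 9 ≤ Complex.normSq A := by
    have : A.re = (e : ℝ) - 1 + 2 * t.re := by simp [hA, ht]
    rw [Complex.normSq_apply, this]
    nlinarith [mul_self_nonneg A.im]
  have hGR : (e : ℝ) * (m : ℝ) ^ 2 ≤ Nat.card G := by exact_mod_cast hG
  have hGpos : (0 : ℝ) < Nat.card G := Nat.cast_pos.2 Nat.card_pos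
  have hm16 : (16 : ℝ) ≤ m := by nlinarith
  have he1 : (0 : ℝ) < ((e : ℝ) - 1) ^ 2 := by nlinarith
  have hk0 : (0 : ℝ) ≤ k := by linarith
  have key : k * Nat.card G ≤ 9 * (m : ℝ) ^ 2 := by
    refine le_of_mul_le_mul_left ?_ (mul_pos hGpos he1)
    have s1 := mul_le_mul_of_nonneg_left hG2 (show (0 : ℝ) ≤ (m : ℝ) ^ 2 * ((e : ℝ) - 1) ^ 2 by positivity)
    have s2 := mul_le_mul_of_nonneg_left hA2 (show (0 : ℝ) ≤ k * (Nat.card G : ℝ) ^ 2 by positivity)
    nlinarith
  have key2 := mul_le_mul_of_nonneg_left hGR (show (0 : ℝ) ≤ k by positivity)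
  nlinarith

/-- At most `e + 1` irreducible characters of `G` are real, provided only one real character
vanishes on `K` minus the identity. -/
theorem card_real_le (E : Exc K) (hbig : 2 * (K.subgroupOf (nrm K)).index + 1 ≤ Nat.card K)
    (hodd : Odd (Nat.card (nrm K))) (S₀ : Cfsg.IrrCharacter G)
    (hzero : ∀ χ : Cfsg.IrrCharacter G, (∀ g, ((χ : G → ℂ) g).im = 0) →
      (∀ v ∈ K, v ≠ 1 → (χ : G → ℂ) v = 0) → χ = S₀) :
    Nat.card {χ : Cfsg.IrrCharacter G // ∀ g, ((χ : G → ℂ) g).im = 0} ≤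
      (K.subgroupOf (nrm K)).index + 1 := by
  classical
  have := Fintype.ofFinite (RelChar K)
  have := Fintype.ofFinite (Cfsg.IrrCharacter G)
  set e := (K.subgroupOf (nrm K)).index
  have he : 0 < e := Nat.pos_of_ne_zero Subgroup.index_ne_zero_of_finite
  set m := Nat.card K with hm
  obtain ⟨v, hv, hv1⟩ : ∃ v ∈ K, v ≠ (1 : G) := by
    by_contra! h
    have : K = ⊥ := (Subgroup.eq_bot_iff_forall K).2 h
    rw [this, Subgroup.card_bot] at hm
    omega
  have hvinv1 : v⁻¹ ≠ 1 := inv_ne_one.2 hv1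
  -- exceptional characters are not real
  have hnreal : ∀ χ : Cfsg.IrrCharacter G, (∀ g, ((χ : G → ℂ) g).im = 0) → ∀ r, E.f r ≠ χ := by
    intro χ hχ r hr
    subst hr
    have hreal : ∀ g : nrm K, ((r.1 : nrm K → ℂ) g).im = 0 := by
      intro g
      by_cases hg : (g : G) ∈ K
      · by_cases hg1 : g = 1
        · rw [hg1, E.deg r]
          simp [Complex.conj_eq_iff_im.1 (E.wconj r)]
        have v1 := E.val r g hg hg1
        have v2 := E.val r g⁻¹ (inv_mem hg) (inv_ne_one.2 hg1)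
        rw [Subgroup.coe_inv, apply_inv (isCharacter_irr (E.f r)),
          Complex.conj_eq_iff_im.2 (hχ _), v1, apply_inv (isCharacter_irr r.1)] at v2
        refine Complex.conj_eq_iff_im.1 (mul_left_cancel₀ ?_ (add_right_cancel v2)).symm
        rcases E.hε with h | h <;> simp [h]
      · rw [Clifford.KernelChars.vanish (K.subgroupOf (nrm K))
          (Clifford.TICoherent.self_centralizing K hC) r.1 r.2 hg]
        simp
    have h1 := Characters.Indicator.eq_oneChar_of_real hodd r.1 hreal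
    obtain ⟨k, -, hk⟩ := r.2
    rw [h1] at hk
    exact hk (by rw [oneChar_apply, oneChar_apply])
  -- the constants are integers
  have hint : ∀ χ : Cfsg.IrrCharacter G, (∀ r, E.f r ≠ χ) → ∃ j : ℤ, (χ : G → ℂ) v = j := by
    intro χ hχ
    have := Fintype.ofFinite K
    obtain ⟨n, hn⟩ := H80.ClassMult.exists_sum_subgroup χ K
    obtain ⟨d, hd⟩ := exists_degree (isCharacter_irr χ)
    rw [← Finset.add_sum_erase _ _ (Finset.mem_univ (1 : K)), OneMemClass.coe_one, hd,
      Finset.sum_congr rfl (g := fun _ : K => (χ : G → ℂ) v) fun w hw => E.other χ hχ w w.2 v hv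
        (fun h => Finset.ne_of_mem_erase hw (Subtype.ext h)) hv1,
      Finset.sum_const, Finset.card_erase_of_mem (Finset.mem_univ _), Finset.card_univ,
      ← Nat.card_eq_fintype_card, nsmul_eq_mul] at hn
    obtain ⟨N, ρ, -, hρ⟩ := exists_rep χ
    refine exists_int_of_mul_eq (hρ ▸ Characters.Diag.isIntegral_char ρ v)
      (d := ((m - 1 : ℕ) : ℤ)) (by omega) (m := (m : ℤ) * n - d) ?_
    push_cast
    linear_combination hn
  -- at most `e` other characters are non-zero at `v`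
  let T := Finset.univ.filter fun χ : Cfsg.IrrCharacter G => (∀ r, E.f r ≠ χ) ∧ (χ : G → ℂ) v ≠ 0
  have hT : T.card ≤ e := by
    have h1 : (T.card : ℝ) ≤ ∑ χ ∈ T, Complex.normSq ((χ : G → ℂ) v) := by
      rw [← mul_one (T.card : ℝ), ← nsmul_eq_mul, ← Finset.sum_const]
      refine Finset.sum_le_sum fun χ hχ => ?_
      obtain ⟨-, h, h0⟩ := Finset.mem_filter.1 hχ
      obtain ⟨j, hj⟩ := hint χ h
      rw [hj] at h0 ⊢
      rw [Complex.normSq_intCast]
      have : (1 : ℤ) ≤ j * j := by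
        have : j ≠ 0 := fun e => h0 (by simp [e])
        nlinarith [Int.one_le_abs this, abs_mul_abs_self j]
      exact_mod_cast this
    have hdis : Disjoint T (Finset.univ.image E.f) := Finset.disjoint_left.2 fun χ hχ hχ' => by
      obtain ⟨r, -, hr⟩ := Finset.mem_image.1 hχ'
      exact (Finset.mem_filter.1 hχ).2.1 r hr
    have hsum : ∑ χ ∈ T, Complex.normSq ((χ : G → ℂ) v) +
        ∑ r : RelChar K, Complex.normSq ((E.f r : G → ℂ) v) ≤
          (Nat.card (Subgroup.centralizer ({v} : Set G)) : ℝ) := by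
      rw [← column_eq K hTI hlt hC (g := v),
        ← Finset.sum_image (f := fun χ : Cfsg.IrrCharacter G => Complex.normSq ((χ : G → ℂ) v))
          (fun a _ b _ h => E.inj h), ← Finset.sum_union hdis]
      exact Finset.sum_le_sum_of_subset_of_nonneg (Finset.subset_univ _) fun _ _ _ =>
        Complex.normSq_nonneg _
    have h3 := exc_column K hTI hlt hC E (g := ⟨v, Subgroup.le_normalizer hv⟩) hv
      (fun h => hv1 (congrArg Subtype.val h))
    rw [show ((⟨v, Subgroup.le_normalizer hv⟩ : nrm K) : G) = v from rfl] at h3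
    rw [h3] at hsum
    have hk2 : (2 : ℝ) ≤ ((m : ℝ) - 1) / (e : ℝ) := by
      rw [le_div_iff₀ (Nat.cast_pos.2 he)]
      have : ((2 * e + 1 : ℕ) : ℝ) ≤ (m : ℝ) := Nat.cast_le.2 hbig
      push_cast at this
      linarith
    have hn : (E.ε * E.c).re * (E.ε * E.c).re ≤ Complex.normSq (E.ε * E.c) := by
      rw [Complex.normSq_apply]; nlinarith [mul_self_nonneg (E.ε * E.c).im]
    have hlt' : (T.card : ℝ) < (e : ℝ) + 1 := by
      nlinarith [mul_self_nonneg ((E.ε * E.c).re - 1 / 2)]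
    have : T.card < e + 1 := by exact_mod_cast hlt'
    omega
  calc Nat.card {χ : Cfsg.IrrCharacter G // ∀ g, ((χ : G → ℂ) g).im = 0}
      = (Finset.univ.filter fun χ : Cfsg.IrrCharacter G => ∀ g, ((χ : G → ℂ) g).im = 0).card := by
        rw [Nat.card_eq_fintype_card, Fintype.card_subtype]
    _ ≤ (insert S₀ T).card := Finset.card_le_card fun χ hχ => by
        have hr := (Finset.mem_filter.1 hχ).2
        rw [Finset.mem_insert]
        by_cases h0 : (χ : G → ℂ) v = 0
        · refine Or.inl (hzero χ hr fun w hw hw1 => ?_)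
          rw [E.other χ (hnreal χ hr) w hw v hv hw1 hv1, h0]
        · exact Or.inr (Finset.mem_filter.2 ⟨Finset.mem_univ _, hnreal χ hr, h0⟩)
    _ ≤ e + 1 := (Finset.card_insert_le _ _).trans (by omega)

end Cfsg.Agent.Lib.Zassenhaus.CoherentChars
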