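import Cfsg.Agent.Lib.Brauer.ZassenhausChar

/-!
Linear characters of a point stabiliser, induced, when the swaps invert the two-point stabiliser.
-/

set_option autoImplicit false
set_option linter.unusedSectionVars false
set_option linter.style.haveILetI false

namespace Cfsg.Agent.Lib.Zassenhaus.IndChar

open MulAction
open scoped ComplexConjugate
open Cfsg.Agent.Lib Cfsg.Agent.Lib.Brauer
open Cfsg.Agent.Lib.Brauer.ZassenhausChar (exists_translate)

universe u v

variable {G : Type u} {Ω : Type v} [Group G] [MulAction G Ω] [Finite G] [Fintype Ω] [Fintype G]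

/-- The induced character is irreducible and takes the value `1` on the kernel, if some element
interchanging `a` and `b` inverts the two-point stabiliser. -/
theorem isIrr_indFun (hZ : Cfsg.IsZassenhausGroup G Ω) {a b : Ω} (hab : a ≠ b)
    (hodd : Odd (Nat.card ↥(stabilizer G a ⊓ stabilizer G b : Subgroup G)))
    (hswap : ∃ s : G, s • a = b ∧ ∀ e ∈ stabilizer G a ⊓ stabilizer G b, s * e * s⁻¹ = e⁻¹)
    (H : Subgroup G) (hHa : H ≤ stabilizer G a) (hHcard : Nat.card H + 1 = Fintype.card Ω)
    (hHfix : ∀ u ∈ H, u ≠ 1 → ∀ c : Ω, u • c = c → c = a) {μ : stabilizer G a → ℂ}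
    (hμ : Cfsg.IsCharacter (stabilizer G a) μ ∧ μ 1 = 1)
    (hμH : ∀ u : stabilizer G a, (u : G) ∈ H → μ u = 1) (hμne : μ ≠ fun _ => 1) :
    Cfsg.IsIrrCharacter G (Cfsg.indFun (stabilizer G a) μ) ∧
      ∀ u ∈ H, u ≠ 1 → Cfsg.indFun (stabilizer G a) μ u = 1 := by
  classical
  haveI : Fintype (stabilizer G a) := Fintype.ofFinite _
  obtain ⟨l, hl⟩ := Clifford.Linear.exists_hom hμ
  have hμl : ∀ x, μ x = (l x : ℂ) := fun x => (congrFun hl x).symm
  have hcl := Characters.Basic.isClassFunction_of_isCharacter hμ.1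
  have hext : ∀ (g : G) (x : G) (hg : g ∈ (stabilizer G a)), x ∈ (stabilizer G a) →
      Cfsg.extendByZero (stabilizer G a) μ (x⁻¹ * g * x) = μ ⟨g, hg⟩ := by
    intro g x hg hx
    have h := PermChar.ext0_conj μ hcl ((stabilizer G a).inv_mem hx) g
    rw [inv_inv] at h
    rw [h, PermChar.ext0_mem μ hg]
  refine ⟨?_, fun u hu hu1 => ?_⟩
  · refine Characters.Basic.isIrrCharacter_of_classInner_self
      (Induced.Character.isCharacter_indFun (stabilizer G a) hμ.1) ?_
    rw [Induced.Basic.frobenius_reciprocity' (stabilizer G a) μ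
      (Induced.Basic.isClassFunction_indFun (stabilizer G a) μ), Cfsg.classInner,
      inv_mul_eq_one₀ (Nat.cast_ne_zero.2 Nat.card_pos.ne')]
    -- nontrivial on the two-point stabilizer after twisting
    have hzero : ∀ x : G, x ∉ (stabilizer G a) →
        ∑ g : (stabilizer G a), Cfsg.extendByZero (stabilizer G a) μ (x⁻¹ * (g : G) * x) * conj (μ g) = 0 := by
      intro x hx
      set c := x • a with hcdef
      have hca : c ≠ a := fun h => hx (mem_stabilizer_iff.2 h)
      set K : Subgroup (stabilizer G a) := (stabilizer G c).subgroupOf (stabilizer G a) with hK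
      have hmem : ∀ g : G, x⁻¹ * g * x ∈ (stabilizer G a) ↔ g ∈ stabilizer G c := by
        intro g
        rw [mem_stabilizer_iff, mem_stabilizer_iff, mul_smul, mul_smul, inv_smul_eq_iff]
      let ν : K →* ℂˣ :=
        { toFun := fun g => l ⟨x⁻¹ * ((g : (stabilizer G a)) : G) * x, (hmem _).2 g.2⟩ * (l g.1)⁻¹
          map_one' := by
            rw [show (⟨x⁻¹ * (((1 : K) : (stabilizer G a)) : G) * x, (hmem _).2 (1 : K).2⟩ : (stabilizer G a)) = 1 from
              Subtype.ext (by simp), OneMemClass.coe_one, map_one, inv_one, mul_one]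
          map_mul' := fun g g' => by
            rw [show (⟨x⁻¹ * (((g * g' : K) : (stabilizer G a)) : G) * x, (hmem _).2 (g * g').2⟩ : (stabilizer G a)) =
              ⟨x⁻¹ * ((g : (stabilizer G a)) : G) * x, (hmem _).2 g.2⟩ * ⟨x⁻¹ * ((g' : (stabilizer G a)) : G) * x, (hmem _).2 g'.2⟩
              from Subtype.ext (by simp [mul_assoc]), map_mul, Subgroup.coe_mul, map_mul, mul_inv,
              mul_mul_mul_comm] }
      have hν : ν ≠ 1 := by
        intro h1
        apply hμne
        obtain ⟨y, hya, hyb⟩ := Zassenhaus.exists_smul_pair hZ hab hca.symm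
        set t := y⁻¹ * x with htdef
        have ht : t • a = b := by
          rw [htdef, mul_smul, inv_smul_eq_iff, hyb]
        funext g
        rw [hμl]
        have hgb : (g : G) • b ≠ a := fun h => hab.symm
          (MulAction.injective (g : G) (h.trans (mem_stabilizer_iff.1 g.2).symm))
        obtain ⟨h, hh, hhb⟩ := exists_translate hHa hHcard hHfix hab.symm hgb
        set e := h⁻¹ * (g : G) with hedef
        have hea : e • a = a := by
          rw [hedef, mul_smul, mem_stabilizer_iff.1 g.2, inv_smul_eq_iff, mem_stabilizer_iff.1 (hHa hh)]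
        have heb : e • b = b := by rw [hedef, mul_smul, ← hhb, inv_smul_smul]
        have hg' : g = ⟨h, hHa hh⟩ * ⟨e, hea⟩ := Subtype.ext (mul_inv_cancel_left h (g : G)).symm
        have hlh : l ⟨h, hHa hh⟩ = 1 := Units.ext (by rw [← hμl, hμH _ hh]; rfl)
        suffices hle : l ⟨e, hea⟩ = 1 by rw [hg', map_mul, hlh, hle, one_mul, Units.val_one]
        -- `μ` agrees with its twist
        have hye : y * e * y⁻¹ ∈ (stabilizer G a) := (stabilizer G a).mul_mem ((stabilizer G a).mul_mem hya hea) ((stabilizer G a).inv_mem hya)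
        have hyec : (⟨y * e * y⁻¹, hye⟩ : (stabilizer G a)) ∈ K := by
          show y * e * y⁻¹ ∈ stabilizer G c
          rw [mem_stabilizer_iff, ← hyb, mul_smul, inv_smul_smul, mul_smul, heb]
        have h2 := DFunLike.congr_fun h1 ⟨_, hyec⟩
        simp only [ν, MonoidHom.coe_mk, OneHom.coe_mk, MonoidHom.one_apply, mul_inv_eq_one] at h2
        have h3 : l ⟨y * e * y⁻¹, hye⟩ = l ⟨e, hea⟩ := by
          rw [show (⟨y * e * y⁻¹, hye⟩ : (stabilizer G a)) = ⟨y, hya⟩ * ⟨e, hea⟩ * (⟨y, hya⟩ : (stabilizer G a))⁻¹ from rfl, map_mul,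
            map_mul, map_inv, mul_comm (l ⟨y, hya⟩), mul_inv_cancel_right]
        have hmem2 : t⁻¹ * e * t ∈ (stabilizer G a) := by
          rw [mem_stabilizer_iff, mul_smul, mul_smul, ht, heb, inv_smul_eq_iff, ht]
        have h4 : l ⟨x⁻¹ * (y * e * y⁻¹) * x, (hmem _).2 hyec⟩ = l ⟨t⁻¹ * e * t, hmem2⟩ := by
          congr 1
          apply Subtype.ext
          show x⁻¹ * (y * e * y⁻¹) * x = t⁻¹ * e * t
          rw [htdef]
          group
        rw [h4, h3] at h2
        have h5 : l ⟨e, hea⟩ * l ⟨t⁻¹ * e * t, hmem2⟩ = 1 := by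
          obtain ⟨s, hsa, hsinv⟩ := hswap
          have hg : (s⁻¹ * t) ∈ stabilizer G a := by
            rw [mem_stabilizer_iff, mul_smul, ht, inv_smul_eq_iff, hsa]
          have hse : s⁻¹ * e * s = e⁻¹ := by
            have h := hsinv e⁻¹ (inv_mem (Zassenhaus.mem_pair_stabilizer.2 ⟨hea, heb⟩))
            rw [inv_inv] at h
            nth_rewrite 1 [← h]
            group
          have e1 : (⟨t⁻¹ * e * t, hmem2⟩ : stabilizer G a) =
              (⟨s⁻¹ * t, hg⟩ : stabilizer G a)⁻¹ * (⟨e, hea⟩ : stabilizer G a)⁻¹ * ⟨s⁻¹ * t, hg⟩ := by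
            apply Subtype.ext
            show t⁻¹ * e * t = (s⁻¹ * t)⁻¹ * e⁻¹ * (s⁻¹ * t)
            rw [← hse]
            group
          rw [e1, map_mul, map_mul, map_inv, map_inv, mul_comm (l ⟨s⁻¹ * t, hg⟩)⁻¹,
            inv_mul_cancel_right, mul_inv_cancel]
        rw [h2] at h5
        obtain ⟨k, hk⟩ := hodd
        have h6 : (⟨e, hea⟩ : (stabilizer G a)) ^ (2 * k + 1) = 1 := by
          apply Subtype.ext
          rw [SubmonoidClass.coe_pow, OneMemClass.coe_one, ← hk]
          exact congrArg Subtype.val (pow_card_eq_one'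
            (x := (⟨e, Zassenhaus.mem_pair_stabilizer.2 ⟨hea, heb⟩⟩ :
              ↥(stabilizer G a ⊓ stabilizer G b))))
        have h7 := congrArg l h6
        rw [map_one, map_pow, pow_succ, pow_mul, pow_two, h5, one_pow, one_mul] at h7
        exact h7
      obtain ⟨g0, hg0⟩ : ∃ g0 : K, ν g0 ≠ 1 := by
        by_contra h
        push Not at h
        exact hν (MonoidHom.ext h)
      haveI : Fintype K := Fintype.ofFinite _
      have hsum : ∑ g : K, (ν g : ℂ) = 0 := by
        have h1 : (ν g0 : ℂ) * ∑ g : K, (ν g : ℂ) = 1 * ∑ g : K, (ν g : ℂ) := by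
          rw [Finset.mul_sum, one_mul]
          exact Fintype.sum_equiv (Equiv.mulLeft g0) _ _ fun g => by simp
        by_contra h
        exact hg0 (Units.ext (mul_right_cancel₀ h h1))
      have hconj : ∀ g : (stabilizer G a), conj (μ g) = ((l g)⁻¹ : ℂˣ) := fun g => by
        rw [← Characters.Basic.apply_inv hμ.1, hμl, map_inv]
      rw [← hsum]
      symm
      refine Finset.sum_of_injOn (fun g : K => (g : (stabilizer G a))) Subtype.val_injective.injOn
        (fun _ _ => Finset.mem_univ _) (fun g _ hg => ?_) (fun g _ => ?_)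
      · rw [PermChar.ext0_notMem μ (fun h => hg ⟨⟨g, (hmem (g : G)).1 h⟩, Finset.mem_univ _, rfl⟩), zero_mul]
      · rw [PermChar.ext0_mem μ ((hmem ((g : stabilizer G a) : G)).2 g.2), hconj, hμl, ← Units.val_mul]
        rfl
    have hone : ∀ x : G, x ∈ (stabilizer G a) →
        ∑ g : (stabilizer G a), Cfsg.extendByZero (stabilizer G a) μ (x⁻¹ * (g : G) * x) * conj (μ g) = (Nat.card (stabilizer G a) : ℂ) := by
      intro x hx
      have h := Characters.Basic.classInner_self_irr
        (⟨μ, Characters.Basic.isIrrCharacter_of_degree_one hμ.1 hμ.2⟩ : Cfsg.IrrCharacter (stabilizer G a))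
      rw [Cfsg.classInner, inv_mul_eq_one₀ (Nat.cast_ne_zero.2 Nat.card_pos.ne')] at h
      rw [h]
      exact Finset.sum_congr rfl fun g _ => by rw [hext (g : G) x g.2 hx]
    simp only [Cfsg.indFun, mul_assoc, ← Finset.mul_sum]
    have hswap : ∑ g : (stabilizer G a), (∑ x : G, Cfsg.extendByZero (stabilizer G a) μ (x⁻¹ * (g : G) * x)) * conj (μ g) =
        (Nat.card (stabilizer G a) : ℂ) * Nat.card (stabilizer G a) := by
      simp only [Finset.sum_mul]
      rw [Finset.sum_comm, ← Finset.sum_filter_add_sum_filter_not Finset.univ (· ∈ (stabilizer G a)),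
        Finset.sum_eq_zero (s := Finset.univ.filter fun x => x ∉ (stabilizer G a))
          (fun x hx => hzero x (Finset.mem_filter.1 hx).2), add_zero,
        Finset.sum_congr rfl (fun x hx => hone x (Finset.mem_filter.1 hx).2), Finset.sum_const,
        nsmul_eq_mul, ← Fintype.card_subtype, ← Nat.card_eq_fintype_card]
    simp only [mul_assoc] at hswap
    rw [hswap, ← mul_assoc, inv_mul_cancel₀ (Nat.cast_ne_zero.2 Nat.card_pos.ne'), one_mul]
  · rw [Cfsg.indFun, ← Finset.sum_filter_add_sum_filter_not Finset.univ (· ∈ (stabilizer G a)),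
      Finset.sum_eq_zero (s := Finset.univ.filter fun x => x ∉ (stabilizer G a)) (fun x hx => ?_), add_zero,
      Finset.sum_congr rfl (fun x hx => (hext u x (hHa hu) (Finset.mem_filter.1 hx).2).trans
        (hμH _ hu)), Finset.sum_const, nsmul_eq_mul, mul_one, ← Fintype.card_subtype,
      ← Nat.card_eq_fintype_card, inv_mul_cancel₀ (Nat.cast_ne_zero.2 Nat.card_pos.ne')]
    refine PermChar.ext0_notMem μ fun h => (Finset.mem_filter.1 hx).2 ?_
    rw [mem_stabilizer_iff, mul_smul, mul_smul, inv_smul_eq_iff] at h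
    exact mem_stabilizer_iff.2 (hHfix u hu hu1 _ h)

end Cfsg.Agent.Lib.Zassenhaus.IndChar
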