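import Cfsg.Agent.Lib.Zassenhaus.Basic
import Cfsg.Agent.Lib.Induced.FrobeniusKernel

/-!
# Normal subgroups of Zassenhaus groups (Frobenius' theorem is used here)
-/

set_option autoImplicit false

namespace Cfsg.Agent.Lib.Zassenhaus

open MulAction
open scoped Pointwise

variable {G Ω : Type*} [Group G] [MulAction G Ω]

/-- A non-trivial normal subgroup of a Zassenhaus group meets every two-point stabiliser
non-trivially. -/
theorem normal_exists_fix_pair [Finite Ω] (hZ : Cfsg.IsZassenhausGroup G Ω) (N : Subgroup G)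
    [hN : N.Normal] (hne : N ≠ ⊥) {a b : Ω} (hab : a ≠ b) :
    ∃ l ∈ N, l ≠ 1 ∧ l • a = a ∧ l • b = b := by
  by_contra! hnot
  have := finite_group hZ
  have htrN := normal_transitive hZ N hne
  -- no non-identity element of `N` fixes two points
  have htwo : ∀ x ∈ N, ∀ c d : Ω, c ≠ d → x • c = c → x • d = d → x = 1 := by
    intro x hx c d hcd hc hd
    by_contra hx1
    obtain ⟨g, hga, hgb⟩ := exists_smul_pair hZ hcd hab
    refine hnot (g * x * g⁻¹) (hN.conj_mem x hx g) ?_ ?_ ?_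
    · rwa [Ne, mul_inv_eq_one, mul_eq_left]
    · rw [mul_smul, mul_smul, ← hga, inv_smul_smul, hc]
    · rw [mul_smul, mul_smul, ← hgb, inv_smul_smul, hd]
  obtain ⟨e, he⟩ := hZ.2.2.2.2 N hN htrN
  set H := stabilizer N e
  have hTI : ∀ g : N, g ∉ H → ∀ h ∈ H, g * h * g⁻¹ ∈ H → h = 1 := by
    intro g hg h hh hgh
    have hg' : g⁻¹ • e ≠ e := fun h' => hg (mem_stabilizer_iff.2 (inv_smul_eq_iff.1 h').symm)
    refine Subtype.ext (htwo h h.2 e (g⁻¹ • e) (Ne.symm hg') (mem_stabilizer_iff.1 hh) ?_)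
    have h1 := mem_stabilizer_iff.1 hgh
    rw [mul_smul, mul_smul, smul_eq_iff_eq_inv_smul] at h1
    exact h1
  obtain ⟨K, -, hcompl, hmem⟩ := Induced.FrobeniusKernel.exists_normal_complement hTI
  -- `K` consists of `1` and the elements of `N` without fixed points
  have hK : ∀ x : N, x ∈ K ↔ x = 1 ∨ ∀ c : Ω, (x : G) • c ≠ c := by
    intro x
    rw [hmem]
    refine or_congr_right ⟨fun h c hc => ?_, fun h g hg => ?_⟩
    · obtain ⟨g, hg⟩ := exists_smul_eq N c e
      refine h g (mem_stabilizer_iff.2 ?_)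
      rw [mul_smul, mul_smul, ← hg, inv_smul_smul]
      exact congrArg (g • ·) hc
    · have h1 := mem_stabilizer_iff.1 hg
      rw [mul_smul, mul_smul, smul_eq_iff_eq_inv_smul] at h1
      exact h (g⁻¹ • e) h1
  let K' : Subgroup G := K.map N.subtype
  have hK' : ∀ x, x ∈ K' ↔ x ∈ N ∧ (x = 1 ∨ ∀ c : Ω, x • c ≠ c) := by
    intro x
    constructor
    · rintro ⟨y, hy, rfl⟩
      refine ⟨y.2, ((hK y).1 hy).imp_left ?_⟩
      rintro rfl; rfl
    · rintro ⟨hx, h⟩
      exact ⟨⟨x, hx⟩, (hK _).2 (h.imp_left fun h1 => Subtype.ext h1), rfl⟩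
  have hn : K'.Normal := by
    refine ⟨fun x hx g => ?_⟩
    rw [hK'] at hx ⊢
    refine ⟨hN.conj_mem x hx.1 g, hx.2.imp (fun h => by rw [h, mul_one, mul_inv_cancel]) ?_⟩
    intro h c hc
    rw [mul_smul, mul_smul, smul_eq_iff_eq_inv_smul] at hc
    exact h _ hc
  have hne' : K' ≠ ⊥ := by
    intro hbot
    have hKbot : K = ⊥ := (Subgroup.map_eq_bot_iff_of_injective K N.subtype_injective).1 hbot
    rw [hKbot, Subgroup.isComplement'_bot_left] at hcompl
    obtain ⟨c, hca, -⟩ := exists_third hZ e e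
    obtain ⟨g, hg⟩ := exists_smul_eq N e c
    exact hca (hg.symm.trans (mem_stabilizer_iff.1 (show g ∈ H by rw [hcompl]; exact Subgroup.mem_top g)))
  obtain ⟨f, hf⟩ := hZ.2.2.2.2 K' hn (normal_transitive hZ K' hne')
  refine hf ((Subgroup.eq_bot_iff_forall _).2 fun x hx => Subtype.ext ?_)
  rcases ((hK' x).1 x.2).2 with h | h
  · exact h
  · exact absurd (mem_stabilizer_iff.1 hx) (h f)

/-- A non-trivial normal subgroup of a Zassenhaus group is doubly transitive. -/
theorem normal_two_trans' [Finite Ω] (hZ : Cfsg.IsZassenhausGroup G Ω) (N : Subgroup G)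
    [N.Normal] (hne : N ≠ ⊥) : IsMultiplyPretransitive N Ω 2 := by
  obtain ⟨g, -, c, d, hcd, -⟩ := hZ.2.2.2.1
  obtain ⟨l, hl, hl1, ha, hb⟩ := normal_exists_fix_pair hZ N hne hcd
  exact normal_two_trans hZ N hcd hl hl1 ha hb

end Cfsg.Agent.Lib.Zassenhaus
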