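import Cfsg.Agent.Lib.Zassenhaus.AbelianKernel
import Cfsg.Agent.Lib.Zassenhaus.EvenPSL
import Cfsg.Agent.S0339

/-!
# Zassenhaus groups with abelian kernel

* `inverted_of_even_degree` : in even degree an odd `|G_ab|` is cyclic and inverted by the swaps.
* `iso_psl_of_odd` : then `G` is `PSL₂(q)` with `q ≡ 3 mod 4`.
* `sharp_or_psl` : the classification for an abelian kernel.
-/

set_option autoImplicit false
set_option linter.unusedSectionVars false

namespace Cfsg.Agent.Lib.Zassenhaus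

open MulAction
open scoped OnePoint

universe u v

/-- A group generated by elements of order prime to `q` has no normal `q`-complement, if `q`
divides its order. -/
theorem no_complement {H : Type u} [Group H] [Finite H] {S : Set H}
    (hS : Subgroup.closure S = ⊤) {q : ℕ} (hq : q.Prime) (hdvd : q ∣ Nat.card H)
    (hord : ∀ s ∈ S, Nat.Coprime q (orderOf s)) :
    ¬ ∃ N : Subgroup H, N.Normal ∧ N.index = q ^ (Nat.card H).factorization q := by
  rintro ⟨N, hN, hi⟩
  have htop : N = ⊤ := by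
    rw [eq_top_iff, ← hS, Subgroup.closure_le]
    intro s hs
    rw [SetLike.mem_coe, ← QuotientGroup.eq_one_iff, ← orderOf_eq_one_iff]
    have h1 : orderOf (s : H ⧸ N) ∣ orderOf s := orderOf_map_dvd (QuotientGroup.mk' N) s
    have h2 : orderOf (s : H ⧸ N) ∣ q ^ (Nat.card H).factorization q := by
      rw [← hi, Subgroup.index_eq_card]; exact orderOf_dvd_natCard _
    exact Nat.eq_one_of_dvd_coprimes ((hord s hs).pow_left _) h2 h1
  rw [htop, Subgroup.index_top] at hi
  have h0 := hq.factorization_pos_of_dvd Nat.card_pos.ne' hdvd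
  have h1 := Nat.one_lt_pow h0.ne' hq.one_lt
  omega

variable {G : Type u} {Ω : Type v} [Group G] [MulAction G Ω] [Finite Ω]
  (hZ : Cfsg.IsZassenhausGroup G Ω) {a b : Ω} (hab : a ≠ b) {U : Subgroup G} (hU : AbKernel a b U)

include hZ hab hU

/-- In even degree an odd two-point stabiliser is cyclic and inverted by the swaps. -/
theorem inverted_of_even_degree (hn : Even (Nat.card Ω))
    (hdodd : Odd (Nat.card ↥(stabilizer G a ⊓ stabilizer G b))) :
    IsCyclic ↥(stabilizer G a ⊓ stabilizer G b) ∧ ∀ s : G, s • a = b → s • b = a →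
      ∀ h ∈ stabilizer G a ⊓ stabilizer G b, s * h * s⁻¹ = h⁻¹ := by
  classical
  have := finite_group hZ
  set D := stabilizer G a ⊓ stabilizer G b with hD
  have hm : Nat.card U + 1 = Nat.card Ω := AbKernel.card_add_one hab hU
  have hm2 := AbKernel.two_le_card hZ hab hU
  have hdn : Nat.card D ∣ Nat.card Ω - 2 := card_pair_dvd hZ hab
  -- conjugates of elements of `U` have order prime to the prime divisors of `|G_ab|`
  have hcop : ∀ q : ℕ, q.Prime → q ∣ Nat.card D →
      ∀ x ∈ Group.conjugatesOfSet (U : Set G), Nat.Coprime q (orderOf x) := by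
    intro q hq hqd x hx
    obtain ⟨u, hu, hux⟩ := Group.mem_conjugatesOfSet_iff.1 hx
    obtain ⟨g, rfl⟩ := isConj_iff.1 hux
    rw [hq.coprime_iff_not_dvd,
      show orderOf (g * u * g⁻¹) = orderOf u from
        orderOf_injective (MulAut.conj g).toMonoidHom (MulAut.conj g).injective u]
    intro h
    have h1 : q ∣ Nat.card U := h.trans (Subgroup.orderOf_dvd_natCard _ hu)
    have h2 : q ∣ Nat.card U - 1 := by
      rw [show Nat.card U - 1 = Nat.card Ω - 2 by omega]; exact hqd.trans hdn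
    have h3 := Nat.dvd_sub h1 h2
    rw [show Nat.card U - (Nat.card U - 1) = 1 by omega] at h3
    exact hq.one_lt.ne' (Nat.dvd_one.1 h3)
  -- the normal subgroup generated by the conjugates of `U`
  set N := Subgroup.normalClosure (U : Set G) with hNdef
  have hUN : U ≤ N := Subgroup.subset_normalClosure
  have hNne : N ≠ ⊥ := fun h => AbKernel.ne_bot hZ hab hU (le_bot_iff.1 (h ▸ hUN))
  have hZN := Cfsg.Agent.S0339.result hZ N hNne
  have hUN' : AbKernel (G := N) a b (U.subgroupOf N) :=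
    { le := fun x hx => mem_stabilizer_iff.2 (mem_stabilizer_iff.1 (hU.le hx) : (x : G) • a = a)
      conj := fun g hg x hx => hU.conj (g : G) hg x hx
      comm := fun x hx y hy => Subtype.ext (hU.comm x hx y hy)
      reg := fun z hz => by
        obtain ⟨u, hu, huniq⟩ := hU.reg z hz
        refine ⟨⟨⟨u, hUN u.2⟩, u.2⟩, hu, fun v hv => ?_⟩
        have h := congrArg (fun w : U => (w : G)) (huniq ⟨((v : N) : G), v.2⟩ hv)
        exact Subtype.ext (Subtype.ext h) }
  set D' := stabilizer N a ⊓ stabilizer N b with hD'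
  have hle : D'.map N.subtype ≤ D := by
    rintro _ ⟨x, hx, rfl⟩
    exact mem_pair_stabilizer.2 ⟨(mem_pair_stabilizer.1 hx).1, (mem_pair_stabilizer.1 hx).2⟩
  have hc : Nat.card (D'.map N.subtype) = Nat.card D' :=
    (Nat.card_congr (D'.equivMapOfInjective _ N.subtype_injective).toEquiv).symm
  have hd' : Nat.card D' ∣ Nat.card D := hc ▸ Subgroup.card_dvd_of_le hle
  have hd'odd : Odd (Nat.card D') := hdodd.of_dvd_nat hd'
  have hinvN := (pair_cyclic_inverted hZN hab hd'odd fun q hq hqd =>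
    no_complement (S := ((↑) : N → G) ⁻¹' Group.conjugatesOfSet (U : Set G))
      Subgroup.closure_closure_coe_preimage hq (hqd.trans (Subgroup.card_subgroup_dvd_card _))
      fun s hs => (congrArg (Nat.Coprime q) (orderOf_injective N.subtype N.subtype_injective s)).mp
        (hcop q hq (hqd.trans hd') _ hs)).2
  have hkey : 2 * Nat.card D' + 2 = Nat.card Ω := two_mul_card_of_inverted hZN hab hUN' hn hd'odd hinvN
  have htop : N = ⊤ := by
    refine normal_eq_top hZ N hab fun x hx => ?_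
    have hdd : Nat.card D ∣ Nat.card D' := by
      refine (Nat.Coprime.dvd_of_dvd_mul_left (Nat.coprime_two_right.2 hdodd) ?_)
      rw [show 2 * Nat.card D' = Nat.card Ω - 2 by omega]
      exact hdn
    have heq : D'.map N.subtype = D :=
      Subgroup.eq_of_le_of_card_ge hle (hc ▸ Nat.le_of_dvd Nat.card_pos hdd)
    exact Subgroup.map_subtype_le D' (heq ▸ hx : x ∈ D'.map N.subtype)
  exact pair_cyclic_inverted hZ hab hdodd fun q hq hqd =>
    no_complement (S := Group.conjugatesOfSet (U : Set G)) htop hq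
      (hqd.trans (Subgroup.card_subgroup_dvd_card _)) (hcop q hq hqd)

set_option maxHeartbeats 1600000 in
/-- `|Ω|` even, `|G_ab| = (|Ω| - 2) / 2` odd: `G` is `PSL₂(q)`, `q ≡ 3 mod 4`. -/
theorem iso_psl_of_odd (hdodd : Odd (Nat.card ↥(stabilizer G a ⊓ stabilizer G b)))
    (hcard : 2 * Nat.card ↥(stabilizer G a ⊓ stabilizer G b) + 2 = Nat.card Ω)
    (hcyc : IsCyclic ↥(stabilizer G a ⊓ stabilizer G b))
    (hinv : ∀ s : G, s • a = b → s • b = a →
      ∀ h ∈ stabilizer G a ⊓ stabilizer G b, s * h * s⁻¹ = h⁻¹) :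
    ∃ (F : Type) (_ : Field F) (_ : Fintype F), ringChar F ≠ 2 ∧
      Nonempty (G ≃* Matrix.ProjectiveSpecialLinearGroup (Fin 2) F) := by
  classical
  have := finite_group hZ
  set d := Nat.card ↥(stabilizer G a ⊓ stabilizer G b) with hd
  have hm : Nat.card U + 1 = Nat.card Ω := AbKernel.card_add_one hab hU
  have hUodd : Odd (Nat.card U) := ⟨d, by omega⟩
  obtain ⟨t, ht, hta, htb⟩ := exists_swap hZ hab
  obtain ⟨x₀, h0a, h0b⟩ := exists_third hZ a b
  have hDc : ∀ g ∈ stabilizer G a ⊓ stabilizer G b, ∀ h ∈ stabilizer G a ⊓ stabilizer G b,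
      g * h = h * g := fun g hg h hh => congrArg Subtype.val ((IsCyclic.commGroup
        (α := ↥(stabilizer G a ⊓ stabilizer G b))).mul_comm ⟨g, hg⟩ ⟨h, hh⟩)
  obtain ⟨F, fF, ffF, E, σ, hEi, hE0, hE1, hFcard, hσinj, htr, hD⟩ :=
    exists_coords hZ hab h0a h0b U hU.le hU.conj hU.comm hU.reg hDc hUodd (by omega)
  have hq : Fintype.card F = 2 * d + 1 := by omega
  have h2 : ringChar F ≠ 2 := fun h => by
    have := FiniteField.even_card_of_char_two h
    omega
  -- the image of `σ` consists of the non-zero squares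
  have hdpos : 0 < d := Nat.card_pos
  have hrange : ∀ u : Fˣ, u ∈ σ.range ↔ u ^ d = 1 := by
    have hle' : σ.range ≤ (powMonoidHom d : Fˣ →* Fˣ).ker := by
      rintro _ ⟨x, rfl⟩
      rw [MonoidHom.mem_ker, powMonoidHom_apply, ← map_pow, pow_card_eq_one', map_one]
    have heq' : σ.range = (powMonoidHom d : Fˣ →* Fˣ).ker := by
      refine Subgroup.eq_of_le_of_card_ge hle' ?_
      rw [IsCyclic.card_powMonoidHom_ker, ← Nat.card_congr (MonoidHom.ofInjective hσinj).toEquiv]
      exact Nat.le_of_dvd hdpos (Nat.gcd_dvd_right _ _)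
    intro u
    rw [heq', MonoidHom.mem_ker, powMonoidHom_apply]
  have hsq_iff : ∀ u : Fˣ, IsSquare (u : F) ↔ u ^ d = 1 := by
    intro u
    rw [FiniteField.isSquare_iff h2 u.ne_zero, hq,
      show (2 * d + 1) / 2 = d by omega, ← Units.val_pow_eq_pow_val, Units.val_eq_one]
  have hnneg : ¬ IsSquare (-1 : F) := by
    intro h
    have h1 := (hsq_iff (-1)).1 (by simpa using h)
    rw [hdodd.neg_one_pow] at h1
    exact Ring.neg_one_ne_one_of_char_ne_two h2 (by simpa using congrArg Units.val h1)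
  -- the permutation representation
  let π : G →* Equiv.Perm (OnePoint F) :=
    (E.symm.permCongrHom.toMonoidHom).comp (MulAction.toPermHom G Ω)
  have hπap : ∀ g p, π g p = E.symm (g • E p) := fun g p => rfl
  have hπ : Function.Injective π := by
    intro g h e
    have := faithful hZ
    refine eq_of_smul_eq_smul fun x : Ω => ?_
    have h1 := congrArg (fun f : Equiv.Perm (OnePoint F) => f (E.symm x)) e
    simpa [hπap] using h1
  have hπeq : ∀ g p p', g • E p = E p' → π g p = p' := fun g p p' h => by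
    rw [hπap, h, Equiv.symm_apply_apply]
  have hπtr : ∀ h : F, ∃ g : G, π g ∞ = ∞ ∧ ∀ x : F, π g x = ↑(x + h) := fun h => by
    obtain ⟨g, hga, hgx⟩ := htr h
    exact ⟨g, hπeq g _ _ (by rw [hEi, hga]), fun x => hπeq g _ _ (hgx x)⟩
  have hπD : ∀ e : ↥(stabilizer G a ⊓ stabilizer G b),
      π e ∞ = ∞ ∧ ∀ x : F, π e x = ↑((σ e : F) * x) := fun e =>
    ⟨hπeq _ _ _ (by rw [hEi]; exact (mem_pair_stabilizer.1 e.2).1),
      fun x => hπeq _ _ _ (hD e x)⟩
  have hπsq : ∀ s : F, s ≠ 0 → IsSquare s → ∃ e : ↥(stabilizer G a ⊓ stabilizer G b),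
      (σ e : F) = s := by
    intro s hs hs'
    obtain ⟨e, he⟩ := (hrange (Units.mk0 s hs)).2 ((hsq_iff (Units.mk0 s hs)).1 hs')
    exact ⟨e, by rw [he, Units.val_mk0]⟩
  have htt : t * t = 1 := by rw [← pow_two, ← ht, pow_orderOf_eq_one]
  have htinf : π t ∞ = ((0 : F) : OnePoint F) := hπeq _ _ _ (by rw [hEi, hE0, hta])
  have http : ∀ p, π t (π t p) = p := fun p => by
    rw [← Equiv.Perm.mul_apply, ← map_mul, htt, map_one, Equiv.Perm.one_apply]
  have ht0 : π t ((0 : F) : OnePoint F) = ∞ := by rw [← htinf, http]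
  have hanti : ∀ s : F, s ≠ 0 → IsSquare s → ∀ x y : F, π t x = ↑y → π t ↑(s * x) = ↑(s⁻¹ * y) := by
    intro s hs hs' x y hxy
    obtain ⟨e, he⟩ := hπsq s hs hs'
    have h1 : t * (e : G) = ((e⁻¹ : ↥(stabilizer G a ⊓ stabilizer G b)) : G) * t := by
      rw [Subgroup.coe_inv, ← hinv t hta htb e e.2, inv_mul_cancel_right]
    rw [← he, ← (hπD e).2 x, ← Equiv.Perm.mul_apply, ← map_mul, h1, map_mul, Equiv.Perm.mul_apply,
      hxy, (hπD e⁻¹).2 y, map_inv, Units.val_inv_eq_inv_val]
  -- `t` has no fixed point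
  have hfpf : ∀ p, π t p ≠ p := by
    intro p hp
    rw [hπap, Equiv.symm_apply_eq] at hp
    have := pretransitive hZ
    obtain ⟨g, hg⟩ := exists_smul_eq G a (E p)
    have hmem : g⁻¹ * t * g ∈ stabilizer G a := by
      rw [mem_stabilizer_iff, mul_smul, mul_smul, hg, hp, ← hg, inv_smul_smul]
    have h2' : orderOf (⟨_, hmem⟩ : stabilizer G a) = 2 := by
      rw [← ht, ← Subgroup.orderOf_coe]
      show orderOf (g⁻¹ * t * g) = orderOf t
      have := orderOf_injective (MulAut.conj g⁻¹).toMonoidHom (MulAut.conj g⁻¹).injective t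
      simpa using this
    have h3 := orderOf_dvd_natCard (⟨_, hmem⟩ : stabilizer G a)
    rw [h2', ← AbKernel.card_stabilizer hab hU, ← hd] at h3
    obtain ⟨k, hk⟩ := hUodd.mul hdodd
    omega
  obtain ⟨γ, hγ⟩ : ∃ γ : F, π t ((1 : F) : OnePoint F) = ↑γ := by
    rcases h : π t ((1 : F) : OnePoint F) with _ | γ
    · exfalso
      have h0 := http ((1 : F) : OnePoint F)
      rw [h] at h0
      exact one_ne_zero (OnePoint.coe_injective (h0.symm.trans htinf))
    · exact ⟨γ, rfl⟩
  have hγ0 : γ ≠ 0 := by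
    intro h0
    have h1 := http ((1 : F) : OnePoint F)
    rw [hγ, h0, ht0] at h1
    exact OnePoint.infty_ne_coe _ h1
  have hγns : ¬ IsSquare γ := by
    intro hsq
    have hg : (Units.mk0 γ hγ0) ^ d = 1 := (hsq_iff _).1 (by simpa using hsq)
    obtain ⟨k, hk⟩ := hdodd
    set s : Fˣ := Units.mk0 γ hγ0 ^ (k + 1) with hs
    have hssq : s ^ d = 1 := by rw [hs, ← pow_mul, mul_comm, pow_mul, hg, one_pow]
    have hs2 : s * s = Units.mk0 γ hγ0 := by
      rw [hs, ← pow_add, show k + 1 + (k + 1) = d + 1 by omega, pow_succ, hg, one_mul]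
    refine hfpf ↑(s : F) ?_
    have h := hanti (s : F) s.ne_zero ((hsq_iff s).2 hssq) 1 γ hγ
    rw [mul_one] at h
    rw [h]
    have hγs : γ = (s : F) * s := by rw [← Units.val_mul, hs2, Units.val_mk0]
    rw [hγs, inv_mul_cancel_left₀ s.ne_zero]
  -- `t` is `x ↦ γ / x`
  have hprod : ∀ x : F, x ≠ 0 → ¬ IsSquare x → IsSquare (x * γ⁻¹) := by
    intro x hx hxs
    have hv : ∀ y : F, (hy : y ≠ 0) → ¬ IsSquare y → (Units.mk0 y hy) ^ d = -1 := by
      intro y hy hys
      have h1 : ((Units.mk0 y hy) ^ d) * ((Units.mk0 y hy) ^ d) = 1 := by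
        rw [← pow_add, ← two_mul, show 2 * d = Fintype.card Fˣ by rw [Fintype.card_units]; omega,
          pow_card_eq_one]
      rcases mul_self_eq_one_iff.1 (congrArg Units.val h1) with h | h
      · exact absurd ((hsq_iff _).2 (Units.val_eq_one.1 h)) (by simpa using hys)
      · exact Units.ext (by simpa using h)
    have h3 : (Units.mk0 x hx * (Units.mk0 γ hγ0)⁻¹) ^ d = 1 := by
      rw [mul_pow, inv_pow, hv x hx hxs, hv γ hγ0 hγns, mul_inv_cancel]
    simpa using (hsq_iff _).2 h3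
  have hT : ∀ x : F, x ≠ 0 → π t x = ↑(γ * x⁻¹) := by
    intro x hx
    by_cases hxs : IsSquare x
    · have h := hanti x hx hxs 1 γ hγ
      rw [mul_one] at h
      rw [h, mul_comm]
    · have hTγ : π t (γ : F) = ((1 : F) : OnePoint F) := by rw [← hγ, http]
      have h := hanti (x * γ⁻¹) (mul_ne_zero hx (inv_ne_zero hγ0)) (hprod x hx hxs) γ 1 hTγ
      rw [inv_mul_cancel_right₀ hγ0, mul_one, mul_inv, inv_inv] at h
      rw [h, mul_comm]
  -- multiplication by `-1/γ`
  have hs : IsSquare (-1 * γ⁻¹) := hprod (-1) (neg_ne_zero.2 one_ne_zero) hnneg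
  obtain ⟨e, he⟩ := hπsq _ (mul_ne_zero (neg_ne_zero.2 one_ne_zero) (inv_ne_zero hγ0)) hs
  refine ⟨F, fF, ffF, h2, Moebius.nonempty_iso_psl
    (Nat.odd_iff.2 (by omega)) π hπ ?_ hπtr ⟨(e : G) * t, ?_, ?_, fun x hx => ?_⟩⟩
  · rw [AbKernel.card_group hZ hab hU, ← hd, ← hm, ← hFcard, ← one_pow 2, Nat.sq_sub_sq, hq,
      show 2 * d + 1 - 1 = 2 * d by omega]
    ring
  · rw [map_mul, Equiv.Perm.mul_apply, htinf, (hπD e).2, mul_zero]
  · rw [map_mul, Equiv.Perm.mul_apply, ht0]
    exact (hπD e).1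
  · rw [map_mul, Equiv.Perm.mul_apply, hT x hx, (hπD e).2, he]
    congr 1
    field_simp

/-- Zassenhaus: abelian kernel gives sharply triply transitive or `PSL₂(q)`, `q` odd. -/
theorem sharp_or_psl :
    (IsMultiplyPretransitive G Ω 3 ∧ ∀ t : Fin 3 ↪ Ω, stabilizer G t = ⊥) ∨
      ∃ (K : Type) (_ : Field K) (_ : Fintype K), ringChar K ≠ 2 ∧
        Nonempty (G ≃* Matrix.ProjectiveSpecialLinearGroup (Fin 2) K) := by
  have := finite_group hZ
  set d := Nat.card ↥(stabilizer G a ⊓ stabilizer G b) with hd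
  have hn3 : 3 ≤ Nat.card Ω := by
    have h1 := AbKernel.card_add_one hab hU
    have h2 := AbKernel.two_le_card hZ hab hU
    omega
  rcases Nat.even_or_odd d with hde | hdo
  · by_cases hle : 2 * d ≤ Nat.card Ω - 2
    · obtain ⟨F, fF, ffF, h2, -, hiso⟩ := iso_psl_of_even hZ hab hde hle
      exact Or.inr ⟨F, fF, ffF, h2, hiso⟩
    · refine Or.inl (sharply_of_card hZ hab ?_)
      obtain ⟨k, hk⟩ : d ∣ Nat.card Ω - 2 := card_pair_dvd hZ hab
      have h1 : k < 2 := by
        by_contra h1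
        have := Nat.mul_le_mul_left d (not_lt.1 h1)
        omega
      rcases (show k = 0 ∨ k = 1 by omega) with h | h <;> rw [h] at hk <;> omega
  · rcases Nat.even_or_odd (Nat.card Ω) with hne | hno
    · obtain ⟨hcyc, hinv⟩ := inverted_of_even_degree hZ hab hU hne hdo
      exact Or.inr (iso_psl_of_odd hZ hab hU hdo (two_mul_card_of_inverted hZ hab hU hne hdo hinv)
        hcyc hinv)
    · exact Or.inl (sharply_of_card hZ hab (card_pair_of_odd hZ hab hU hno))

end Cfsg.Agent.Lib.Zassenhaus
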