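import Cfsg.Agent.Lib.Zassenhaus.RegKernel
import Cfsg.Agent.Lib.Zassenhaus.CoherentChars
import Cfsg.Agent.Lib.Zassenhaus.AbelianCases
import Cfsg.Agent.Lib.Isometry.NormalizerBridge

/-!
# Zassenhaus groups with `|G_ab|` odd

* `kernel_dichotomy` : the kernel has order `|G_ab| + 1`, is an exceptional `2`-group, or is coherent.
* `odd_degree` : in odd degree `|G_ab| + 2 = |Ω|` or the kernel is an exceptional `2`-group.
* `even_degree` : in even degree `2 |G_ab| + 2 = |Ω|` and `G_ab` is inverted by the swaps.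
-/

set_option autoImplicit false
set_option linter.unusedSectionVars false

namespace Cfsg.Agent.Lib.Zassenhaus

open MulAction
open scoped Classical commutatorElement

universe u v

variable {G : Type u} {Ω : Type v} [Group G] [MulAction G Ω] [Finite Ω]
  (hZ : Cfsg.IsZassenhausGroup G Ω) {a b : Ω} (hab : a ≠ b) {U : Subgroup G} (hU : RegKernel a b U)

/-- A nonabelian `2`-group with small abelianisation. -/
def ExceptionalKernel (U : Subgroup G) (e : ℕ) : Prop :=
  IsPGroup 2 U ∧ (∃ x y : U, x * y ≠ y * x) ∧ (commutator U).index ≤ 4 * e ^ 2 + 1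

include hZ hab hU

/-- The dichotomy for the kernel. -/
theorem kernel_dichotomy [Fintype G] :
    Nat.card U = Nat.card ↥(stabilizer G a ⊓ stabilizer G b) + 1 ∨
      ExceptionalKernel U (Nat.card ↥(stabilizer G a ⊓ stabilizer G b)) ∨
      Nonempty (CoherentChars.Exc U) := by
  have hTI := RegKernel.ti hZ hab hU
  have hlt := RegKernel.lt_normalizer hZ hab hU
  have hC := RegKernel.centralizer_le hZ hab hU
  have : (U.subgroupOf (AbelianChars.nrm U)).Normal := Subgroup.normal_in_normalizer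
  have hidx : (U.subgroupOf (AbelianChars.nrm U)).index =
      Nat.card ↥(stabilizer G a ⊓ stabilizer G b) := RegKernel.index_eq hZ hab hU
  have hC' := Isometry.NormalizerBridge.centralizer_le U hC
  rcases Isometry.TINilpotent.dichotomy Subgroup.le_normalizer hTI hC'
      (Isometry.NormalizerBridge.ne_bot U (RegKernel.ne_bot hZ hab hU))
      (Isometry.NormalizerBridge.ne_top U hlt) with ⟨-, hc, -⟩ | ⟨⟨m, hm⟩, hab', hX⟩ | hcoh
  · left
    rw [Isometry.NormalizerBridge.card_eq] at hc
    rw [hc, ← hidx]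
  · refine Or.inr (Or.inl ⟨?_, ?_, ?_⟩)
    · rw [Isometry.NormalizerBridge.card_eq] at hm
      exact IsPGroup.of_card hm
    · by_contra! h
      exact hab' fun x hx y hy =>
        Subtype.ext (congrArg Subtype.val (h ⟨(x : G), hx⟩ ⟨(y : G), hy⟩) : (x : G) * y = y * x)
    · rw [hidx] at hX
      refine le_trans (le_of_eq ?_) hX
      have hmap : (U.subgroupOf (AbelianChars.nrm U)).map (AbelianChars.nrm U).subtype = U := by
        rw [Subgroup.subgroupOf_map_subtype, inf_eq_left.2 Subgroup.le_normalizer]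
      have h1 : ⁅U, U⁆.subgroupOf U = commutator U := by
        apply Subgroup.map_injective U.subtype_injective
        rw [Subgroup.subgroupOf_map_subtype, inf_eq_left.2 (Subgroup.commutator_le_self U),
          commutator_def, Subgroup.map_commutator, ← MonoidHom.range_eq_map, Subgroup.range_subtype]
      rw [← h1, Subgroup.lowerCentralSeries_succ, Subgroup.lowerCentralSeries_zero]
      conv_lhs => rw [← hmap, ← Subgroup.map_commutator]
      exact Subgroup.relIndex_map_map_of_injective _ _ (AbelianChars.nrm U).subtype_injective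
  · right; right
    rw [← Isometry.NormalizerBridge.setOf_eq_layer U] at hcoh
    refine CoherentChars.exists_exc U hTI hlt hC ?_ hcoh
    obtain ⟨⟨α, hα, hα0⟩, -⟩ := hcoh
    by_contra! hall
    obtain ⟨hαs, hα1⟩ := Isometry.Inner.mem_zspanOn_one.1 hα
    rcases Set.eq_empty_or_nonempty (CoherentChars.relSet U) with h | ⟨χ₀, hχ₀⟩
    · refine hα0 ?_
      change α ∈ Cfsg.zspan (CoherentChars.relSet U) at hαs
      rw [h] at hαs
      simpa [Cfsg.zspan] using hαs
    have hsing : ∀ γ ∈ Cfsg.zspan (CoherentChars.relSet U), ∃ k : ℤ, γ = (k : ℂ) • χ₀ := by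
      intro γ hγ
      induction hγ using Submodule.span_induction with
      | mem x hx => exact ⟨1, by rw [hall x hx χ₀ hχ₀]; simp⟩
      | zero => exact ⟨0, by simp⟩
      | add x y _ _ ihx ihy =>
        obtain ⟨k, rfl⟩ := ihx
        obtain ⟨l, rfl⟩ := ihy
        exact ⟨k + l, by push_cast; rw [add_smul]⟩
      | smul n x _ ih =>
        obtain ⟨k, rfl⟩ := ih
        exact ⟨n * k, by rw [Int.cast_mul, mul_smul, Int.cast_smul_eq_zsmul ℂ n]⟩
    obtain ⟨k, rfl⟩ := hsing α hαs
    simp only [Pi.smul_apply, smul_eq_mul, mul_eq_zero] at hα1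
    rcases hα1 with h | h
    · exact hα0 (by rw [h, zero_smul])
    · exact Isometry.Inner.apply_one_ne_zero_of_signed (Or.inl hχ₀.1) h

set_option maxHeartbeats 1600000 in
/-- Odd degree. -/
theorem odd_degree (hn : Odd (Nat.card Ω)) :
    Nat.card ↥(stabilizer G a ⊓ stabilizer G b) + 2 = Nat.card Ω ∨
      ExceptionalKernel U (Nat.card ↥(stabilizer G a ⊓ stabilizer G b)) := by
  by_cases hcomm : ∀ x ∈ U, ∀ y ∈ U, x * y = y * x
  · exact Or.inl (card_pair_of_odd hZ hab (RegKernel.toAbKernel hZ hab hU hcomm) hn)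
  classical
  have := finite_group hZ
  have := Fintype.ofFinite G
  have := Fintype.ofFinite Ω
  have := pretransitive hZ
  set D := stabilizer G a ⊓ stabilizer G b with hDdef
  set d := Nat.card D with hddef
  set m := Nat.card U with hmdef
  set n := Nat.card Ω with hndef
  have hmn : m + 1 = n := RegKernel.card_add_one hab hU
  have hdodd : Odd d := odd_card_pair hZ hn hab
  obtain ⟨t, ht, hta, htb⟩ := exists_swap hZ hab
  obtain ⟨c₀, hc₀, hc₀u⟩ := existsUnique_fixed_of_odd hZ hn ht
  have hinv1 : ∀ δ ∈ D, t * δ * t⁻¹ = δ⁻¹ := fun δ hδ => swap_inverts hZ hab ht hta htb hc₀ hc₀u hδ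
  have hDcomm : ∀ x ∈ D, ∀ y ∈ D, x * y = y * x := by
    intro x hx y hy
    have h := hinv1 _ (mul_mem hx hy)
    have e : t * (x * y) * t⁻¹ = (t * x * t⁻¹) * (t * y * t⁻¹) := by group
    rw [e, hinv1 x hx, hinv1 y hy, mul_inv_rev] at h
    have h' := congrArg Inv.inv h
    simp only [mul_inv_rev, inv_inv] at h'
    exact h'.symm
  have hinv : ∀ s : G, s • a = b → s • b = a → ∀ δ ∈ D, s * δ * s⁻¹ = δ⁻¹ := by
    intro s hsa hsb δ hδ
    have hm : t⁻¹ * s ∈ D := mem_pair_stabilizer.2
      ⟨by rw [mul_smul, hsa, inv_smul_eq_iff, hta], by rw [mul_smul, hsb, inv_smul_eq_iff, htb]⟩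
    calc s * δ * s⁻¹ = t * ((t⁻¹ * s) * δ * (t⁻¹ * s)⁻¹) * t⁻¹ := by group
      _ = t * δ * t⁻¹ := by rw [hDcomm _ hm δ hδ, mul_inv_cancel_right]
      _ = δ⁻¹ := hinv1 δ hδ
  -- involutions fixing a given point
  let P : G → Prop := fun g => g * g = 1 ∧ g ≠ 1
  have hord : ∀ g : G, P g → orderOf g = 2 := fun g h =>
    orderOf_eq_prime (by rw [pow_two, h.1]) h.2
  have hPc : ∀ h g : G, P g → P (h * g * h⁻¹) := fun h g hg => ⟨by
      calc h * g * h⁻¹ * (h * g * h⁻¹) = h * (g * g) * h⁻¹ := by group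
        _ = 1 := by rw [hg.1, mul_one, mul_inv_cancel],
    fun e => hg.2 (by rwa [mul_inv_eq_one, mul_eq_left] at e)⟩
  let A : Ω → Type u := fun c => {g : G // P g ∧ g • c = c}
  have hAeq : ∀ c : Ω, Nat.card (A c) = Nat.card (A a) := by
    intro c
    obtain ⟨h, rfl⟩ := exists_smul_eq G a c
    refine (Nat.card_congr (Equiv.subtypeEquiv (MulAut.conj h).toEquiv fun g => ?_)).symm
    show P g ∧ g • a = a ↔ P (h * g * h⁻¹) ∧ (h * g * h⁻¹) • h • a = h • a
    rw [mul_smul, inv_smul_smul, mul_smul, MulAction.injective h |>.eq_iff]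
    exact ⟨fun e => ⟨hPc h g e.1, e.2⟩, fun e => ⟨by simpa [mul_assoc] using hPc h⁻¹ _ e.1, e.2⟩⟩
  set r := Nat.card (A a) with hr
  set I := Nat.card {g : G // P g} with hIdef
  have hI1 : I = n * r := by
    have e : {g : G // P g} ≃ Σ c : Ω, A c :=
      { toFun := fun g => ⟨(existsUnique_fixed_of_odd hZ hn (hord g g.2)).choose, g, g.2,
          (existsUnique_fixed_of_odd hZ hn (hord g g.2)).choose_spec.1⟩
        invFun := fun q => ⟨q.2.1, q.2.2.1⟩
        left_inv := fun g => rfl
        right_inv := fun q => by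
          obtain ⟨c, g, hg, hgc⟩ := q
          obtain rfl : (existsUnique_fixed_of_odd hZ hn (hord g hg)).choose = c :=
            ((existsUnique_fixed_of_odd hZ hn (hord g hg)).choose_spec.2 c hgc).symm
          rfl }
    rw [hIdef, Nat.card_congr e, Nat.card_sigma, Finset.sum_congr rfl fun c _ => hAeq c,
      Finset.sum_const, Finset.card_univ, smul_eq_mul, hndef, Nat.card_eq_fintype_card]
  have hI2 : I = r + m * d := by
    let A' := {g : G // P g ∧ ¬ g • a = a}
    have hsum : I = r + Nat.card A' := by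
      rw [hIdef, hr, ← Nat.card_sum]
      exact Nat.card_congr
        { toFun := fun g => if h : g.1 • a = a then Sum.inl ⟨g.1, g.2, h⟩ else Sum.inr ⟨g.1, g.2, h⟩
          invFun := fun s => s.elim (fun g => ⟨g.1, g.2.1⟩) (fun g => ⟨g.1, g.2.1⟩)
          left_inv := fun g => by by_cases h : g.1 • a = a <;> simp [h]
          right_inv := fun s => by
            rcases s with g | g
            · simp [g.2.2]
            · simp [g.2.2] }
    rw [hsum, ← Nat.card_prod]
    congr 1
    refine (Nat.card_eq_of_bijective (fun p : U × D => (⟨(p.1 : G) * (t * p.2) * (p.1 : G)⁻¹,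
      hPc _ _ ?_, ?_⟩ : A')) ⟨fun p q h => ?_, fun g => ?_⟩).symm
    · have h := swaps_of_inverted hZ hab hdodd hta htb (s := t * p.2)
        (by rw [mul_smul, (mem_pair_stabilizer.1 p.2.2).1, hta])
        (by rw [mul_smul, (mem_pair_stabilizer.1 p.2.2).2, htb]) hinv
      exact ⟨by rw [← pow_two, ← h.1, pow_orderOf_eq_one],
        fun e => by rw [e, orderOf_one] at h; omega⟩
    · rw [mul_smul, mul_smul, inv_smul_eq_iff.2 (mem_stabilizer_iff.1 (hU.le p.1.2)).symm, mul_smul,
        (mem_pair_stabilizer.1 p.2.2).1, hta]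
      exact RegKernel.smul_b_ne hab hU p.1
    · have h' : (p.1 : G) * (t * p.2) * (p.1 : G)⁻¹ = q.1 * (t * q.2) * (q.1 : G)⁻¹ :=
        congrArg Subtype.val h
      have hima : ∀ q : U × D, ((q.1 : G) * (t * q.2) * (q.1 : G)⁻¹) • a = (q.1 : G) • b := fun q => by
        rw [mul_smul, mul_smul, inv_smul_eq_iff.2 (mem_stabilizer_iff.1 (hU.le q.1.2)).symm, mul_smul,
          (mem_pair_stabilizer.1 q.2.2).1, hta]
      have e1 : p.1 = q.1 := (hU.reg _ (RegKernel.smul_b_ne hab hU q.1)).unique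
        (by rw [← hima p, h', hima q]) rfl
      rw [e1] at h'
      exact Prod.ext e1 (Subtype.ext (mul_left_cancel (mul_left_cancel (mul_right_cancel h'))))
    · obtain ⟨u, hu, -⟩ := hU.reg (g.1 • a) g.2.2
      have hgg : g.1 • g.1 • a = a := by rw [← mul_smul, g.2.1.1, one_smul]
      have hm : t⁻¹ * ((u : G)⁻¹ * g.1 * u) ∈ D := by
        have hua := mem_stabilizer_iff.1 (hU.le u.2)
        refine mem_pair_stabilizer.2 ⟨?_, ?_⟩
        · rw [mul_smul, mul_smul, mul_smul, hua, ← hu, inv_smul_smul, inv_smul_eq_iff, hta]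
        · rw [mul_smul, mul_smul, mul_smul, hu, hgg, inv_smul_eq_iff.2 hua.symm, inv_smul_eq_iff, htb]
      exact ⟨(u, ⟨_, hm⟩), Subtype.ext (by
        show (u : G) * (t * (t⁻¹ * ((u : G)⁻¹ * g.1 * u))) * (u : G)⁻¹ = g.1
        group)⟩
  have hm0 : 0 < m := Nat.card_pos
  have hrd : r = d := by
    refine Nat.eq_of_mul_eq_mul_left hm0 ?_
    rw [hI1, ← hmn, Nat.add_mul, one_mul] at hI2
    omega
  -- they lie in `U`
  have hAU : ∀ g : G, P g → g • a = a → g ∈ U := by
    intro g hg hga
    by_contra hgU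
    let K := U.subgroupOf (stabilizer G a)
    have : K.Normal := ⟨fun x hx y => hU.conj y (mem_stabilizer_iff.1 y.2) x hx⟩
    let q := QuotientGroup.mk' K ⟨g, mem_stabilizer_iff.2 hga⟩
    have hidx : Nat.card (stabilizer G a ⧸ K) = d := by
      refine Nat.eq_of_mul_eq_mul_left hm0 ?_
      rw [hmdef, hddef, RegKernel.card_stabilizer hab hU, ← Nat.card_congr
        (Subgroup.subgroupOfEquivOfLe hU.le).toEquiv, ← Subgroup.index_eq_card, Subgroup.card_mul_index]
    have hq1 : q ≠ 1 := fun h => hgU ((QuotientGroup.eq_one_iff (N := K) _).1 h)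
    have hq2 : q * q = 1 := by
      rw [← map_mul, ← map_one (QuotientGroup.mk' K)]
      exact congrArg _ (Subtype.ext hg.1)
    have h2 : orderOf q = 2 := orderOf_eq_prime (by rw [pow_two, hq2]) hq1
    have h3 := orderOf_dvd_natCard q
    rw [h2, hidx] at h3
    obtain ⟨k, hk⟩ := hdodd
    omega
  have hclass : Nat.card {v : G // v ∈ U ∧ v * v = 1 ∧ v ≠ 1} = d := by
    rw [← hrd, hr]
    exact Nat.card_congr (Equiv.subtypeEquivRight fun v =>
      ⟨fun h => ⟨⟨h.2.1, h.2.2⟩, mem_stabilizer_iff.1 (hU.le h.1)⟩,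
        fun h => ⟨hAU v h.1 h.2, h.1.1, h.1.2⟩⟩)
  have hd2 : 2 ≤ d := RegKernel.two_le_card_pair hZ hab hU
  obtain ⟨⟨i, hiU, hii, hi1⟩⟩ : Nonempty {v : G // v ∈ U ∧ v * v = 1 ∧ v ≠ 1} :=
    (Nat.card_pos_iff.1 (by omega)).1
  have hconj : ∀ v ∈ U, v * v = 1 → v ≠ 1 → ∃ δ : D, (δ : G) * i * (δ : G)⁻¹ = v := by
    intro v hv hvv hv1
    have hbij := (show Function.Injective fun δ : D => (⟨(δ : G) * i * (δ : G)⁻¹,
        RegKernel.conj_pair_mem hZ hab hU hiU δ, (hPc _ i ⟨hii, hi1⟩).1,
        (hPc _ i ⟨hii, hi1⟩).2⟩ : {v : G // v ∈ U ∧ v * v = 1 ∧ v ≠ 1}) from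
      fun δ ε h => RegKernel.conj_pair_injective hZ hab hU hiU hi1
        (congrArg Subtype.val h)).bijective_of_nat_card_le (by rw [hclass])
    obtain ⟨δ, hδ⟩ := hbij.2 ⟨v, hv, hvv, hv1⟩
    exact ⟨δ, congrArg Subtype.val hδ⟩
  -- all involutions of `U` are central
  have hinvc : ∀ v ∈ U, v * v = 1 → ∀ x ∈ U, x * v = v * x := by
    obtain ⟨q, hq⟩ : 2 ∣ Nat.card U := even_iff_two_dvd.1 (by
      obtain ⟨j, hj⟩ := hn
      exact ⟨j, by omega⟩)
    have := Fact.mk Nat.prime_two
    obtain ⟨z, hz, hz2⟩ := Isometry.FeitCoherence.exists_central_orderOf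
      (RegKernel.isNilpotent hZ hab hU) (q := 2) ⟨q, hq⟩
    have hzz : (z : G) * z = 1 := by
      rw [← pow_two, ← hz2, ← Subgroup.coe_pow, pow_orderOf_eq_one, OneMemClass.coe_one]
    have hz1 : (z : G) ≠ 1 := fun h => by
      rw [show z = 1 from Subtype.ext h, orderOf_one] at hz2; omega
    have hzc : ∀ x ∈ U, x * (z : G) = z * x := fun x hx =>
      congrArg Subtype.val (Subgroup.mem_center_iff.1 hz ⟨x, hx⟩)
    obtain ⟨δz, hδz⟩ := hconj z z.2 hzz hz1
    intro v hv hvv x hx
    by_cases hv1 : v = 1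
    · simp [hv1]
    obtain ⟨δ, hδ⟩ := hconj v hv hvv hv1
    -- `v` is a conjugate of `z` by an element of `G_a`
    set g : G := (δ : G) * (δz : G)⁻¹ with hg
    have hgv : g * z * g⁻¹ = v := by rw [← hδ, hg, ← hδz]; group
    have hga : g⁻¹ • a = a := by
      rw [hg, mul_inv_rev, inv_inv, mul_smul, inv_smul_eq_iff.2 (mem_pair_stabilizer.1 δ.2).1.symm,
        (mem_pair_stabilizer.1 δz.2).1]
    have hx' := hzc (g⁻¹ * x * g) (by simpa using hU.conj g⁻¹ hga x hx)
    calc x * v = g * ((g⁻¹ * x * g) * z) * g⁻¹ := by rw [← hgv]; group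
      _ = g * ((z : G) * (g⁻¹ * x * g)) * g⁻¹ := by rw [hx']
      _ = v * x := by rw [← hgv]; group
  rcases kernel_dichotomy hZ hab hU with h1 | h1 | ⟨⟨E⟩⟩
  · rw [← hmdef, ← hDdef, ← hddef] at h1
    exact Or.inl (by omega)
  · exact Or.inr h1
  exfalso
  push Not at hcomm
  obtain ⟨x₀, hx₀, y₀, hy₀, hne⟩ := hcomm
  have hidx : (U.subgroupOf (AbelianChars.nrm U)).index = d := RegKernel.index_eq hZ hab hU
  have hsq : ∀ u ∈ U, u * u = 1 := by
    refine CoherentChars.involutions_only U (RegKernel.ti hZ hab hU)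
      (RegKernel.lt_normalizer hZ hab hU) (RegKernel.centralizer_le hZ hab hU) E hiU
      (hord i ⟨hii, hi1⟩) ?_ ?_ ?_ ?_ ?_ hinvc ?_
    · rw [hidx]
      obtain ⟨k, hk⟩ := hdodd
      omega
    · rw [hidx, ← hmdef]
      -- the centre
      set K := U.subgroupOf (AbelianChars.nrm U) with hKdef
      have : K.Normal := Subgroup.normal_in_normalizer
      have hC' := Isometry.NormalizerBridge.centralizer_le U (RegKernel.centralizer_le hZ hab hU)
      set Z₀ : Subgroup (AbelianChars.nrm U) := (Subgroup.center K).map K.subtype with hZ₀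
      have : Z₀.Normal := inferInstance
      have hZK : Z₀ ≤ K := Subgroup.map_subtype_le _
      have hZmod := Isometry.Layers.relIndex_modEq hC' Z₀ hZK
      rw [hidx] at hZmod
      have hrel : Z₀.relIndex K = (Subgroup.center K).index := by
        show (Z₀.subgroupOf K).index = _
        rw [hZ₀, Subgroup.subgroupOf, Subgroup.comap_map_eq_self_of_injective K.subtype_injective]
      have hne1 : Z₀.relIndex K ≠ 1 := by
        rw [hrel, Ne, Subgroup.index_eq_one, Subgroup.eq_top_iff']
        intro h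
        apply hne
        exact congrArg (fun z : K => ((z : AbelianChars.nrm U) : G)) (Subgroup.mem_center_iff.1
          (h ⟨⟨y₀, Subgroup.le_normalizer hy₀⟩, hy₀⟩) ⟨⟨x₀, Subgroup.le_normalizer hx₀⟩, hx₀⟩)
      have h0 : 0 < Z₀.relIndex K := Nat.pos_of_ne_zero
        (Subgroup.index_ne_zero_of_finite (H := Z₀.subgroupOf K))
      have hbig : d + 1 ≤ Z₀.relIndex K := by
        have := Nat.le_of_dvd (by omega) ((Nat.modEq_iff_dvd' h0).1 hZmod.symm)
        omega
      have hcenter : d + 1 ≤ Nat.card (Subgroup.center K) := by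
        rw [← hclass, ← Finite.card_option]
        refine Nat.card_le_card_of_injective (fun o => o.elim 1 fun v =>
          (⟨⟨⟨v.1, Subgroup.le_normalizer v.2.1⟩, v.2.1⟩, Subgroup.mem_center_iff.2 fun g =>
            Subtype.ext (Subtype.ext (hinvc v.1 v.2.1 v.2.2.1 _ g.2))⟩ : Subgroup.center K))
          fun o o' h => ?_
        have h' := congrArg (fun z : Subgroup.center K => (((z : K) : AbelianChars.nrm U) : G)) h
        rcases o with _ | v <;> rcases o' with _ | w
        · rfl
        · exact absurd (Eq.symm (h' : (1 : G) = w.1)) w.2.2.2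
        · exact absurd (h' : v.1 = 1) v.2.2.2
        · exact congrArg some (Subtype.ext (h' : v.1 = w.1))
      have hmul := (Subgroup.center K).index_mul_card
      rw [← hrel, Isometry.NormalizerBridge.card_eq, ← hmdef] at hmul
      rw [← hmul, pow_two]
      exact Nat.mul_le_mul hbig hcenter
    · rw [hidx, RegKernel.card_group hZ hab hU, ← hndef, ← hmn, ← hmdef, ← hDdef, ← hddef]
      nlinarith
    · rw [hidx]; exact hclass
    · intro v hv hvv hv1
      obtain ⟨δ, hδ⟩ := hconj v hv hvv hv1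
      exact ⟨⟨δ, by show (δ : G) ∈ Subgroup.normalizer (U : Set G); rw [RegKernel.normalizer_eq hZ hab hU]; exact δ.2.1⟩, hδ⟩
    · intro x y hxy hxy1
      set p := x * i * x⁻¹
      set q := y * i * y⁻¹
      have hp : P p := hPc x i ⟨hii, hi1⟩
      have hq : P q := hPc y i ⟨hii, hi1⟩
      have hpn : p ∈ Subgroup.normalizer (U : Set G) := by
        by_contra hpn
        refine hxy1 (RegKernel.ti hZ hab hU p hpn _ hxy ?_)
        have e : p * (p * q) * p⁻¹ = (p * q)⁻¹ :=
          calc p * (p * q) * p⁻¹ = p * p * q * p⁻¹ := by rw [← mul_assoc p p q]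
            _ = q⁻¹ * p⁻¹ := by rw [hp.1, one_mul, inv_eq_of_mul_eq_one_right hq.1]
            _ = (p * q)⁻¹ := (mul_inv_rev p q).symm
        rw [e]
        exact inv_mem hxy
      rw [RegKernel.normalizer_eq hZ hab hU, mem_stabilizer_iff] at hpn
      have hpU := hAU p hp hpn
      exact ⟨hpU, by simpa using mul_mem (inv_mem hpU) hxy⟩
  refine hne ?_
  have h1 := hsq _ (mul_mem hx₀ hy₀)
  rw [← eq_inv_iff_mul_eq_one, mul_inv_rev, inv_eq_of_mul_eq_one_right (hsq _ hx₀),
    inv_eq_of_mul_eq_one_right (hsq _ hy₀)] at h1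
  exact h1

set_option maxHeartbeats 1600000 in
/-- In even degree, `G_ab` of odd order inverted by the swaps has order `(|Ω| - 2) / 2`. -/
theorem even_card_of_inverted (hn : Even (Nat.card Ω))
    (hdodd : Odd (Nat.card ↥(stabilizer G a ⊓ stabilizer G b)))
    (hinv : ∀ s : G, s • a = b → s • b = a →
      ∀ h ∈ stabilizer G a ⊓ stabilizer G b, s * h * s⁻¹ = h⁻¹) :
    2 * Nat.card ↥(stabilizer G a ⊓ stabilizer G b) + 2 = Nat.card Ω := by
  classical
  have := finite_group hZ
  have := Fintype.ofFinite G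
  have := Fintype.ofFinite Ω
  have := pretransitive hZ
  set D := stabilizer G a ⊓ stabilizer G b with hDdef
  set d := Nat.card D with hddef
  set m := Nat.card U with hmdef
  set n := Nat.card Ω with hndef
  have hmn : m + 1 = n := RegKernel.card_add_one hab hU
  have hmodd : Odd m := by
    obtain ⟨k, hk⟩ := hn
    exact ⟨k - 1, by omega⟩
  have hGa : Odd (Nat.card (stabilizer G a)) := by
    rw [← RegKernel.card_stabilizer hab hU]
    exact hmodd.mul hdodd
  obtain ⟨t, ht, hta, htb⟩ := exists_swap hZ hab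
  obtain ⟨k, hk⟩ : d ∣ n - 2 := card_pair_dvd hZ hab
  -- `k` is even
  obtain ⟨j, rfl⟩ : Even k := by
    rcases Nat.even_or_odd k with h | h
    · exact h
    · obtain ⟨p, hp⟩ := hdodd.mul h
      obtain ⟨q, hq⟩ := hn
      omega
  have hd2 : 2 ≤ d := RegKernel.two_le_card_pair hZ hab hU
  have hm2 : 2 ≤ m := RegKernel.two_le_card hZ hab hU
  by_contra hne
  have hj1 : j ≠ 1 := fun h => hne (by subst h; omega)
  have hj0 : j ≠ 0 := fun h => by subst h; simp at hk; omega
  have h4 : 4 * d < m := by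
    have : d * 4 ≤ d * (j + j) := Nat.mul_le_mul_left d (by omega)
    omega
  let P : G → Prop := fun g => g * g = 1 ∧ g ≠ 1
  -- every involution is conjugate to `t`
  have hfpf : ∀ g : G, P g → ∀ c : Ω, g • c ≠ c := by
    intro g hg c hc
    obtain ⟨h, rfl⟩ := exists_smul_eq G a c
    have hmem : h⁻¹ * g * h ∈ stabilizer G a := by
      rw [mem_stabilizer_iff, mul_smul, mul_smul, hc, inv_smul_smul]
    have h2 : orderOf (⟨_, hmem⟩ : stabilizer G a) = 2 := orderOf_eq_prime (Subtype.ext (by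
        show (h⁻¹ * g * h) ^ 2 = 1
        rw [pow_two]
        calc h⁻¹ * g * h * (h⁻¹ * g * h) = h⁻¹ * (g * g) * h := by group
          _ = 1 := by rw [hg.1, mul_one, inv_mul_cancel]))
      (fun e => hg.2 (by
        have e' : h⁻¹ * g * h = 1 := congrArg Subtype.val e
        calc g = h * (h⁻¹ * g * h) * h⁻¹ := by group
          _ = 1 := by rw [e', mul_one, mul_inv_cancel]))
    have h3 := orderOf_dvd_natCard (⟨_, hmem⟩ : stabilizer G a)
    rw [h2] at h3
    obtain ⟨p, hp⟩ := hGa
    omega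
  have htP : P t := ⟨by rw [← pow_two, ← ht, pow_orderOf_eq_one],
    fun h => by rw [h, orderOf_one] at ht; omega⟩
  have hconj : ∀ x : G, x * x = 1 → x ≠ 1 → IsConj t x := by
    intro x hxx hx1
    obtain ⟨g, hga, hgb⟩ := exists_smul_pair hZ hab (hfpf x ⟨hxx, hx1⟩ a).symm
    have hsa : (g⁻¹ * x * g) • a = b := by rw [mul_smul, mul_smul, hga, ← hgb, inv_smul_smul]
    have hsb : (g⁻¹ * x * g) • b = a := by
      rw [mul_smul, mul_smul, hgb, ← mul_smul x, hxx, one_smul, inv_smul_eq_iff, hga]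
    obtain ⟨-, δ, -, hδ⟩ := swaps_of_inverted hZ hab hdodd hta htb hsa hsb hinv
    exact isConj_iff.2 ⟨g * δ, by
      calc g * δ * t * (g * δ)⁻¹ = g * (δ * t * δ⁻¹) * g⁻¹ := by group
        _ = x := by rw [hδ]; group⟩
  have hI : Nat.card {x : G // x * x = 1 ∧ x ≠ 1} = m * d := by
    rw [hmdef, hddef, ← Nat.card_prod]
    refine (Nat.card_eq_of_bijective (fun p : U × D => (⟨(p.1 : G) * (t * p.2) * (p.1 : G)⁻¹,
      ?_⟩ : {x : G // x * x = 1 ∧ x ≠ 1})) ⟨fun p q h => ?_, fun g => ?_⟩).symm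
    · have h := (swaps_of_inverted hZ hab hdodd hta htb (s := t * p.2)
        (by rw [mul_smul, (mem_pair_stabilizer.1 p.2.2).1, hta])
        (by rw [mul_smul, (mem_pair_stabilizer.1 p.2.2).2, htb]) hinv).1
      refine ⟨?_, fun e => ?_⟩
      · calc (p.1 : G) * (t * p.2) * (p.1 : G)⁻¹ * ((p.1 : G) * (t * p.2) * (p.1 : G)⁻¹)
            = (p.1 : G) * (t * p.2) ^ 2 * (p.1 : G)⁻¹ := by rw [pow_two]; group
          _ = 1 := by rw [← h, pow_orderOf_eq_one, mul_one, mul_inv_cancel]
      · rw [mul_inv_eq_one, mul_eq_left] at e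
        rw [e, orderOf_one] at h
        omega
    · have h' : (p.1 : G) * (t * p.2) * (p.1 : G)⁻¹ = q.1 * (t * q.2) * (q.1 : G)⁻¹ :=
        congrArg Subtype.val h
      have hima : ∀ q : U × D, ((q.1 : G) * (t * q.2) * (q.1 : G)⁻¹) • a = (q.1 : G) • b := fun q => by
        rw [mul_smul, mul_smul, inv_smul_eq_iff.2 (mem_stabilizer_iff.1 (hU.le q.1.2)).symm, mul_smul,
          (mem_pair_stabilizer.1 q.2.2).1, hta]
      have e1 : p.1 = q.1 := (hU.reg _ (RegKernel.smul_b_ne hab hU q.1)).unique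
        (by rw [← hima p, h', hima q]) rfl
      rw [e1] at h'
      exact Prod.ext e1 (Subtype.ext (mul_left_cancel (mul_left_cancel (mul_right_cancel h'))))
    · obtain ⟨u, hu, -⟩ := hU.reg (g.1 • a) (hfpf g.1 g.2 a)
      have hgg : g.1 • g.1 • a = a := by rw [← mul_smul, g.2.1, one_smul]
      have hm : t⁻¹ * ((u : G)⁻¹ * g.1 * u) ∈ D := by
        have hua := mem_stabilizer_iff.1 (hU.le u.2)
        refine mem_pair_stabilizer.2 ⟨?_, ?_⟩
        · rw [mul_smul, mul_smul, mul_smul, hua, ← hu, inv_smul_smul, inv_smul_eq_iff, hta]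
        · rw [mul_smul, mul_smul, mul_smul, hu, hgg, inv_smul_eq_iff.2 hua.symm, inv_smul_eq_iff, htb]
      exact ⟨(u, ⟨_, hm⟩), Subtype.ext (by
        show (u : G) * (t * (t⁻¹ * ((u : G)⁻¹ * g.1 * u))) * (u : G)⁻¹ = g.1
        group)⟩
  have hG : Nat.card G = n * (m * d) := RegKernel.card_group hZ hab hU
  have hC : Nat.card (Subgroup.centralizer ({t} : Set G)) = n := by
    refine Nat.eq_of_mul_eq_mul_left (show 0 < m * d from Nat.mul_pos (by omega) (by omega)) ?_
    rw [mul_comm (m * d) n, ← hG, ← Characters.Complete.card_conjugates_mul_centralizer t, ← hI]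
    congr 1
    exact Nat.card_congr (Equiv.subtypeEquivRight fun x => ⟨fun h => hconj x h.1 h.2, fun h => by
      obtain ⟨c, rfl⟩ := isConj_iff.1 h
      refine ⟨?_, fun e => htP.2 (by rwa [mul_inv_eq_one, mul_eq_left] at e)⟩
      calc c * t * c⁻¹ * (c * t * c⁻¹) = c * (t * t) * c⁻¹ := by group
        _ = 1 := by rw [htP.1, mul_one, mul_inv_cancel]⟩)
  -- the real characters
  have hexc : 4 * d < m → Nonempty (CoherentChars.Exc U) := fun h4' => by
    rcases kernel_dichotomy hZ hab hU with h1 | h1 | h1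
    · rw [← hmdef, ← hDdef, ← hddef] at h1; omega
    · exfalso
      have := Fact.mk Nat.prime_two
      obtain ⟨j, hj⟩ := IsPGroup.iff_card.1 h1.1
      rw [← hmdef] at hj
      rcases Nat.eq_zero_or_pos j with rfl | hj0
      · omega
      · exact Nat.not_even_iff_odd.2 hmodd (hj ▸ Nat.even_pow.2 ⟨even_two, hj0.ne'⟩)
    · exact h1
  have hidx : (U.subgroupOf (AbelianChars.nrm U)).index = d := RegKernel.index_eq hZ hab hU
  have hS₀ : Cfsg.IsIrrCharacter G (fun g => Characters.Transitive.permChar Ω g - 1) :=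
    (Characters.Transitive.isIrrCharacter_iff Ω (show 2 ≤ Nat.card Ω by omega)).2 (two_trans hZ)
  have hR : Nat.card {C : ConjClasses G // ∀ g : G, ConjClasses.mk g = C → IsConj g g⁻¹} ≤ d + 1 := by
    rw [← Characters.Indicator.card_real_irr, ← hidx]
    refine CoherentChars.card_real_le U (RegKernel.ti hZ hab hU) (RegKernel.lt_normalizer hZ hab hU)
      (RegKernel.centralizer_le hZ hab hU) (Classical.choice (hexc (by omega))) ?_ ?_ ⟨_, hS₀⟩ ?_
    · rw [hidx]; omega
    · show Odd (Nat.card (Subgroup.normalizer (U : Set G)))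
      rw [RegKernel.normalizer_eq hZ hab hU]; exact hGa
    intro χ hreal hzero
    have := Fintype.ofFinite (stabilizer G a)
    have := Fintype.ofFinite (Cfsg.IrrCharacter (stabilizer G a))
    set K := U.subgroupOf (stabilizer G a) with hKdef
    have hKn : K.Normal := ⟨fun x hx y => hU.conj y (mem_stabilizer_iff.1 y.2) x hx⟩
    set ψ : stabilizer G a → ℂ := fun g => (χ : G → ℂ) g with hψ
    set NR := Finset.univ.filter (fun φ : Cfsg.IrrCharacter (stabilizer G a) =>
      ¬ Clifford.KernelChars.Rel K (φ : stabilizer G a → ℂ)) with hNR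
    -- some constituent of the restriction is trivial on `U`
    obtain ⟨φ, hφU, hφ0⟩ : ∃ φ : Cfsg.IrrCharacter (stabilizer G a),
        ¬ Clifford.KernelChars.Rel K (φ : stabilizer G a → ℂ) ∧
          Cfsg.classInner (φ : stabilizer G a → ℂ) ψ ≠ 0 := by
      by_contra! h
      have hsum : ∑ φ ∈ NR,
          (φ : stabilizer G a → ℂ) 1 • Cfsg.classInner (φ : stabilizer G a → ℂ) ψ = 0 :=
        Finset.sum_eq_zero fun φ hφ => by rw [h φ (Finset.mem_filter.1 hφ).2, smul_zero]
      have key : (K.index : ℂ) * (χ : G → ℂ) 1 = 0 := by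
        rw [← Characters.Basic.conj_apply_one (Characters.Basic.isCharacter_irr χ)]
        have e : (Nat.card (stabilizer G a) : ℂ) * 0 = (K.index : ℂ) * (starRingEnd ℂ) ((χ : G → ℂ) 1) := by
          rw [← hsum]
          simp only [Cfsg.classInner, smul_eq_mul, Finset.mul_sum]
          rw [Finset.sum_comm, Finset.sum_eq_single (1 : stabilizer G a)]
          · have h1 := Clifford.KernelChars.sum_not_rel K K.one_mem
            rw [← h1, Finset.sum_mul]
            refine Finset.sum_congr rfl fun φ _ => ?_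
            have hc : (Nat.card (stabilizer G a) : ℂ) ≠ 0 := Induced.Basic.natCard_ne_zero
            simp only [hψ, OneMemClass.coe_one]
            field_simp
          · intro g _ hg
            by_cases hgK : g ∈ K
            · refine Finset.sum_eq_zero fun φ _ => ?_
              simp only [hψ]
              rw [hzero g hgK (fun e => hg (Subtype.ext e))]
              simp
            · have hnr : ∑ φ ∈ NR,
                  (φ : stabilizer G a → ℂ) 1 * (φ : stabilizer G a → ℂ) g = 0 :=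
                sum_not_rel_of_not_mem K hgK
              calc _ = (starRingEnd ℂ) (ψ g) * ∑ φ ∈ NR,
                  (φ : stabilizer G a → ℂ) 1 * (φ : stabilizer G a → ℂ) g := by
                    rw [Finset.mul_sum]
                    refine Finset.sum_congr rfl fun φ _ => ?_
                    have hc : (Nat.card (stabilizer G a) : ℂ) ≠ 0 := Induced.Basic.natCard_ne_zero
                    field_simp
                _ = 0 := by rw [hnr, mul_zero]
          · exact fun h => absurd (Finset.mem_univ _) h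
        rw [mul_zero] at e
        exact e.symm
      exact mul_ne_zero (Clifford.KernelChars.index_ne_zero K)
        (Characters.Basic.apply_one_ne_zero χ) key
    have hφK : ∀ g ∈ K, (φ : stabilizer G a → ℂ) g = (φ : stabilizer G a → ℂ) 1 := fun g hg => by
      by_contra hne
      exact hφU ⟨g, hg, hne⟩
    have hφ1 : (φ : stabilizer G a → ℂ) 1 = 1 := by
      obtain ⟨φ', hφ', hφ''⟩ : ∃ φ' : Cfsg.IrrCharacter (stabilizer G a ⧸ K),
          (φ : stabilizer G a → ℂ) 1 = (φ' : stabilizer G a ⧸ K → ℂ) 1 ∧ True := by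
        obtain ⟨p, hp⟩ := (Characters.Kernel.inflateEquiv K).surjective ⟨φ, hφK⟩
        refine ⟨p, ?_, trivial⟩
        have := Characters.Kernel.inflateEquiv_apply K p 1
        rw [hp] at this
        simpa using this
      rw [hφ']
      refine Characters.Linear.degree_eq_one_of_comm (fun x y => ?_) φ'
      obtain ⟨g, rfl⟩ := QuotientGroup.mk'_surjective K x
      obtain ⟨h, rfl⟩ := QuotientGroup.mk'_surjective K y
      have hred : ∀ g : stabilizer G a, ∃ δ : stabilizer G a, (δ : G) ∈ D ∧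
          QuotientGroup.mk' K g = QuotientGroup.mk' K δ := by
        intro g
        obtain ⟨u, hu, hm⟩ := RegKernel.decomp hab hU (mem_stabilizer_iff.1 g.2)
        refine ⟨⟨u⁻¹ * g, hm.1⟩, hm, ?_⟩
        refine (congrArg (QuotientGroup.mk' K) (show g = (⟨u, hU.le hu⟩ : stabilizer G a) *
          ⟨u⁻¹ * g, hm.1⟩ from Subtype.ext (mul_inv_cancel_left u (g : G)).symm)).trans ?_
        rw [map_mul,
          show QuotientGroup.mk' K ⟨u, hU.le hu⟩ = 1 from (QuotientGroup.eq_one_iff (N := K) _).2 hu, one_mul]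
      obtain ⟨g', hg', eg⟩ := hred g
      obtain ⟨h', hh', eh⟩ := hred h
      rw [eg, eh, ← map_mul, ← map_mul]
      congr 1
      refine Subtype.ext ?_
      show (g' : G) * h' = h' * g'
      have e1 := hinv t hta htb _ (mul_mem hg' hh')
      have e2 : t * ((g' : G) * h') * t⁻¹ = (t * g' * t⁻¹) * (t * h' * t⁻¹) := by group
      rw [e2, hinv t hta htb _ hg', hinv t hta htb _ hh', mul_inv_rev] at e1
      have e3 := congrArg Inv.inv e1
      simp only [mul_inv_rev, inv_inv] at e3
      exact e3.symm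
    have hψc : Cfsg.IsClassFunction G (χ : G → ℂ) := Characters.Basic.isClassFunction_irr χ
    rw [← Induced.Basic.frobenius_reciprocity _ _ hψc] at hφ0
    by_cases hφt : (φ : stabilizer G a → ℂ) = fun _ => 1
    · rw [hφt, ← Induced.Basic.card_fixedBy_eq_indFun Ω a] at hφ0
      have hp : (fun g : G => (Nat.card (fixedBy Ω g) : ℂ)) =
          (fun g : G => Characters.Transitive.permChar Ω g - 1) +
            (Characters.Basic.oneChar G : G → ℂ) := by
        funext g
        simp [Characters.Transitive.permChar, Characters.Basic.oneChar_apply]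
      rw [hp, Induced.Basic.classInner_add_left] at hφ0
      have h1 : Cfsg.classInner (Characters.Basic.oneChar G : G → ℂ) (χ : G → ℂ) = 0 := by
        refine Characters.Basic.classInner_irr_of_ne fun e => ?_
        obtain ⟨w, hw, hw1⟩ := RegKernel.exists_ne_one hZ hab hU
        have := hzero w hw hw1
        rw [← e, Characters.Basic.oneChar_apply] at this
        exact one_ne_zero this
      rw [h1, add_zero] at hφ0
      by_contra hne'
      exact hφ0 (Characters.Basic.classInner_irr_of_ne (χ := ⟨_, hS₀⟩) (ψ := χ) (Ne.symm hne'))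
    · exfalso
      obtain ⟨hirr, hval⟩ := IndChar.isIrr_indFun hZ hab hdodd ⟨t, hta, hinv t hta htb⟩ U hU.le
        (by rw [← Nat.card_eq_fintype_card]; exact hmn)
        (fun u hu hu1 c hc => by
          by_contra hca
          exact hu1 (RegKernel.free hab hU hu hca hc))
        (μ := (φ : stabilizer G a → ℂ)) ⟨Characters.Basic.isCharacter_irr φ, hφ1⟩
        (fun u hu => (hφK u hu).trans hφ1) hφt
      have heq : (⟨_, hirr⟩ : Cfsg.IrrCharacter G) = χ := by
        by_contra hne'
        exact hφ0 (Characters.Basic.classInner_irr_of_ne hne')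
      obtain ⟨w, hw, hw1⟩ := RegKernel.exists_ne_one hZ hab hU
      have h1 := hval w hw hw1
      have h2 := hzero w hw hw1
      rw [← heq] at h2
      exact one_ne_zero (h1.symm.trans h2)
  exact InvolutionCount.false_of_counts t htP hconj hI hC hmn hG hR hd2 h4


/-- Even degree. -/
theorem even_degree (hn : Even (Nat.card Ω))
    (hdodd : Odd (Nat.card ↥(stabilizer G a ⊓ stabilizer G b))) :
    2 * Nat.card ↥(stabilizer G a ⊓ stabilizer G b) + 2 = Nat.card Ω ∧
      IsCyclic ↥(stabilizer G a ⊓ stabilizer G b) ∧ ∀ s : G, s • a = b → s • b = a →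
        ∀ h ∈ stabilizer G a ⊓ stabilizer G b, s * h * s⁻¹ = h⁻¹ := by
  classical
  have := finite_group hZ
  set D := stabilizer G a ⊓ stabilizer G b with hD
  have hm : Nat.card U + 1 = Nat.card Ω := RegKernel.card_add_one hab hU
  have hm2 := RegKernel.two_le_card hZ hab hU
  have hdn : Nat.card D ∣ Nat.card Ω - 2 := card_pair_dvd hZ hab
  -- conjugates of elements of `U` have order prime to the prime divisors of `|G_ab|`
  have hcop : ∀ q : ℕ, q.Prime → q ∣ Nat.card D →
      ∀ x ∈ Group.conjugatesOfSet (U : Set G), Nat.Coprime q (orderOf x) := by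
    intro q hq hqd x hx
    obtain ⟨u, hu, hux⟩ := Group.mem_conjugatesOfSet_iff.1 hx
    obtain ⟨g, rfl⟩ := isConj_iff.1 hux
    rw [hq.coprime_iff_not_dvd,
      show orderOf (g * u * g⁻¹) = orderOf u from
        orderOf_injective (MulAut.conj g).toMonoidHom (MulAut.conj g).injective u]
    intro h
    have h1 : q ∣ Nat.card U := h.trans (Subgroup.orderOf_dvd_natCard _ hu)
    have h2 : q ∣ Nat.card U - 1 := by
      rw [show Nat.card U - 1 = Nat.card Ω - 2 by omega]; exact hqd.trans hdn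
    have h3 := Nat.dvd_sub h1 h2
    rw [show Nat.card U - (Nat.card U - 1) = 1 by omega] at h3
    exact hq.one_lt.ne' (Nat.dvd_one.1 h3)
  -- the normal subgroup generated by the conjugates of `U`
  set N := Subgroup.normalClosure (U : Set G) with hNdef
  have hUN : U ≤ N := Subgroup.subset_normalClosure
  have hNne : N ≠ ⊥ := fun h => RegKernel.ne_bot hZ hab hU (le_bot_iff.1 (h ▸ hUN))
  have hZN := Cfsg.Agent.S0339.result hZ N hNne
  have hUN' : RegKernel (G := N) a b (U.subgroupOf N) :=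
    { le := fun x hx => mem_stabilizer_iff.2 (mem_stabilizer_iff.1 (hU.le hx) : (x : G) • a = a)
      conj := fun g hg x hx => hU.conj (g : G) hg x hx
      reg := fun z hz => by
        obtain ⟨u, hu, huniq⟩ := hU.reg z hz
        refine ⟨⟨⟨u, hUN u.2⟩, u.2⟩, hu, fun v hv => ?_⟩
        have h := congrArg (fun w : U => (w : G)) (huniq ⟨((v : N) : G), v.2⟩ hv)
        exact Subtype.ext (Subtype.ext h) }
  set D' := stabilizer N a ⊓ stabilizer N b with hD'
  have hle : D'.map N.subtype ≤ D := by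
    rintro _ ⟨x, hx, rfl⟩
    exact mem_pair_stabilizer.2 ⟨(mem_pair_stabilizer.1 hx).1, (mem_pair_stabilizer.1 hx).2⟩
  have hc : Nat.card (D'.map N.subtype) = Nat.card D' :=
    (Nat.card_congr (D'.equivMapOfInjective _ N.subtype_injective).toEquiv).symm
  have hd' : Nat.card D' ∣ Nat.card D := hc ▸ Subgroup.card_dvd_of_le hle
  have hd'odd : Odd (Nat.card D') := hdodd.of_dvd_nat hd'
  have hinvN := (pair_cyclic_inverted hZN hab hd'odd fun q hq hqd =>
    no_complement (S := ((↑) : N → G) ⁻¹' Group.conjugatesOfSet (U : Set G))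
      Subgroup.closure_closure_coe_preimage hq (hqd.trans (Subgroup.card_subgroup_dvd_card _))
      fun s hs => (congrArg (Nat.Coprime q) (orderOf_injective N.subtype N.subtype_injective s)).mp
        (hcop q hq (hqd.trans hd') _ hs)).2
  have hkey : 2 * Nat.card D' + 2 = Nat.card Ω := even_card_of_inverted hZN hab hUN' hn hd'odd hinvN
  have htop : N = ⊤ := by
    refine normal_eq_top hZ N hab fun x hx => ?_
    have hdd : Nat.card D ∣ Nat.card D' := by
      refine (Nat.Coprime.dvd_of_dvd_mul_left (Nat.coprime_two_right.2 hdodd) ?_)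
      rw [show 2 * Nat.card D' = Nat.card Ω - 2 by omega]
      exact hdn
    have heq : D'.map N.subtype = D :=
      Subgroup.eq_of_le_of_card_ge hle (hc ▸ Nat.le_of_dvd Nat.card_pos hdd)
    exact Subgroup.map_subtype_le D' (heq ▸ hx : x ∈ D'.map N.subtype)
  suffices h : IsCyclic ↥(stabilizer G a ⊓ stabilizer G b) ∧ ∀ s : G, s • a = b → s • b = a →
      ∀ h ∈ stabilizer G a ⊓ stabilizer G b, s * h * s⁻¹ = h⁻¹ from
    ⟨even_card_of_inverted hZ hab hU hn hdodd h.2, h⟩
  exact pair_cyclic_inverted hZ hab hdodd fun q hq hqd =>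
    no_complement (S := Group.conjugatesOfSet (U : Set G)) htop hq
      (hqd.trans (Subgroup.card_subgroup_dvd_card _)) (hcop q hq hqd)


set_option maxHeartbeats 1600000 in
/-- The involutions in odd degree. -/
theorem odd_involutions (hn : Odd (Nat.card Ω)) :
    (∀ g : G, g * g = 1 → g ≠ 1 → g • a = a → g ∈ U) ∧
      Nat.card {g : G // g * g = 1 ∧ g ≠ 1} =
        Nat.card Ω * Nat.card ↥(stabilizer G a ⊓ stabilizer G b) ∧
      (∀ x y : G, x * x = 1 → x ≠ 1 → y * y = 1 → y ≠ 1 → IsConj x y) ∧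
      ∀ v ∈ U, v * v = 1 → ∀ x ∈ U, x * v = v * x := by
  classical
  have := finite_group hZ
  have := Fintype.ofFinite G
  have := Fintype.ofFinite Ω
  have := pretransitive hZ
  set D := stabilizer G a ⊓ stabilizer G b with hDdef
  set d := Nat.card D with hddef
  set m := Nat.card U with hmdef
  set n := Nat.card Ω with hndef
  have hmn : m + 1 = n := RegKernel.card_add_one hab hU
  have hdodd : Odd d := odd_card_pair hZ hn hab
  obtain ⟨t, ht, hta, htb⟩ := exists_swap hZ hab
  obtain ⟨c₀, hc₀, hc₀u⟩ := existsUnique_fixed_of_odd hZ hn ht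
  have hinv1 : ∀ δ ∈ D, t * δ * t⁻¹ = δ⁻¹ := fun δ hδ => swap_inverts hZ hab ht hta htb hc₀ hc₀u hδ
  have hDcomm : ∀ x ∈ D, ∀ y ∈ D, x * y = y * x := by
    intro x hx y hy
    have h := hinv1 _ (mul_mem hx hy)
    have e : t * (x * y) * t⁻¹ = (t * x * t⁻¹) * (t * y * t⁻¹) := by group
    rw [e, hinv1 x hx, hinv1 y hy, mul_inv_rev] at h
    have h' := congrArg Inv.inv h
    simp only [mul_inv_rev, inv_inv] at h'
    exact h'.symm
  have hinv : ∀ s : G, s • a = b → s • b = a → ∀ δ ∈ D, s * δ * s⁻¹ = δ⁻¹ := by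
    intro s hsa hsb δ hδ
    have hm : t⁻¹ * s ∈ D := mem_pair_stabilizer.2
      ⟨by rw [mul_smul, hsa, inv_smul_eq_iff, hta], by rw [mul_smul, hsb, inv_smul_eq_iff, htb]⟩
    calc s * δ * s⁻¹ = t * ((t⁻¹ * s) * δ * (t⁻¹ * s)⁻¹) * t⁻¹ := by group
      _ = t * δ * t⁻¹ := by rw [hDcomm _ hm δ hδ, mul_inv_cancel_right]
      _ = δ⁻¹ := hinv1 δ hδ
  -- involutions fixing a given point
  let P : G → Prop := fun g => g * g = 1 ∧ g ≠ 1
  have hord : ∀ g : G, P g → orderOf g = 2 := fun g h =>
    orderOf_eq_prime (by rw [pow_two, h.1]) h.2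
  have hPc : ∀ h g : G, P g → P (h * g * h⁻¹) := fun h g hg => ⟨by
      calc h * g * h⁻¹ * (h * g * h⁻¹) = h * (g * g) * h⁻¹ := by group
        _ = 1 := by rw [hg.1, mul_one, mul_inv_cancel],
    fun e => hg.2 (by rwa [mul_inv_eq_one, mul_eq_left] at e)⟩
  let A : Ω → Type u := fun c => {g : G // P g ∧ g • c = c}
  have hAeq : ∀ c : Ω, Nat.card (A c) = Nat.card (A a) := by
    intro c
    obtain ⟨h, rfl⟩ := exists_smul_eq G a c
    refine (Nat.card_congr (Equiv.subtypeEquiv (MulAut.conj h).toEquiv fun g => ?_)).symm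
    show P g ∧ g • a = a ↔ P (h * g * h⁻¹) ∧ (h * g * h⁻¹) • h • a = h • a
    rw [mul_smul, inv_smul_smul, mul_smul, MulAction.injective h |>.eq_iff]
    exact ⟨fun e => ⟨hPc h g e.1, e.2⟩, fun e => ⟨by simpa [mul_assoc] using hPc h⁻¹ _ e.1, e.2⟩⟩
  set r := Nat.card (A a) with hr
  set I := Nat.card {g : G // P g} with hIdef
  have hI1 : I = n * r := by
    have e : {g : G // P g} ≃ Σ c : Ω, A c :=
      { toFun := fun g => ⟨(existsUnique_fixed_of_odd hZ hn (hord g g.2)).choose, g, g.2,
          (existsUnique_fixed_of_odd hZ hn (hord g g.2)).choose_spec.1⟩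
        invFun := fun q => ⟨q.2.1, q.2.2.1⟩
        left_inv := fun g => rfl
        right_inv := fun q => by
          obtain ⟨c, g, hg, hgc⟩ := q
          obtain rfl : (existsUnique_fixed_of_odd hZ hn (hord g hg)).choose = c :=
            ((existsUnique_fixed_of_odd hZ hn (hord g hg)).choose_spec.2 c hgc).symm
          rfl }
    rw [hIdef, Nat.card_congr e, Nat.card_sigma, Finset.sum_congr rfl fun c _ => hAeq c,
      Finset.sum_const, Finset.card_univ, smul_eq_mul, hndef, Nat.card_eq_fintype_card]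
  have hI2 : I = r + m * d := by
    let A' := {g : G // P g ∧ ¬ g • a = a}
    have hsum : I = r + Nat.card A' := by
      rw [hIdef, hr, ← Nat.card_sum]
      exact Nat.card_congr
        { toFun := fun g => if h : g.1 • a = a then Sum.inl ⟨g.1, g.2, h⟩ else Sum.inr ⟨g.1, g.2, h⟩
          invFun := fun s => s.elim (fun g => ⟨g.1, g.2.1⟩) (fun g => ⟨g.1, g.2.1⟩)
          left_inv := fun g => by by_cases h : g.1 • a = a <;> simp [h]
          right_inv := fun s => by
            rcases s with g | g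
            · simp [g.2.2]
            · simp [g.2.2] }
    rw [hsum, ← Nat.card_prod]
    congr 1
    refine (Nat.card_eq_of_bijective (fun p : U × D => (⟨(p.1 : G) * (t * p.2) * (p.1 : G)⁻¹,
      hPc _ _ ?_, ?_⟩ : A')) ⟨fun p q h => ?_, fun g => ?_⟩).symm
    · have h := swaps_of_inverted hZ hab hdodd hta htb (s := t * p.2)
        (by rw [mul_smul, (mem_pair_stabilizer.1 p.2.2).1, hta])
        (by rw [mul_smul, (mem_pair_stabilizer.1 p.2.2).2, htb]) hinv
      exact ⟨by rw [← pow_two, ← h.1, pow_orderOf_eq_one],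
        fun e => by rw [e, orderOf_one] at h; omega⟩
    · rw [mul_smul, mul_smul, inv_smul_eq_iff.2 (mem_stabilizer_iff.1 (hU.le p.1.2)).symm, mul_smul,
        (mem_pair_stabilizer.1 p.2.2).1, hta]
      exact RegKernel.smul_b_ne hab hU p.1
    · have h' : (p.1 : G) * (t * p.2) * (p.1 : G)⁻¹ = q.1 * (t * q.2) * (q.1 : G)⁻¹ :=
        congrArg Subtype.val h
      have hima : ∀ q : U × D, ((q.1 : G) * (t * q.2) * (q.1 : G)⁻¹) • a = (q.1 : G) • b := fun q => by
        rw [mul_smul, mul_smul, inv_smul_eq_iff.2 (mem_stabilizer_iff.1 (hU.le q.1.2)).symm, mul_smul,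
          (mem_pair_stabilizer.1 q.2.2).1, hta]
      have e1 : p.1 = q.1 := (hU.reg _ (RegKernel.smul_b_ne hab hU q.1)).unique
        (by rw [← hima p, h', hima q]) rfl
      rw [e1] at h'
      exact Prod.ext e1 (Subtype.ext (mul_left_cancel (mul_left_cancel (mul_right_cancel h'))))
    · obtain ⟨u, hu, -⟩ := hU.reg (g.1 • a) g.2.2
      have hgg : g.1 • g.1 • a = a := by rw [← mul_smul, g.2.1.1, one_smul]
      have hm : t⁻¹ * ((u : G)⁻¹ * g.1 * u) ∈ D := by
        have hua := mem_stabilizer_iff.1 (hU.le u.2)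
        refine mem_pair_stabilizer.2 ⟨?_, ?_⟩
        · rw [mul_smul, mul_smul, mul_smul, hua, ← hu, inv_smul_smul, inv_smul_eq_iff, hta]
        · rw [mul_smul, mul_smul, mul_smul, hu, hgg, inv_smul_eq_iff.2 hua.symm, inv_smul_eq_iff, htb]
      exact ⟨(u, ⟨_, hm⟩), Subtype.ext (by
        show (u : G) * (t * (t⁻¹ * ((u : G)⁻¹ * g.1 * u))) * (u : G)⁻¹ = g.1
        group)⟩
  have hm0 : 0 < m := Nat.card_pos
  have hrd : r = d := by
    refine Nat.eq_of_mul_eq_mul_left hm0 ?_
    rw [hI1, ← hmn, Nat.add_mul, one_mul] at hI2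
    omega
  -- they lie in `U`
  have hAU : ∀ g : G, P g → g • a = a → g ∈ U := by
    intro g hg hga
    by_contra hgU
    let K := U.subgroupOf (stabilizer G a)
    have : K.Normal := ⟨fun x hx y => hU.conj y (mem_stabilizer_iff.1 y.2) x hx⟩
    let q := QuotientGroup.mk' K ⟨g, mem_stabilizer_iff.2 hga⟩
    have hidx : Nat.card (stabilizer G a ⧸ K) = d := by
      refine Nat.eq_of_mul_eq_mul_left hm0 ?_
      rw [hmdef, hddef, RegKernel.card_stabilizer hab hU, ← Nat.card_congr
        (Subgroup.subgroupOfEquivOfLe hU.le).toEquiv, ← Subgroup.index_eq_card, Subgroup.card_mul_index]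
    have hq1 : q ≠ 1 := fun h => hgU ((QuotientGroup.eq_one_iff (N := K) _).1 h)
    have hq2 : q * q = 1 := by
      rw [← map_mul, ← map_one (QuotientGroup.mk' K)]
      exact congrArg _ (Subtype.ext hg.1)
    have h2 : orderOf q = 2 := orderOf_eq_prime (by rw [pow_two, hq2]) hq1
    have h3 := orderOf_dvd_natCard q
    rw [h2, hidx] at h3
    obtain ⟨k, hk⟩ := hdodd
    omega
  have hclass : Nat.card {v : G // v ∈ U ∧ v * v = 1 ∧ v ≠ 1} = d := by
    rw [← hrd, hr]
    exact Nat.card_congr (Equiv.subtypeEquivRight fun v =>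
      ⟨fun h => ⟨⟨h.2.1, h.2.2⟩, mem_stabilizer_iff.1 (hU.le h.1)⟩,
        fun h => ⟨hAU v h.1 h.2, h.1.1, h.1.2⟩⟩)
  have hd2 : 2 ≤ d := RegKernel.two_le_card_pair hZ hab hU
  obtain ⟨⟨i, hiU, hii, hi1⟩⟩ : Nonempty {v : G // v ∈ U ∧ v * v = 1 ∧ v ≠ 1} :=
    (Nat.card_pos_iff.1 (by omega)).1
  have hconj : ∀ v ∈ U, v * v = 1 → v ≠ 1 → ∃ δ : D, (δ : G) * i * (δ : G)⁻¹ = v := by
    intro v hv hvv hv1
    have hbij := (show Function.Injective fun δ : D => (⟨(δ : G) * i * (δ : G)⁻¹,
        RegKernel.conj_pair_mem hZ hab hU hiU δ, (hPc _ i ⟨hii, hi1⟩).1,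
        (hPc _ i ⟨hii, hi1⟩).2⟩ : {v : G // v ∈ U ∧ v * v = 1 ∧ v ≠ 1}) from
      fun δ ε h => RegKernel.conj_pair_injective hZ hab hU hiU hi1
        (congrArg Subtype.val h)).bijective_of_nat_card_le (by rw [hclass])
    obtain ⟨δ, hδ⟩ := hbij.2 ⟨v, hv, hvv, hv1⟩
    exact ⟨δ, congrArg Subtype.val hδ⟩
  -- all involutions of `U` are central
  have hinvc : ∀ v ∈ U, v * v = 1 → ∀ x ∈ U, x * v = v * x := by
    obtain ⟨q, hq⟩ : 2 ∣ Nat.card U := even_iff_two_dvd.1 (by
      obtain ⟨j, hj⟩ := hn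
      exact ⟨j, by omega⟩)
    have := Fact.mk Nat.prime_two
    obtain ⟨z, hz, hz2⟩ := Isometry.FeitCoherence.exists_central_orderOf
      (RegKernel.isNilpotent hZ hab hU) (q := 2) ⟨q, hq⟩
    have hzz : (z : G) * z = 1 := by
      rw [← pow_two, ← hz2, ← Subgroup.coe_pow, pow_orderOf_eq_one, OneMemClass.coe_one]
    have hz1 : (z : G) ≠ 1 := fun h => by
      rw [show z = 1 from Subtype.ext h, orderOf_one] at hz2; omega
    have hzc : ∀ x ∈ U, x * (z : G) = z * x := fun x hx =>
      congrArg Subtype.val (Subgroup.mem_center_iff.1 hz ⟨x, hx⟩)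
    obtain ⟨δz, hδz⟩ := hconj z z.2 hzz hz1
    intro v hv hvv x hx
    by_cases hv1 : v = 1
    · simp [hv1]
    obtain ⟨δ, hδ⟩ := hconj v hv hvv hv1
    -- `v` is a conjugate of `z` by an element of `G_a`
    set g : G := (δ : G) * (δz : G)⁻¹ with hg
    have hgv : g * z * g⁻¹ = v := by rw [← hδ, hg, ← hδz]; group
    have hga : g⁻¹ • a = a := by
      rw [hg, mul_inv_rev, inv_inv, mul_smul, inv_smul_eq_iff.2 (mem_pair_stabilizer.1 δ.2).1.symm,
        (mem_pair_stabilizer.1 δz.2).1]
    have hx' := hzc (g⁻¹ * x * g) (by simpa using hU.conj g⁻¹ hga x hx)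
    calc x * v = g * ((g⁻¹ * x * g) * z) * g⁻¹ := by rw [← hgv]; group
      _ = g * ((z : G) * (g⁻¹ * x * g)) * g⁻¹ := by rw [hx']
      _ = v * x := by rw [← hgv]; group
  refine ⟨fun g hg hg1 hga => hAU g ⟨hg, hg1⟩ hga, ?_, ?_, hinvc⟩
  · show Nat.card {g : G // P g} = _
    rw [← hIdef, hI1, hrd]
  · have key : ∀ x : G, P x → IsConj i x := by
      intro x hx
      obtain ⟨c, hc, -⟩ := existsUnique_fixed_of_odd hZ hn (hord x hx)
      obtain ⟨g, rfl⟩ := exists_smul_eq G a c
      have hP' : P (g⁻¹ * x * g) := by simpa using hPc g⁻¹ x hx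
      have hfix : (g⁻¹ * x * g) • a = a := by rw [mul_smul, mul_smul, hc, inv_smul_smul]
      obtain ⟨δ, hδ⟩ := hconj _ (hAU _ hP' hfix) hP'.1 hP'.2
      exact isConj_iff.2 ⟨g * δ, by
        calc g * δ * i * (g * δ)⁻¹ = g * ((δ : G) * i * (δ : G)⁻¹) * g⁻¹ := by group
          _ = x := by rw [hδ]; group⟩
    exact fun x y hx hx1 hy hy1 => (key x ⟨hx, hx1⟩).symm.trans (key y ⟨hy, hy1⟩)

/-- A kernel of odd order `2 |G_ab| + 1` is abelian. -/
theorem comm_of_card (hdodd : Odd (Nat.card ↥(stabilizer G a ⊓ stabilizer G b)))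
    (hcard : Nat.card U = 2 * Nat.card ↥(stabilizer G a ⊓ stabilizer G b) + 1) :
    ∀ x ∈ U, ∀ y ∈ U, x * y = y * x := by
  have := finite_group hZ
  have := Fintype.ofFinite G
  set K := U.subgroupOf (AbelianChars.nrm U) with hKdef
  have : K.Normal := Subgroup.normal_in_normalizer
  have hC' := Isometry.NormalizerBridge.centralizer_le U (RegKernel.centralizer_le hZ hab hU)
  have hidx : K.index = Nat.card ↥(stabilizer G a ⊓ stabilizer G b) :=
    RegKernel.index_eq hZ hab hU
  have hK : Nat.card K = 2 * K.index + 1 := by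
    rw [hidx, Isometry.NormalizerBridge.card_eq]; exact hcard
  have hlt := Isometry.FeitCoherence.lcs_one_lt hC'
    (Isometry.NormalizerBridge.ne_bot U (RegKernel.ne_bot hZ hab hU))
    (Isometry.NormalizerBridge.ne_top U (RegKernel.lt_normalizer hZ hab hU))
  have : (K.lowerCentralSeries 1).Normal := Isometry.Layers.lcs_normal 1
  have hge := Isometry.Layers.two_mul_add_one_le
    ((show Odd (Nat.card K) by rw [hK]; exact ⟨_, rfl⟩).of_dvd_nat (Subgroup.index_dvd_card _))
    (hidx ▸ hdodd) (fun h => hlt.not_ge (Subgroup.relIndex_eq_one.1 h))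
    (Isometry.Layers.relIndex_modEq hC' _ hlt.le)
  have hmul := ((K.lowerCentralSeries 1).subgroupOf K).card_mul_index
  rw [hK] at hmul
  have h1 : Nat.card ((K.lowerCentralSeries 1).subgroupOf K) = 1 := by
    have h0 : 0 < Nat.card ((K.lowerCentralSeries 1).subgroupOf K) := Nat.card_pos
    by_contra hne
    have h2 : 2 * (2 * K.index + 1) ≤ Nat.card ((K.lowerCentralSeries 1).subgroupOf K) *
        ((K.lowerCentralSeries 1).subgroupOf K).index := Nat.mul_le_mul (by omega) hge
    omega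
  intro x hx y hy
  let X : AbelianChars.nrm U := ⟨x, Subgroup.le_normalizer hx⟩
  let Y : AbelianChars.nrm U := ⟨y, Subgroup.le_normalizer hy⟩
  have hmem : ⁅X, Y⁆ ∈ K.lowerCentralSeries 1 := by
    rw [Subgroup.lowerCentralSeries_succ, Subgroup.lowerCentralSeries_zero]
    exact Subgroup.commutator_mem_commutator (show X ∈ K from hx) (show Y ∈ K from hy)
  have hbot : K.lowerCentralSeries 1 = ⊥ := by
    have h' := Subgroup.card_eq_one.1 h1
    rw [Subgroup.subgroupOf_eq_bot, disjoint_iff, inf_eq_left.2 hlt.le] at h'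
    exact h'
  rw [hbot, Subgroup.mem_bot, commutatorElement_eq_one_iff_mul_comm] at hmem
  exact congrArg Subtype.val hmem

/-- If `|U| = |G_ab| + 1` it has prime power order. -/
theorem primePow_of_card (hcard : Nat.card U = Nat.card ↥(stabilizer G a ⊓ stabilizer G b) + 1) :
    IsPrimePow (Nat.card U) := by
  have := finite_group hZ
  have := Fintype.ofFinite G
  set K := U.subgroupOf (AbelianChars.nrm U) with hKdef
  have : K.Normal := Subgroup.normal_in_normalizer
  have hC' := Isometry.NormalizerBridge.centralizer_le U (RegKernel.centralizer_le hZ hab hU)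
  have hK : Nat.card K = K.index + 1 := by
    rw [show K.index = _ from RegKernel.index_eq hZ hab hU, Isometry.NormalizerBridge.card_eq]
    exact hcard
  obtain ⟨-, p, hp, hel⟩ := Isometry.TINilpotent.of_card_eq hC'
    (Isometry.NormalizerBridge.ne_bot U (RegKernel.ne_bot hZ hab hU)) hK
  have := Fact.mk hp
  have hel' := Isometry.NormalizerBridge.isElementaryAbelian U hel
  have hP : IsPGroup p U := fun x => ⟨1, Subtype.ext (by simpa using hel'.2 x x.2)⟩
  obtain ⟨n, hn⟩ := IsPGroup.iff_card.1 hP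
  rw [hn]
  refine hp.isPrimePow.pow fun h => ?_
  rw [h, pow_zero] at hn
  have := RegKernel.two_le_card hZ hab hU
  omega

end Cfsg.Agent.Lib.Zassenhaus
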