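import Cfsg.Agent.Lib.Zassenhaus.AbelianKernel
import Cfsg.Agent.Lib.Frobenius.Nilpotent
import Cfsg.Agent.S0878

/-!
# The regular normal subgroup of a point stabiliser of a Zassenhaus group

`RegKernel` is `AbKernel` without commutativity.
-/

set_option autoImplicit false
set_option linter.unusedSectionVars false

namespace Cfsg.Agent.Lib.Zassenhaus

open MulAction

universe u v

/-- A normal subgroup of `G_a` regular on the other points. -/
structure RegKernel {G : Type u} {Ω : Type v} [Group G] [MulAction G Ω] (a b : Ω) (U : Subgroup G) :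
    Prop where
  le : U ≤ stabilizer G a
  conj : ∀ g : G, g • a = a → ∀ u ∈ U, g * u * g⁻¹ ∈ U
  reg : ∀ x : Ω, x ≠ a → ∃! u : U, (u : G) • b = x

variable {G : Type u} {Ω : Type v} [Group G] [MulAction G Ω] [Finite Ω]
  (hZ : Cfsg.IsZassenhausGroup G Ω) {a b : Ω} (hab : a ≠ b) {U : Subgroup G} (hU : RegKernel a b U)

namespace RegKernel

include hab hU in
theorem smul_b_ne (u : U) : (u : G) • b ≠ a := fun h => hab
  (MulAction.injective (u : G) ((mem_stabilizer_iff.1 (hU.le u.2)).trans h.symm))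

include hab hU in
theorem free {u : G} (hu : u ∈ U) {c : Ω} (hc : c ≠ a) (hfix : u • c = c) : u = 1 := by
  obtain ⟨v, hv, huniq⟩ := hU.reg c hc
  have h := huniq (⟨u, hu⟩ * v) (show (u * (v : G)) • b = c by rw [mul_smul, hv, hfix])
  exact congrArg Subtype.val (mul_eq_right.1 h)

include hab hU in
theorem card_add_one : Nat.card U + 1 = Nat.card Ω := by
  classical
  let e : U ≃ {x : Ω // x ≠ a} := Equiv.ofBijective (fun u => ⟨(u : G) • b, smul_b_ne hab hU u⟩)
    ⟨fun u v h => (hU.reg _ (smul_b_ne hab hU u)).unique rfl (congrArg Subtype.val h).symm,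
      fun x => by obtain ⟨u, hu, -⟩ := hU.reg x x.2; exact ⟨u, Subtype.ext hu⟩⟩
  have := Fintype.ofFinite Ω
  rw [Nat.card_congr e, Nat.card_eq_fintype_card, Fintype.card_subtype_compl,
    Fintype.card_subtype_eq, Nat.card_eq_fintype_card]
  have : 0 < Fintype.card Ω := Fintype.card_pos_iff.2 ⟨a⟩
  omega

include hab hU in
theorem decomp {g : G} (hg : g • a = a) :
    ∃ u ∈ U, u⁻¹ * g ∈ stabilizer G a ⊓ stabilizer G b := by
  obtain ⟨u, hu, -⟩ := hU.reg (g • b) (fun h => hab (MulAction.injective g (hg.trans h.symm)))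
  refine ⟨u, u.2, mem_pair_stabilizer.2 ⟨?_, ?_⟩⟩
  · rw [mul_smul, hg, inv_smul_eq_iff, mem_stabilizer_iff.1 (hU.le u.2)]
  · rw [mul_smul, ← hu, inv_smul_smul]

include hab hU in
theorem inter_pair {u : G} (hu : u ∈ U) (hb : u • b = b) : u = 1 := free hab hU hu hab.symm hb

include hab hU in
theorem card_stabilizer :
    Nat.card U * Nat.card ↥(stabilizer G a ⊓ stabilizer G b) = Nat.card (stabilizer G a) := by
  rw [← Nat.card_prod]
  refine Nat.card_eq_of_bijective (fun p => (⟨(p.1 : G) * p.2,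
    mul_mem (hU.le p.1.2) p.2.2.1⟩ : stabilizer G a)) ⟨fun p q h => ?_, fun g => ?_⟩
  · have h' : (p.1 : G) * p.2 = q.1 * q.2 := congrArg Subtype.val h
    have h1 : (q.1 : G)⁻¹ * p.1 = q.2 * (p.2 : G)⁻¹ := by
      rw [eq_mul_inv_iff_mul_eq, mul_assoc, h', inv_mul_cancel_left]
    have h2 : (q.1 : G)⁻¹ * p.1 = 1 := inter_pair hab hU (mul_mem (inv_mem q.1.2) p.1.2) (by
      rw [h1, mul_smul, inv_smul_eq_iff.2 (mem_pair_stabilizer.1 p.2.2).2.symm,
        (mem_pair_stabilizer.1 q.2.2).2])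
    have e1 : (p.1 : G) = q.1 := (inv_mul_eq_one.1 h2).symm
    exact Prod.ext (Subtype.ext e1) (Subtype.ext (mul_left_cancel (e1 ▸ h' : (q.1 : G) * p.2 = q.1 * q.2)))
  · obtain ⟨u, hu, hD⟩ := decomp hab hU (mem_stabilizer_iff.1 g.2)
    exact ⟨(⟨u, hu⟩, ⟨_, hD⟩), Subtype.ext (mul_inv_cancel_left u (g : G))⟩

include hZ hab hU

theorem card_group :
    Nat.card G = Nat.card Ω * (Nat.card U * Nat.card ↥(stabilizer G a ⊓ stabilizer G b)) := by
  have := finite_group hZ
  have := pretransitive hZ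
  rw [card_stabilizer hab hU]
  exact Cfsg.Agent.Lib.Perm.Basic.card_eq_card_mul_card_stabilizer a

theorem two_le_card_pair : 2 ≤ Nat.card ↥(stabilizer G a ⊓ stabilizer G b) := by
  have := finite_group hZ
  have := (Subgroup.one_lt_card_iff_ne_bot _).2 (pair_ne_bot hZ hab)
  omega

theorem two_le_card : 2 ≤ Nat.card U := by
  classical
  obtain ⟨c, hca, hcb⟩ := exists_third hZ a b
  have := Fintype.ofFinite Ω
  have h := card_add_one hab hU
  have h3 : 3 ≤ Nat.card Ω := by
    rw [Nat.card_eq_fintype_card]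
    calc 3 = ({a, b, c} : Finset Ω).card := by
          rw [Finset.card_insert_of_notMem (by simp [hab, hca.symm]), Finset.card_pair hcb.symm]
      _ ≤ _ := Finset.card_le_univ _
  omega

theorem ne_bot : U ≠ ⊥ := by
  have := finite_group hZ
  intro h
  have h2 := two_le_card hZ hab hU
  rw [h, Subgroup.card_bot] at h2
  omega

theorem exists_ne_one : ∃ w ∈ U, w ≠ 1 := by
  have := finite_group hZ
  by_contra! h
  exact ne_bot hZ hab hU ((Subgroup.eq_bot_iff_forall _).2 h)

/-- The Frobenius data of `U`. -/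
theorem normalizer_eq : Subgroup.normalizer (U : Set G) = stabilizer G a := by
  ext g
  constructor
  · intro hg
    obtain ⟨u, hu, hu1⟩ := exists_ne_one hZ hab hU
    have hu' : g⁻¹ * u * g ∈ U := by
      have := (Subgroup.mem_normalizer_iff.1 (inv_mem hg) u).1 hu
      simpa using this
    rw [mem_stabilizer_iff]
    by_contra hga
    refine hu1 (free hab hU hu hga ?_)
    have h := mem_stabilizer_iff.1 (hU.le hu')
    rw [mul_smul, mul_smul, inv_smul_eq_iff] at h
    exact h
  · intro hg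
    rw [mem_stabilizer_iff] at hg
    refine Subgroup.mem_normalizer_iff.2 fun u => ⟨hU.conj g hg u, fun h => ?_⟩
    have := hU.conj g⁻¹ (by rw [inv_smul_eq_iff, hg]) _ h
    simpa [mul_assoc] using this

theorem ti : ∀ g : G, g ∉ Subgroup.normalizer (U : Set G) → ∀ k ∈ U, g * k * g⁻¹ ∈ U → k = 1 := by
  intro g hg k hk hk'
  rw [normalizer_eq hZ hab hU, mem_stabilizer_iff] at hg
  refine free hab hU hk (c := g⁻¹ • a) (fun h => hg (inv_smul_eq_iff.1 h).symm) ?_
  have h := mem_stabilizer_iff.1 (hU.le hk')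
  rw [mul_smul, mul_smul, ← eq_inv_smul_iff] at h
  exact h

theorem lt_normalizer : U < Subgroup.normalizer (U : Set G) := by
  rw [normalizer_eq hZ hab hU]
  refine lt_of_le_of_ne hU.le fun h => ?_
  obtain ⟨g, hg, hga, hgb⟩ := exists_fix_pair hZ hab
  exact hg (inter_pair hab hU (h ▸ mem_stabilizer_iff.2 hga) hgb)

theorem exists_fixed {g : G} (hga : g • a = a) (hgU : g ∉ U) : ∃ c : Ω, c ≠ a ∧ g • c = c := by
  have := finite_group hZ
  obtain ⟨u, hu, hD⟩ := decomp hab hU hga
  set δ := u⁻¹ * g with hδ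
  obtain ⟨hδa, hδb⟩ := mem_pair_stabilizer.1 hD
  have hδ1 : δ ≠ 1 := fun h => hgU (by rw [hδ, inv_mul_eq_one] at h; exact h ▸ hu)
  have hinv : δ⁻¹ • a = a := by rw [inv_smul_eq_iff, hδa]
  let f : U → U := fun v => ⟨(v : G) * (δ * (v : G)⁻¹ * δ⁻¹),
    mul_mem v.2 (hU.conj δ hδa _ (inv_mem v.2))⟩
  have hf : Function.Injective f := by
    intro v w h
    have h' : (v : G) * (δ * (v : G)⁻¹ * δ⁻¹) = w * (δ * (w : G)⁻¹ * δ⁻¹) := congrArg Subtype.val h
    set z := (w : G)⁻¹ * v with hz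
    have hc : z * δ = δ * z := by
      calc z * δ = (w : G)⁻¹ * ((v : G) * (δ * (v : G)⁻¹ * δ⁻¹)) * δ * v := by rw [hz]; group
        _ = (w : G)⁻¹ * ((w : G) * (δ * (w : G)⁻¹ * δ⁻¹)) * δ * v := by rw [h']
        _ = δ * z := by rw [hz]; group
    have hzb : z • b = b := by
      by_contra hne
      refine hδ1 (eq_one_of_three hZ hab (Ne.symm hne)
        (smul_b_ne hab hU ⟨z, mul_mem (inv_mem w.2) v.2⟩).symm hδa hδb ?_)
      rw [← mul_smul, ← hc, mul_smul, hδb]
    exact Subtype.ext (inv_mul_eq_one.1 (inter_pair hab hU (mul_mem (inv_mem w.2) v.2) hzb)).symm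
  obtain ⟨v, hv⟩ := (Finite.injective_iff_surjective.1 hf) ⟨u, hu⟩
  have hv' : (v : G) * (δ * (v : G)⁻¹ * δ⁻¹) = u := congrArg Subtype.val hv
  refine ⟨(v : G) • b, smul_b_ne hab hU v, ?_⟩
  calc g • (v : G) • b = ((v : G) * δ) • b := by
        rw [← mul_smul]
        congr 1
        rw [show g = u * δ by rw [hδ, mul_inv_cancel_left], ← hv']
        group
    _ = (v : G) • b := by rw [mul_smul, hδb]

theorem centralizer_le : ∀ k ∈ U, k ≠ 1 → Subgroup.centralizer ({k} : Set G) ≤ U := by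
  intro k hk hk1 g hg
  rw [Subgroup.mem_centralizer_singleton_iff] at hg
  have hka := mem_stabilizer_iff.1 (hU.le hk)
  have hga : g • a = a := by
    by_contra hga
    refine hk1 (free hab hU hk hga ?_)
    rw [← mul_smul, ← hg, mul_smul, hka]
  by_contra hgU
  obtain ⟨c, hca, hc⟩ := exists_fixed hZ hab hU hga hgU
  have h1 : g = 1 := eq_one_of_three hZ (Ne.symm hca)
    (fun h => hk1 (free hab hU hk hca h.symm))
    (fun h => hca (MulAction.injective k (h.symm.trans hka.symm)))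
    hga hc (by rw [← mul_smul, hg, mul_smul, hc])
  exact hgU (h1 ▸ one_mem U)

theorem index_eq :
    (U.subgroupOf (Subgroup.normalizer (U : Set G))).index =
      Nat.card ↥(stabilizer G a ⊓ stabilizer G b) := by
  have := finite_group hZ
  refine Nat.eq_of_mul_eq_mul_left (show 0 < Nat.card U from Nat.card_pos) ?_
  rw [card_stabilizer hab hU, ← normalizer_eq hZ hab hU]
  conv_lhs => rw [← Nat.card_congr (Subgroup.subgroupOfEquivOfLe
    (H := U) (K := Subgroup.normalizer (U : Set G)) Subgroup.le_normalizer).toEquiv,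
    Subgroup.card_mul_index]

/-- Conjugates by `G_ab` of a non-identity element of `U` are distinct. -/
theorem conj_pair_injective {u : G} (hu : u ∈ U) (hu1 : u ≠ 1) :
    Function.Injective fun δ : ↥(stabilizer G a ⊓ stabilizer G b) => (δ : G) * u * (δ : G)⁻¹ := by
  intro δ ε h
  have h' : (δ : G) * u * (δ : G)⁻¹ = (ε : G) * u * (ε : G)⁻¹ := h
  have hc : ((ε : G)⁻¹ * δ) * u = u * ((ε : G)⁻¹ * δ) := by
    calc ((ε : G)⁻¹ * δ) * u = (ε : G)⁻¹ * ((δ : G) * u * (δ : G)⁻¹) * δ := by group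
      _ = _ := by rw [h']; group
  obtain ⟨h1, h2⟩ := mem_pair_stabilizer.1 (mul_mem (inv_mem ε.2) δ.2)
  have hU' := centralizer_le hZ hab hU u hu hu1 (Subgroup.mem_centralizer_singleton_iff.2 hc)
  exact Subtype.ext (inv_mul_eq_one.1 (inter_pair hab hU hU' h2)).symm

theorem conj_pair_mem {u : G} (hu : u ∈ U) (δ : ↥(stabilizer G a ⊓ stabilizer G b)) :
    (δ : G) * u * (δ : G)⁻¹ ∈ U := hU.conj _ (mem_pair_stabilizer.1 δ.2).1 u hu

theorem toAbKernel (hc : ∀ u ∈ U, ∀ v ∈ U, u * v = v * u) : AbKernel a b U :=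
  { le := hU.le, conj := hU.conj, comm := hc, reg := hU.reg }

/-- Thompson: the kernel is nilpotent. -/
theorem isNilpotent : Group.IsNilpotent U := by
  have := finite_group hZ
  have h2 : 2 ≤ Nat.card ↥(stabilizer G a ⊓ stabilizer G b) := two_le_card_pair hZ hab hU
  set D := stabilizer G a ⊓ stabilizer G b with hD
  have hne : Nat.card D ≠ 1 := by omega
  obtain ⟨r, hr, hrd⟩ := Nat.exists_prime_and_dvd hne
  have := Fact.mk hr
  obtain ⟨δ, hδ⟩ := exists_prime_orderOf_dvd_card' (G := D) r hrd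
  have hδa : (δ : G) • a = a := (mem_pair_stabilizer.1 δ.2).1
  have hδ1 : (δ : G) ≠ 1 := fun h => by
    rw [show δ = 1 from Subtype.ext h, orderOf_one] at hδ
    exact hr.one_lt.ne hδ
  let φ : U ≃* U :=
    { toFun := fun u => ⟨(δ : G) * u * (δ : G)⁻¹, hU.conj δ hδa u u.2⟩
      invFun := fun u => ⟨(δ : G)⁻¹ * u * (δ : G), by
        have := hU.conj (δ : G)⁻¹ (by rw [inv_smul_eq_iff, hδa]) u u.2
        rwa [inv_inv] at this⟩
      left_inv := fun u => Subtype.ext (by simp [mul_assoc])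
      right_inv := fun u => Subtype.ext (by simp [mul_assoc])
      map_mul' := fun u v => Subtype.ext (by simp [mul_assoc]) }
  refine Frobenius.Nilpotent.isNilpotent_of_fixedPointFree hr φ ?_ ?_
  · intro u hu
    by_contra hu1
    have hc : (δ : G) * u * (δ : G)⁻¹ = u := congrArg Subtype.val hu
    have hmem := centralizer_le hZ hab hU u u.2 (fun h => hu1 (Subtype.ext h))
      (Subgroup.mem_centralizer_singleton_iff.2 (mul_inv_eq_iff_eq_mul.1 hc))
    exact hδ1 (inter_pair hab hU hmem (mem_pair_stabilizer.1 δ.2).2)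
  · intro u
    have h : ∀ j : ℕ, (((⇑φ)^[j] u : U) : G) = (δ : G) ^ j * u * ((δ : G) ^ j)⁻¹ := by
      intro j
      induction j with
      | zero => simp
      | succ j ih =>
        rw [Function.iterate_succ_apply']
        show (δ : G) * _ * (δ : G)⁻¹ = _
        rw [ih, pow_succ']
        group
    apply Subtype.ext
    rw [h r, ← hδ, ← Subgroup.coe_pow, pow_orderOf_eq_one]
    simp

end RegKernel

include hZ hab

omit hab in
/-- A subgroup of `G_a` of order `|Ω| - 1` fixing only `a` is the kernel. -/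
theorem regKernel_of_fix [Fintype Ω] (hab : a ≠ b) (hle : U ≤ stabilizer G a)
    (hcard : Nat.card U + 1 = Fintype.card Ω)
    (hfix : ∀ u ∈ U, u ≠ 1 → ∀ c : Ω, u • c = c → c = a) : RegKernel a b U := by
  have := finite_group hZ
  refine ⟨hle, fun g hg u hu => ?_, fun x hx => ?_⟩
  · have h := (Cfsg.Agent.S0878.result hZ a U hle hcard hfix).2
    have hmem : g ∈ Subgroup.normalizer (U : Set G) := by
      rw [h]; exact mem_stabilizer_iff.2 hg
    exact (Subgroup.mem_normalizer_iff.1 hmem u).1 hu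
  · obtain ⟨h, hh, hx'⟩ :=
      Brauer.ZassenhausChar.exists_translate hle hcard hfix hab.symm hx
    refine ⟨⟨h, hh⟩, hx', fun w hw => Subtype.ext ?_⟩
    by_contra hne
    refine hab (hfix ((w : G)⁻¹ * h) (mul_mem (inv_mem w.2) hh)
      (fun e => hne (inv_mul_eq_one.1 e)) b ?_).symm
    rw [mul_smul, hx', ← hw, inv_smul_smul]

/-- The Frobenius kernel of a point stabiliser. -/
theorem exists_regKernel : ∃ U : Subgroup G, RegKernel a b U := by
  classical
  have := finite_group hZ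
  obtain ⟨N, hN, -, hc⟩ := Induced.FrobeniusKernel.exists_frobeniusKernel_subgroup
    (pair_isFrobeniusComplement hZ hab)
  let U : Subgroup G := N.map (stabilizer G a).subtype
  have hUa : U ≤ stabilizer G a := Subgroup.map_subtype_le N
  have hmem : ∀ g : stabilizer G a, (g : G) ∈ U ↔ g ∈ N := fun g => by
    constructor
    · rintro ⟨h, hh, he⟩; rwa [← Subtype.ext he]
    · exact fun h => Subgroup.mem_map_of_mem _ h
  refine ⟨U, hUa, ?_, ?_⟩
  · intro g hg u hu
    exact (hmem (⟨g, mem_stabilizer_iff.2 hg⟩ * ⟨u, hUa hu⟩ * ⟨g, mem_stabilizer_iff.2 hg⟩⁻¹)).2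
      (hN.conj_mem _ ((hmem ⟨u, hUa hu⟩).1 hu) _)
  · intro x hx
    obtain ⟨g, hga, hgb⟩ := exists_smul_pair hZ hab (Ne.symm hx)
    obtain ⟨⟨⟨n, hn⟩, ⟨d, hd⟩⟩, hnd⟩ := hc.2 ⟨g, mem_stabilizer_iff.2 hga⟩
    have hdb : (d : G) • b = b := (mem_pair_stabilizer.1 hd).2
    refine ⟨⟨n, Subgroup.mem_map_of_mem _ hn⟩, ?_, ?_⟩
    · rw [← hgb, ← show (n : G) * d = g from congrArg Subtype.val hnd, mul_smul, hdb]
    · intro u hu
      refine Subtype.ext (inv_mul_eq_one.1 ?_).symm
      have hmN : (⟨(n : G)⁻¹ * u, mul_mem (inv_mem n.2) (hUa u.2)⟩ : stabilizer G a) ∈ N :=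
        mul_mem (inv_mem hn) ((hmem ⟨u, hUa u.2⟩).1 u.2)
      have hmD : (⟨(n : G)⁻¹ * u, mul_mem (inv_mem n.2) (hUa u.2)⟩ : stabilizer G a) ∈
          (stabilizer G a ⊓ stabilizer G b).subgroupOf (stabilizer G a) := by
        refine mem_pair_stabilizer.2 ⟨mem_stabilizer_iff.1 (mul_mem (inv_mem n.2) (hUa u.2)), ?_⟩
        change ((n : G)⁻¹ * u) • b = b
        rw [mul_smul, show (u : G) • b = x from hu, ← hgb,
          ← show (n : G) * d = g from congrArg Subtype.val hnd, mul_smul, hdb, inv_smul_smul]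
      exact congrArg Subtype.val (Subgroup.disjoint_def.1 hc.disjoint hmN hmD)

end Cfsg.Agent.Lib.Zassenhaus
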