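import Cfsg.Agent.Lib.Characters.Complete
import Mathlib.GroupTheory.FixedPointFree

/-!
# Counting pairs of involutions against the number of real classes

One class of `m d` involutions with centralisers of order `n = m + 1` in a group with at most
`d + 1` real classes forces `4 d ≥ m`.
-/

set_option autoImplicit false

namespace Cfsg.Agent.Lib.Zassenhaus.InvolutionCount

universe u

/-- A finite group in which more than three quarters of the elements square to `1` is elementary. -/
theorem sq_eq_one_of_card {C : Type u} [Group C] [Fintype C] [DecidableEq C]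
    (h : 3 * Fintype.card C < 4 * (Finset.univ.filter fun x : C => x * x = 1).card) (c : C) :
    c * c = 1 := by
  set S := Finset.univ.filter fun x : C => x * x = 1 with hS
  have hcen : ∀ x : C, x * x = 1 → ∀ y : C, x * y = y * x := by
    intro x hx
    have himg : (S.image (fun y => x * y)).card = S.card :=
      Finset.card_image_of_injective _ (mul_right_injective x)
    have hsub : S ∩ S.image (fun y => x * y) ⊆ Finset.univ.filter (fun y => x * y = y * x) := by
      intro y hy
      simp only [Finset.mem_inter, hS, Finset.mem_filter, Finset.mem_univ, true_and,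
        Finset.mem_image] at hy ⊢
      obtain ⟨hyy, w, hww, hw⟩ := hy
      have hxi : x⁻¹ = x := inv_eq_of_mul_eq_one_right hx
      have hyi : y⁻¹ = y := inv_eq_of_mul_eq_one_right hyy
      have hwi : w⁻¹ = w := inv_eq_of_mul_eq_one_right hww
      have hxy : x * y = w := by rw [← hw, ← mul_assoc, hx, one_mul]
      calc x * y = (x * y)⁻¹ := by rw [hxy, hwi]
        _ = y * x := by rw [mul_inv_rev, hxi, hyi]
    have h1 := Finset.card_union_add_card_inter S (S.image (fun y => x * y))
    have h2 := Finset.card_le_univ (S ∪ S.image (fun y => x * y))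
    have h3 := Finset.card_le_card hsub
    have hfull : Nat.card C < 2 * Nat.card (Subgroup.centralizer ({x} : Set C)) := by
      rw [Nat.card_eq_fintype_card (α := C)]
      have : Nat.card (Subgroup.centralizer ({x} : Set C)) =
          (Finset.univ.filter (fun y => x * y = y * x)).card := by
        rw [← Fintype.card_subtype, ← Nat.card_eq_fintype_card]
        exact Nat.card_congr (Equiv.subtypeEquivRight fun y => by
          rw [Subgroup.mem_centralizer_singleton_iff, eq_comm])
      omega
    have htop : Subgroup.centralizer ({x} : Set C) = ⊤ := by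
      obtain ⟨k, hk⟩ := Subgroup.card_subgroup_dvd_card (Subgroup.centralizer ({x} : Set C))
      refine Subgroup.eq_top_of_card_eq _ ?_
      have hk2 : k < 2 := by
        by_contra hk2
        rw [hk] at hfull
        have := Nat.mul_le_mul_left (Nat.card (Subgroup.centralizer ({x} : Set C))) (not_lt.1 hk2)
        omega
      have hk0 : k ≠ 0 := fun e => by rw [e, mul_zero] at hk; exact Nat.card_pos.ne' hk
      rw [hk, show k = 1 by omega, mul_one]
    intro y
    have hy : y ∈ Subgroup.centralizer ({x} : Set C) := htop ▸ Subgroup.mem_top y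
    exact (Subgroup.mem_centralizer_singleton_iff.1 hy).symm
  let E : Subgroup C :=
    { carrier := {x | x * x = 1}
      one_mem' := mul_one 1
      mul_mem' := fun {x y} hx hy => by
        show x * y * (x * y) = 1
        rw [mul_assoc, ← mul_assoc y x y, ← hcen x hx y, mul_assoc, hy, mul_one, hx]
      inv_mem' := fun {x} hx => by
        show x⁻¹ * x⁻¹ = 1
        rw [← mul_inv_rev, hx, inv_one] }
  have htop : E = ⊤ := by
    obtain ⟨k, hk⟩ := Subgroup.card_subgroup_dvd_card E
    refine Subgroup.eq_top_of_card_eq _ ?_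
    have hE : Nat.card E = S.card := by
      rw [hS, ← Fintype.card_subtype, ← Nat.card_eq_fintype_card]
      exact Nat.card_congr (Equiv.subtypeEquivRight fun _ => Iff.rfl)
    rw [Nat.card_eq_fintype_card (α := C)] at hk
    have hk2 : k < 2 := by
      by_contra hk2
      have := Nat.mul_le_mul_left (Nat.card E) (not_lt.1 hk2)
      omega
    have hk0 : k ≠ 0 := fun e => by rw [e, mul_zero] at hk; exact Fintype.card_ne_zero hk
    rw [Nat.card_eq_fintype_card (α := C), hk, show k = 1 by omega, mul_one]
  exact (htop ▸ Subgroup.mem_top c : c ∈ E)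

variable {G : Type u} [Group G] [Finite G]

/-- The counting argument. -/
theorem false_of_counts {m d n : ℕ} (t : G) (ht : t * t = 1 ∧ t ≠ 1)
    (hconj : ∀ x : G, x * x = 1 → x ≠ 1 → IsConj t x)
    (hI : Nat.card {x : G // x * x = 1 ∧ x ≠ 1} = m * d)
    (hC : Nat.card (Subgroup.centralizer ({t} : Set G)) = n)
    (hn : m + 1 = n) (hG : Nat.card G = n * (m * d))
    (hR : Nat.card {C : ConjClasses G // ∀ g : G, ConjClasses.mk g = C → IsConj g g⁻¹} ≤ d + 1)
    (hd : 2 ≤ d) (h4 : 4 * d < m) : False := by
  classical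
  have := Fintype.ofFinite G
  have : Finite (ConjClasses G) := Finite.of_surjective ConjClasses.mk ConjClasses.mk_surjective
  have := Fintype.ofFinite (ConjClasses G)
  have hmd : 0 < m * d := Nat.mul_pos (by omega) (by omega)
  let P : G → Prop := fun x => x * x = 1 ∧ x ≠ 1
  -- the number of ways to write an element as a product of two involutions
  let f : G → ℕ := fun z => Nat.card {x : G // P x ∧ P (x * z)}
  have hPi : ∀ x, P x → x⁻¹ = x := fun x hx => inv_eq_of_mul_eq_one_right hx.1
  have hsolve : ∀ x z, P x → P (x * z) → x * z * x⁻¹ = z⁻¹ := by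
    intro x z hx hxz
    have h := hPi _ hxz
    rw [mul_inv_rev, hPi x hx] at h
    rw [hPi x hx, ← h, mul_assoc, hx.1, mul_one]
  have hPconj : ∀ g x, P x → P (g * x * g⁻¹) := by
    intro g x hx
    refine ⟨?_, fun h => hx.2 ?_⟩
    · calc g * x * g⁻¹ * (g * x * g⁻¹) = g * (x * x) * g⁻¹ := by group
        _ = 1 := by rw [hx.1, mul_one, mul_inv_cancel]
    · rwa [mul_inv_eq_one, mul_eq_left] at h
  have hfconj : ∀ g z, f (g * z * g⁻¹) = f z := by
    intro g z
    refine (Nat.card_congr (Equiv.subtypeEquiv (MulAut.conj g).toEquiv fun x => ?_)).symm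
    show P x ∧ P (x * z) ↔ P (g * x * g⁻¹) ∧ P (g * x * g⁻¹ * (g * z * g⁻¹))
    rw [show g * x * g⁻¹ * (g * z * g⁻¹) = g * (x * z) * g⁻¹ by group]
    refine ⟨fun h => ⟨hPconj g _ h.1, hPconj g _ h.2⟩, fun h => ⟨?_, ?_⟩⟩
    · have := hPconj g⁻¹ _ h.1
      simpa [mul_assoc] using this
    · have := hPconj g⁻¹ _ h.2
      simpa [mul_assoc] using this
  have htot : ∑ z, f z = m * d * (m * d) := by
    rw [← hI, ← Nat.card_prod]
    simp only [f]
    rw [← Nat.card_sigma]
    exact Nat.card_congr
      { toFun := fun p => (⟨p.2.1, p.2.2.1⟩, ⟨p.2.1 * p.1, p.2.2.2⟩)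
        invFun := fun q => ⟨q.1.1 * q.2.1, q.1.1, q.1.2, by
          rw [← mul_assoc, q.1.2.1, one_mul]; exact q.2.2⟩
        left_inv := fun p => by
          obtain ⟨z, x, hx, hxz⟩ := p
          have e : x * (x * z) = z := by rw [← mul_assoc, hx.1, one_mul]
          exact Sigma.subtype_ext e rfl
        right_inv := fun q => by
          obtain ⟨⟨x, hx⟩, ⟨y, hy⟩⟩ := q
          exact Prod.ext rfl (Subtype.ext (by show x * (x * y) = y; rw [← mul_assoc, hx.1, one_mul])) }
  have hone : f 1 = m * d := by
    rw [← hI]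
    exact Nat.card_congr (Equiv.subtypeEquivRight fun x => by simp [P])
  set I := f t with hIdef
  have hinv : ∀ z, P z → f z = I := by
    intro z hz
    obtain ⟨g, hg⟩ := isConj_iff.1 (hconj z hz.1 hz.2)
    rw [← hg, hfconj]
  set O := Finset.univ.filter fun z : G => z ≠ 1 ∧ ¬ P z with hO
  have hsplit : m * d * (m * d) = m * d + m * d * I + ∑ z ∈ O, f z := by
    rw [← htot, ← Finset.sum_filter_add_sum_filter_not Finset.univ (fun z : G => z = 1 ∨ P z)]
    congr 1
    · rw [show (Finset.univ.filter fun z : G => z = 1 ∨ P z) =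
          insert 1 (Finset.univ.filter P) by ext; simp, Finset.sum_insert (by simp [P]), hone,
        Finset.sum_congr rfl fun z hz => hinv z (Finset.mem_filter.1 hz).2, Finset.sum_const,
        smul_eq_mul, ← Fintype.card_subtype, ← Nat.card_eq_fintype_card, ← hI]
    · refine Finset.sum_congr (by ext; simp [hO, not_or]) fun _ _ => rfl
  -- the other elements are grouped by classes
  let S := Finset.univ.filter fun C : ConjClasses G =>
    (∀ g : G, ConjClasses.mk g = C → IsConj g g⁻¹) ∧ C ≠ ConjClasses.mk 1 ∧ C ≠ ConjClasses.mk t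
  have hSle : S.card + 2 ≤ d + 1 := by
    refine le_trans ?_ hR
    rw [Nat.card_eq_fintype_card, Fintype.card_subtype]
    have hsub : insert (ConjClasses.mk 1) (insert (ConjClasses.mk t) S) ⊆
        Finset.univ.filter fun C : ConjClasses G => ∀ g : G, ConjClasses.mk g = C → IsConj g g⁻¹ := by
      intro C hC'
      simp only [Finset.mem_insert] at hC'
      rw [Finset.mem_filter]
      refine ⟨Finset.mem_univ _, ?_⟩
      rcases hC' with rfl | rfl | hC'
      · intro g hg
        rw [ConjClasses.mk_eq_mk_iff_isConj, isConj_one_left] at hg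
        rw [hg, inv_one]
      · intro g hg
        rw [ConjClasses.mk_eq_mk_iff_isConj] at hg
        obtain ⟨c, hc⟩ := isConj_iff.1 hg.symm
        have hPg : P g := hc ▸ hPconj c t ht
        rw [hPi g hPg]
      · exact (Finset.mem_filter.1 hC').2.1
    have hne : (ConjClasses.mk 1 : ConjClasses G) ≠ ConjClasses.mk t := fun h => ht.2
      (isConj_one_right.1 (ConjClasses.mk_eq_mk_iff_isConj.1 h))
    have hcard := Finset.card_le_card hsub
    rw [Finset.card_insert_of_notMem (by simp [S, hne]), Finset.card_insert_of_notMem (by simp [S])]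
      at hcard
    omega
  have hOsum : ∑ z ∈ O, f z =
      ∑ C ∈ S, ∑ z ∈ Finset.univ.filter (fun z : G => ConjClasses.mk z = C), f z := by
    rw [← Finset.sum_fiberwise O ConjClasses.mk f]
    refine (Finset.sum_subset (Finset.subset_univ S) fun C _ hCS => ?_).symm.trans ?_
    · refine Finset.sum_eq_zero fun z hz => ?_
      rw [Finset.mem_filter, hO, Finset.mem_filter] at hz
      obtain ⟨⟨-, hz1, hzP⟩, rfl⟩ := hz
      by_contra hne
      obtain ⟨⟨x, hx, hxz⟩⟩ := (Nat.card_pos_iff.1 (Nat.pos_of_ne_zero hne)).1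
      refine hCS (Finset.mem_filter.2 ⟨Finset.mem_univ _, fun g hg => ?_, ?_, ?_⟩)
      · have hg' := ConjClasses.mk_eq_mk_iff_isConj.1 hg
        refine hg'.trans ((isConj_iff.2 ⟨x, hsolve x z hx hxz⟩).trans ?_)
        obtain ⟨c, hc⟩ := isConj_iff.1 hg'
        exact isConj_iff.2 ⟨c⁻¹, by rw [← hc]; group⟩
      · exact fun h => hz1 (isConj_one_left.1 (ConjClasses.mk_eq_mk_iff_isConj.1 h))
      · intro h
        obtain ⟨c, hc⟩ := isConj_iff.1 (ConjClasses.mk_eq_mk_iff_isConj.1 h).symm
        exact hzP (hc ▸ hPconj c t ht)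
    · refine Finset.sum_congr rfl fun C hC' => Finset.sum_congr ?_ fun _ _ => rfl
      obtain ⟨-, -, h1, h2⟩ := Finset.mem_filter.1 hC'
      ext z
      simp only [Finset.mem_filter, hO, Finset.mem_univ, true_and, and_iff_right_iff_imp]
      rintro rfl
      exact ⟨fun e => h1 (by rw [e]), fun hz => h2
        (ConjClasses.mk_eq_mk_iff_isConj.2 (hconj z hz.1 hz.2).symm)⟩
  have hclass : ∀ z : G, ∑ w ∈ Finset.univ.filter
      (fun w : G => ConjClasses.mk w = ConjClasses.mk z), f w =
        Nat.card {w : G // IsConj z w} * f z := by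
    intro z
    rw [Finset.sum_congr rfl (g := fun _ => f z) fun w hw => by
      obtain ⟨c, hc⟩ := isConj_iff.1
        (ConjClasses.mk_eq_mk_iff_isConj.1 (Finset.mem_filter.1 hw).2).symm
      rw [← hc, hfconj], Finset.sum_const, smul_eq_mul, ← Fintype.card_subtype,
      ← Nat.card_eq_fintype_card]
    congr 1
    exact Nat.card_congr (Equiv.subtypeEquivRight fun w => by
      rw [ConjClasses.mk_eq_mk_iff_isConj]; exact isConj_comm)
  have hcoset : ∀ z (x₀ : {x : G // P x ∧ P (x * z)}) (x : {x : G // P x ∧ P (x * z)}),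
      x₀.1⁻¹ * x.1 ∈ Subgroup.centralizer ({z} : Set G) := by
    intro z x₀ x
    rw [Subgroup.mem_centralizer_singleton_iff]
    have h1 := hsolve _ _ x₀.2.1 x₀.2.2
    have h2 := hsolve _ _ x.2.1 x.2.2
    calc x₀.1⁻¹ * x.1 * z = x₀.1⁻¹ * (x.1 * z * x.1⁻¹) * x.1 := by group
      _ = x₀.1⁻¹ * (x₀.1 * z * x₀.1⁻¹) * x.1 := by rw [h1, h2]
      _ = z * (x₀.1⁻¹ * x.1) := by group
  have hfle : ∀ z, f z ≤ Nat.card (Subgroup.centralizer ({z} : Set G)) := by
    intro z
    rcases isEmpty_or_nonempty {x : G // P x ∧ P (x * z)} with h | ⟨⟨x₀⟩⟩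
    · simp only [f]; rw [Nat.card_of_isEmpty (α := {x : G // P x ∧ P (x * z)})]; exact Nat.zero_le _
    exact Nat.card_le_card_of_injective (fun x => (⟨_, hcoset z x₀ x⟩ :
      Subgroup.centralizer ({z} : Set G))) fun x y h => Subtype.ext
      (mul_left_cancel (congrArg Subtype.val h : x₀.1⁻¹ * x.1 = x₀.1⁻¹ * y.1))
  have hrest : ∑ z ∈ O, f z ≤ S.card * Nat.card G := by
    rw [hOsum]
    refine (Finset.sum_le_card_nsmul S _ (Nat.card G) fun C _ => ?_).trans (by rw [smul_eq_mul])
    induction C using ConjClasses.mk_surjective.forall.2 with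
    | _ z =>
      rw [hclass, ← Cfsg.Agent.Lib.Characters.Complete.card_conjugates_mul_centralizer z]
      exact Nat.mul_le_mul_left _ (hfle z)
  -- many involutions in `C(t)`
  have hkey : m * d ≤ 1 + I + (d - 1) * n := by
    refine Nat.le_of_mul_le_mul_left ?_ hmd
    have := Nat.mul_le_mul_right (Nat.card G) (show S.card ≤ d - 1 by omega)
    rw [hG] at this hrest
    nlinarith
  obtain ⟨d', rfl⟩ : ∃ d', d = d' + 1 := ⟨d - 1, by omega⟩
  rw [Nat.add_sub_cancel] at hkey
  subst hn
  have hIge : m ≤ I + (d' + 1) := by nlinarith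
  set C := Subgroup.centralizer ({t} : Set G) with hCdef
  have := Fintype.ofFinite C
  let e : {x : G // P x ∧ P (x * t)} → C := fun x => ⟨x.1, by
    rw [hCdef, Subgroup.mem_centralizer_singleton_iff]
    have h := hsolve _ _ x.2.1 x.2.2
    rwa [hPi t ht, mul_inv_eq_iff_eq_mul] at h⟩
  have he : Function.Injective e := fun x y h =>
    Subtype.ext (congrArg (fun c : C => (c : G)) h)
  have hIJ : I + 2 = (Finset.univ.filter fun x : C => x * x = 1).card := by
    have himg : (Finset.univ.filter fun x : C => x * x = 1) =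
        insert 1 (insert ⟨t, Subgroup.mem_centralizer_singleton_iff.2 rfl⟩ (Finset.univ.image e)) := by
      ext x
      simp only [Finset.mem_filter, Finset.mem_univ, true_and, Finset.mem_insert, Finset.mem_image]
      constructor
      · intro hx
        have hxx : (x : G) * x = 1 := congrArg Subtype.val hx
        refine or_iff_not_imp_left.2 fun h1 => or_iff_not_imp_left.2 fun h2 => ?_
        have hPx : P x := ⟨hxx, fun h => h1 (Subtype.ext h)⟩
        refine ⟨⟨x, hPx, ?_, fun h => h2 (Subtype.ext ?_)⟩, rfl⟩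
        · have hc : t * (x : G) = x * t := (Subgroup.mem_centralizer_singleton_iff.1 x.2).symm
          rw [mul_assoc, ← mul_assoc t, hc, mul_assoc, ht.1, mul_one, hxx]
        · rw [← inv_inv (x : G), inv_eq_of_mul_eq_one_right h, hPi t ht]
      · rintro (rfl | rfl | ⟨x, rfl⟩)
        · exact mul_one 1
        · exact Subtype.ext ht.1
        · exact Subtype.ext x.2.1.1
    have hnot : ∀ x : {x : G // P x ∧ P (x * t)}, x.1 ≠ 1 ∧ x.1 ≠ t := fun x =>
      ⟨x.2.1.2, fun h => x.2.2.2 (by rw [h, ht.1])⟩
    rw [himg, Finset.card_insert_of_notMem, Finset.card_insert_of_notMem,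
      Finset.card_image_of_injective _ he,
      Finset.card_univ, ← Nat.card_eq_fintype_card]
    · simp only [Finset.mem_image, Finset.mem_univ, true_and, not_exists]
      exact fun x h => (hnot x).2 (congrArg Subtype.val h)
    · simp only [Finset.mem_insert, Finset.mem_image, Finset.mem_univ, true_and, not_or,
        not_exists]
      exact ⟨fun h => ht.2 (congrArg Subtype.val h).symm,
        fun x h => (hnot x).1 (congrArg Subtype.val h)⟩
  have hall : ∀ c : C, c * c = 1 := by
    refine sq_eq_one_of_card ?_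
    rw [← Nat.card_eq_fintype_card, hC, ← hIJ]
    omega
  have hIeq : I + 1 = m := by
    have h := hIJ
    rw [Finset.filter_eq_self.2 fun c _ => hall c, Finset.card_univ, ← Nat.card_eq_fintype_card,
      hC] at h
    omega
  -- now every class sum of the remaining elements is `0` or `|G|`
  have hdvd : Nat.card G ∣ ∑ z ∈ O, f z := by
    rw [hOsum]
    refine Finset.dvd_sum fun D hD => ?_
    obtain ⟨z, rfl⟩ := ConjClasses.mk_surjective D
    rw [hclass]
    rcases isEmpty_or_nonempty {x : G // P x ∧ P (x * z)} with h | ⟨⟨⟨x, hx, hxz⟩⟩⟩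
    · simp only [f]; rw [Nat.card_of_isEmpty (α := {x : G // P x ∧ P (x * z)}), mul_zero]; exact dvd_zero _
    obtain ⟨-, -, hz1, hzt⟩ := Finset.mem_filter.1 hD
    -- centralisers of involutions are elementary
    have hCel : ∀ w : G, P w → ∀ y : G, y * w = w * y → y * y = 1 := by
      intro w hw y hy
      obtain ⟨g, hg⟩ := isConj_iff.1 (hconj w hw.1 hw.2)
      have hmem : g⁻¹ * y * g ∈ C := by
        rw [hCdef, Subgroup.mem_centralizer_singleton_iff]
        calc g⁻¹ * y * g * t = g⁻¹ * (y * (g * t * g⁻¹)) * g := by group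
          _ = g⁻¹ * (g * t * g⁻¹ * y) * g := by rw [hg, hy]
          _ = t * (g⁻¹ * y * g) := by group
      have h := congrArg Subtype.val (hall ⟨_, hmem⟩)
      simp only [Subgroup.coe_mul, Subgroup.coe_one] at h
      calc y * y = g * (g⁻¹ * y * g * (g⁻¹ * y * g)) * g⁻¹ := by group
        _ = 1 := by rw [h, mul_one, mul_inv_cancel]
    set Z := Subgroup.centralizer ({z} : Set G) with hZdef
    have hinvol : ∀ c ∈ Z, c * c = 1 → c = 1 := by
      intro c hc hcc
      by_contra hc1
      have hzz : z * z = 1 := hCel c ⟨hcc, hc1⟩ z (Subgroup.mem_centralizer_singleton_iff.1 hc).symm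
      exact hzt (ConjClasses.mk_eq_mk_iff_isConj.2
        (hconj z hzz fun e => hz1 (by rw [e])).symm)
    have hzinv : x * z * x⁻¹ = z⁻¹ := hsolve x z hx hxz
    have hxi := hPi x hx
    have hmaps : ∀ c ∈ Z, x * c * x⁻¹ ∈ Z := by
      intro c hc
      rw [hZdef, Subgroup.mem_centralizer_singleton_iff] at hc ⊢
      have hcz : c * z⁻¹ = z⁻¹ * c := Commute.inv_right hc
      have hzinv' : x * z⁻¹ * x⁻¹ = z := by
        rw [← hzinv, hxi]
        calc x * (x * z * x) * x = (x * x) * z * (x * x) := by group
          _ = z := by rw [hx.1, one_mul, mul_one]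
      calc x * c * x⁻¹ * z = x * c * x⁻¹ * (x * z⁻¹ * x⁻¹) := by rw [hzinv']
        _ = x * (c * z⁻¹) * x⁻¹ := by group
        _ = x * (z⁻¹ * c) * x⁻¹ := by rw [hcz]
        _ = (x * z⁻¹ * x⁻¹) * (x * c * x⁻¹) := by group
        _ = _ := by rw [hzinv']
    let φ : Z →* Z :=
      { toFun := fun c => ⟨x * c.1 * x⁻¹, hmaps c c.2⟩
        map_one' := Subtype.ext (by simp)
        map_mul' := fun a b => Subtype.ext (by simp [mul_assoc]) }
    have hfpf : MonoidHom.FixedPointFree φ := by
      intro c hc
      have h : x * c.1 * x⁻¹ = c.1 := congrArg Subtype.val hc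
      rw [mul_inv_eq_iff_eq_mul] at h
      exact Subtype.ext (hinvol c c.2 (hCel x hx c h.symm))
    have hinvo : Function.Involutive φ := fun c => Subtype.ext (by
      show x * (x * c.1 * x⁻¹) * x⁻¹ = c.1
      rw [hxi]
      calc x * (x * c.1 * x) * x = (x * x) * c.1 * (x * x) := by group
        _ = c.1 := by rw [hx.1, one_mul, mul_one])
    have hinvert : ∀ c ∈ Z, x * c * x⁻¹ = c⁻¹ := fun c hc =>
      congrArg Subtype.val (congrFun (hfpf.coe_eq_inv_of_involutive hinvo) ⟨c, hc⟩)
    have hfull : ∀ c ∈ Z, P (x * c) := by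
      intro c hc
      refine ⟨?_, fun h => hx.2 ?_⟩
      · have h := hinvert c hc
        rw [hxi] at h
        rw [← mul_assoc, h, inv_mul_cancel]
      · have hcx : c = x := by rw [← inv_inv c, inv_eq_of_mul_eq_one_left h, hxi]
        exact hcx ▸ hinvol c hc (by rw [hcx]; exact hx.1)
    refine dvd_of_eq ?_
    rw [← Cfsg.Agent.Lib.Characters.Complete.card_conjugates_mul_centralizer z]
    congr 1
    refine le_antisymm ?_ (hfle z)
    refine Nat.card_le_card_of_injective (fun c : Z => (⟨x * c.1, hfull c c.2, ?_⟩ :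
      {x : G // P x ∧ P (x * z)})) fun a b h => Subtype.ext
        (mul_left_cancel (congrArg Subtype.val h : x * a.1 = x * b.1))
    rw [mul_assoc]
    exact hfull _ (mul_mem c.2 (Subgroup.mem_centralizer_singleton_iff.2 rfl))
  obtain ⟨r, hr⟩ := hdvd
  rw [hG] at hr
  rw [hr] at hsplit
  have hlin : m * (d' + 1) = 1 + I + (m + 1) * r := by
    refine Nat.eq_of_mul_eq_mul_left hmd ?_
    rw [hsplit]
    ring
  have hdd : (m + 1) ∣ d' := by
    have hcop : Nat.Coprime (m + 1) m := by simp
    refine hcop.dvd_of_dvd_mul_left ⟨r, ?_⟩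
    nlinarith
  have := Nat.le_of_dvd (by omega) hdd
  omega

end Cfsg.Agent.Lib.Zassenhaus.InvolutionCount
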