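import Cfsg.Agent.Lib.Zassenhaus.Sharp
import Cfsg.Agent.Lib.Zassenhaus.AbelianChars
import Cfsg.Agent.Lib.Zassenhaus.InvolutionCount
import Cfsg.Agent.Lib.Zassenhaus.IndChar
import Cfsg.Agent.Lib.Characters.Transitive

/-!
# Zassenhaus groups with abelian kernel and `|G_ab|` odd

* `card_pair_of_odd` : `|Ω|` odd gives `|G_ab| = |Ω| - 2`.
* `two_mul_card_of_inverted` : `|Ω|` even and `G_ab` inverted by the swaps gives
  `2 |G_ab| = |Ω| - 2`.
-/

set_option autoImplicit false
set_option linter.unusedSectionVars false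

namespace Cfsg.Agent.Lib.Zassenhaus

open MulAction

universe u v

/-- An abelian normal subgroup of `G_a` regular on the other points. -/
structure AbKernel {G : Type u} {Ω : Type v} [Group G] [MulAction G Ω] (a b : Ω) (U : Subgroup G) :
    Prop where
  le : U ≤ stabilizer G a
  conj : ∀ g : G, g • a = a → ∀ u ∈ U, g * u * g⁻¹ ∈ U
  comm : ∀ u ∈ U, ∀ v ∈ U, u * v = v * u
  reg : ∀ x : Ω, x ≠ a → ∃! u : U, (u : G) • b = x

variable {G : Type u} {Ω : Type v} [Group G] [MulAction G Ω] [Finite Ω]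
  (hZ : Cfsg.IsZassenhausGroup G Ω) {a b : Ω} (hab : a ≠ b) {U : Subgroup G} (hU : AbKernel a b U)

open scoped Classical in
/-- The characters trivial on a normal subgroup sum to zero off it. -/
theorem sum_not_rel_of_not_mem {N : Type u} [Group N] [Fintype N] (K : Subgroup N) [K.Normal]
    [Fintype (Cfsg.IrrCharacter N)] {x : N} (hx : x ∉ K) :
    ∑ χ ∈ Finset.univ.filter
        (fun χ : Cfsg.IrrCharacter N => ¬ Clifford.KernelChars.Rel K (χ : N → ℂ)),
      (χ : N → ℂ) 1 * (χ : N → ℂ) x = 0 := by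
  have h := congrFun (Characters.Complete.classFunction_eq_sum
    (Clifford.KernelChars.ind_classFun K)) x
  rw [show Clifford.KernelChars.ind K x = 0 from if_neg hx] at h
  simp only [Finset.sum_apply, Pi.smul_apply, smul_eq_mul] at h
  rw [← Finset.sum_filter_add_sum_filter_not Finset.univ
    (fun χ : Cfsg.IrrCharacter N => Clifford.KernelChars.Rel K (χ : N → ℂ)),
    Finset.sum_eq_zero (fun χ hχ => by
      rw [Clifford.KernelChars.ind_inner_rel K χ (Finset.mem_filter.mp hχ).2, zero_mul]), zero_add,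
    Finset.sum_congr rfl (fun χ hχ => by
      rw [Clifford.KernelChars.ind_inner_not_rel K χ (Finset.mem_filter.mp hχ).2, mul_right_comm]),
    ← Finset.sum_mul] at h
  exact (mul_eq_zero.1 h.symm).resolve_right (inv_ne_zero (Clifford.KernelChars.index_ne_zero K))

section Sharp

include hZ hab

/-- `|G_ab| + 2 = |Ω|` gives sharp triple transitivity. -/
theorem sharply_of_card (hd : Nat.card ↥(stabilizer G a ⊓ stabilizer G b) + 2 = Nat.card Ω) :
    IsMultiplyPretransitive G Ω 3 ∧ ∀ t : Fin 3 ↪ Ω, stabilizer G t = ⊥ := by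
  classical
  have := finite_group hZ
  have := Fintype.ofFinite Ω
  set D := stabilizer G a ⊓ stabilizer G b with hD
  have htr : ∀ y z : Ω, y ≠ a → y ≠ b → z ≠ a → z ≠ b → ∃ δ ∈ D, δ • y = z := by
    intro y z hya hyb hza hzb
    let f : D → {w : Ω // w ≠ a ∧ w ≠ b} := fun δ => ⟨(δ : G) • y,
      fun h => hya (MulAction.injective (δ : G) (h.trans (mem_pair_stabilizer.1 δ.2).1.symm)),
      fun h => hyb (MulAction.injective (δ : G) (h.trans (mem_pair_stabilizer.1 δ.2).2.symm))⟩
    have hf : Function.Injective f := by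
      intro δ ε h
      have h' : (δ : G) • y = (ε : G) • y := congrArg Subtype.val h
      obtain ⟨h1, h2⟩ := mem_pair_stabilizer.1 (mul_mem (inv_mem ε.2) δ.2)
      exact Subtype.ext (inv_mul_eq_one.1 (eq_one_of_three hZ hab hyb.symm hya.symm h1 h2
        (by rw [mul_smul, h', inv_smul_smul]))).symm
    have hsur : Function.Surjective f := by
      refine (hf.bijective_of_nat_card_le ?_).2
      have h1 : ({a, b}ᶜ : Set Ω) = {w | w ≠ a ∧ w ≠ b} := by
        ext w; simp [not_or]
      have h2 : Nat.card {w : Ω // w ≠ a ∧ w ≠ b} = Nat.card Ω - 2 := by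
        rw [← Set.ncard_pair hab, ← Set.ncard_compl, h1, ← Nat.card_coe_set_eq]
        rfl
      omega
    obtain ⟨δ, hδ⟩ := hsur ⟨z, hza, hzb⟩
    exact ⟨δ, δ.2, congrArg Subtype.val hδ⟩
  refine ⟨(isMultiplyPretransitive_iff).2 fun x y => ?_, fun t => ?_⟩
  · obtain ⟨c, hca, hcb⟩ := exists_third hZ a b
    have key : ∀ x : Fin 3 ↪ Ω, ∃ g : G, g • a = x 0 ∧ g • b = x 1 ∧ g • c = x 2 := by
      intro x
      obtain ⟨g, hga, hgb⟩ := exists_smul_pair hZ hab (x.injective.ne (show (0 : Fin 3) ≠ 1 by decide))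
      obtain ⟨δ, hδ, hδc⟩ := htr c (g⁻¹ • x 2) hca hcb
        (fun h => x.injective.ne (show (2 : Fin 3) ≠ 0 by decide)
          (by rw [← hga, ← h, smul_inv_smul]))
        (fun h => x.injective.ne (show (2 : Fin 3) ≠ 1 by decide)
          (by rw [← hgb, ← h, smul_inv_smul]))
      obtain ⟨hδa, hδb⟩ := mem_pair_stabilizer.1 hδ
      exact ⟨g * δ, by rw [mul_smul, hδa, hga], by rw [mul_smul, hδb, hgb],
        by rw [mul_smul, hδc, smul_inv_smul]⟩
    obtain ⟨g, g0, g1, g2⟩ := key x
    obtain ⟨h, h0, h1, h2⟩ := key y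
    refine ⟨h * g⁻¹, Function.Embedding.ext fun i => ?_⟩
    show (h * g⁻¹) • x i = y i
    fin_cases i
    · show (h * g⁻¹) • x 0 = y 0
      rw [← g0, mul_smul, inv_smul_smul, h0]
    · show (h * g⁻¹) • x 1 = y 1
      rw [← g1, mul_smul, inv_smul_smul, h1]
    · show (h * g⁻¹) • x 2 = y 2
      rw [← g2, mul_smul, inv_smul_smul, h2]
  · refine (Subgroup.eq_bot_iff_forall _).2 fun g hg => ?_
    have h : ∀ i, g • t i = t i := fun i => DFunLike.congr_fun (mem_stabilizer_iff.1 hg) i
    exact eq_one_of_three hZ (t.injective.ne (show (0 : Fin 3) ≠ 1 by decide))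
      (t.injective.ne (show (1 : Fin 3) ≠ 2 by decide)) (t.injective.ne (show (0 : Fin 3) ≠ 2 by decide))
      (h 0) (h 1) (h 2)

end Sharp

namespace AbKernel

include hab hU in
theorem smul_b_ne (u : U) : (u : G) • b ≠ a := fun h => hab
  (MulAction.injective (u : G) ((mem_stabilizer_iff.1 (hU.le u.2)).trans h.symm))

include hab hU in
theorem free {u : G} (hu : u ∈ U) {c : Ω} (hc : c ≠ a) (hfix : u • c = c) : u = 1 := by
  obtain ⟨v, hv, huniq⟩ := hU.reg c hc
  have h := huniq (⟨u, hu⟩ * v) (show (u * (v : G)) • b = c by rw [mul_smul, hv, hfix])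
  exact congrArg Subtype.val (mul_eq_right.1 h)

include hab hU in
theorem card_add_one : Nat.card U + 1 = Nat.card Ω := by
  classical
  let e : U ≃ {x : Ω // x ≠ a} := Equiv.ofBijective (fun u => ⟨(u : G) • b, smul_b_ne hab hU u⟩)
    ⟨fun u v h => (hU.reg _ (smul_b_ne hab hU u)).unique rfl (congrArg Subtype.val h).symm,
      fun x => by obtain ⟨u, hu, -⟩ := hU.reg x x.2; exact ⟨u, Subtype.ext hu⟩⟩
  have := Fintype.ofFinite Ω
  rw [Nat.card_congr e, Nat.card_eq_fintype_card, Fintype.card_subtype_compl,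
    Fintype.card_subtype_eq, Nat.card_eq_fintype_card]
  have : 0 < Fintype.card Ω := Fintype.card_pos_iff.2 ⟨a⟩
  omega

include hab hU in
theorem decomp {g : G} (hg : g • a = a) :
    ∃ u ∈ U, u⁻¹ * g ∈ stabilizer G a ⊓ stabilizer G b := by
  obtain ⟨u, hu, -⟩ := hU.reg (g • b) (fun h => hab (MulAction.injective g (hg.trans h.symm)))
  refine ⟨u, u.2, mem_pair_stabilizer.2 ⟨?_, ?_⟩⟩
  · rw [mul_smul, hg, inv_smul_eq_iff, mem_stabilizer_iff.1 (hU.le u.2)]
  · rw [mul_smul, ← hu, inv_smul_smul]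

include hab hU in
theorem inter_pair {u : G} (hu : u ∈ U) (hb : u • b = b) : u = 1 := free hab hU hu hab.symm hb

include hab hU in
theorem card_stabilizer :
    Nat.card U * Nat.card ↥(stabilizer G a ⊓ stabilizer G b) = Nat.card (stabilizer G a) := by
  rw [← Nat.card_prod]
  refine Nat.card_eq_of_bijective (fun p => (⟨(p.1 : G) * p.2,
    mul_mem (hU.le p.1.2) p.2.2.1⟩ : stabilizer G a)) ⟨fun p q h => ?_, fun g => ?_⟩
  · have h' : (p.1 : G) * p.2 = q.1 * q.2 := congrArg Subtype.val h
    have h1 : (q.1 : G)⁻¹ * p.1 = q.2 * (p.2 : G)⁻¹ := by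
      rw [eq_mul_inv_iff_mul_eq, mul_assoc, h', inv_mul_cancel_left]
    have h2 : (q.1 : G)⁻¹ * p.1 = 1 := inter_pair hab hU (mul_mem (inv_mem q.1.2) p.1.2) (by
      rw [h1, mul_smul, inv_smul_eq_iff.2 (mem_pair_stabilizer.1 p.2.2).2.symm,
        (mem_pair_stabilizer.1 q.2.2).2])
    have e1 : (p.1 : G) = q.1 := (inv_mul_eq_one.1 h2).symm
    exact Prod.ext (Subtype.ext e1) (Subtype.ext (mul_left_cancel (e1 ▸ h' : (q.1 : G) * p.2 = q.1 * q.2)))
  · obtain ⟨u, hu, hD⟩ := decomp hab hU (mem_stabilizer_iff.1 g.2)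
    exact ⟨(⟨u, hu⟩, ⟨_, hD⟩), Subtype.ext (mul_inv_cancel_left u (g : G))⟩

include hZ hab hU

theorem card_group :
    Nat.card G = Nat.card Ω * (Nat.card U * Nat.card ↥(stabilizer G a ⊓ stabilizer G b)) := by
  have := finite_group hZ
  have := pretransitive hZ
  rw [card_stabilizer hab hU]
  exact Cfsg.Agent.Lib.Perm.Basic.card_eq_card_mul_card_stabilizer a

theorem two_le_card_pair : 2 ≤ Nat.card ↥(stabilizer G a ⊓ stabilizer G b) := by
  have := finite_group hZ
  have := (Subgroup.one_lt_card_iff_ne_bot _).2 (pair_ne_bot hZ hab)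
  omega

theorem two_le_card : 2 ≤ Nat.card U := by
  classical
  obtain ⟨c, hca, hcb⟩ := exists_third hZ a b
  have := Fintype.ofFinite Ω
  have h := card_add_one hab hU
  have h3 : 3 ≤ Nat.card Ω := by
    rw [Nat.card_eq_fintype_card]
    calc 3 = ({a, b, c} : Finset Ω).card := by
          rw [Finset.card_insert_of_notMem (by simp [hab, hca.symm]), Finset.card_pair hcb.symm]
      _ ≤ _ := Finset.card_le_univ _
  omega

theorem ne_bot : U ≠ ⊥ := by
  have := finite_group hZ
  intro h
  have h2 := two_le_card hZ hab hU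
  rw [h, Subgroup.card_bot] at h2
  omega

theorem exists_ne_one : ∃ w ∈ U, w ≠ 1 := by
  have := finite_group hZ
  by_contra! h
  exact ne_bot hZ hab hU ((Subgroup.eq_bot_iff_forall _).2 h)

/-- The Frobenius data of `U`. -/
theorem normalizer_eq : Subgroup.normalizer (U : Set G) = stabilizer G a := by
  ext g
  constructor
  · intro hg
    obtain ⟨u, hu, hu1⟩ := exists_ne_one hZ hab hU
    have hu' : g⁻¹ * u * g ∈ U := by
      have := (Subgroup.mem_normalizer_iff.1 (inv_mem hg) u).1 hu
      simpa using this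
    rw [mem_stabilizer_iff]
    by_contra hga
    refine hu1 (free hab hU hu hga ?_)
    have h := mem_stabilizer_iff.1 (hU.le hu')
    rw [mul_smul, mul_smul, inv_smul_eq_iff] at h
    exact h
  · intro hg
    rw [mem_stabilizer_iff] at hg
    refine Subgroup.mem_normalizer_iff.2 fun u => ⟨hU.conj g hg u, fun h => ?_⟩
    have := hU.conj g⁻¹ (by rw [inv_smul_eq_iff, hg]) _ h
    simpa [mul_assoc] using this

theorem ti : ∀ g : G, g ∉ Subgroup.normalizer (U : Set G) → ∀ k ∈ U, g * k * g⁻¹ ∈ U → k = 1 := by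
  intro g hg k hk hk'
  rw [normalizer_eq hZ hab hU, mem_stabilizer_iff] at hg
  refine free hab hU hk (c := g⁻¹ • a) (fun h => hg (inv_smul_eq_iff.1 h).symm) ?_
  have h := mem_stabilizer_iff.1 (hU.le hk')
  rw [mul_smul, mul_smul, ← eq_inv_smul_iff] at h
  exact h

theorem lt_normalizer : U < Subgroup.normalizer (U : Set G) := by
  rw [normalizer_eq hZ hab hU]
  refine lt_of_le_of_ne hU.le fun h => ?_
  obtain ⟨g, hg, hga, hgb⟩ := exists_fix_pair hZ hab
  exact hg (inter_pair hab hU (h ▸ mem_stabilizer_iff.2 hga) hgb)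

theorem centralizer_le : ∀ k ∈ U, k ≠ 1 → Subgroup.centralizer ({k} : Set G) ≤ U := by
  intro k hk hk1 g hg
  rw [Subgroup.mem_centralizer_singleton_iff] at hg
  have hka := mem_stabilizer_iff.1 (hU.le hk)
  have hga : g • a = a := by
    by_contra hga
    refine hk1 (free hab hU hk hga ?_)
    rw [← mul_smul, ← hg, mul_smul, hka]
  obtain ⟨u, hu, hD⟩ := decomp hab hU hga
  obtain ⟨hDa, hDb⟩ := mem_pair_stabilizer.1 hD
  have hc : (u⁻¹ * g) * k = k * (u⁻¹ * g) := by
    rw [mul_assoc, hg, ← mul_assoc, hU.comm _ (inv_mem hu) k hk, mul_assoc]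
  have h1 : u⁻¹ * g = 1 := eq_one_of_three hZ hab
    (fun h => hk1 (inter_pair hab hU hk h.symm))
    (smul_b_ne hab hU ⟨k, hk⟩).symm hDa hDb (by rw [← mul_smul, hc, mul_smul, hDb])
  rw [inv_mul_eq_one] at h1
  exact h1 ▸ hu

theorem index_eq :
    (U.subgroupOf (Subgroup.normalizer (U : Set G))).index =
      Nat.card ↥(stabilizer G a ⊓ stabilizer G b) := by
  have := finite_group hZ
  refine Nat.eq_of_mul_eq_mul_left (show 0 < Nat.card U from Nat.card_pos) ?_
  rw [card_stabilizer hab hU, ← normalizer_eq hZ hab hU]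
  conv_lhs => rw [← Nat.card_congr (Subgroup.subgroupOfEquivOfLe
    (H := U) (K := Subgroup.normalizer (U : Set G)) Subgroup.le_normalizer).toEquiv,
    Subgroup.card_mul_index]

/-- Conjugates by `G_ab` of a non-identity element of `U` are distinct. -/
theorem conj_pair_injective {u : G} (hu : u ∈ U) (hu1 : u ≠ 1) :
    Function.Injective fun δ : ↥(stabilizer G a ⊓ stabilizer G b) => (δ : G) * u * (δ : G)⁻¹ := by
  intro δ ε h
  have h' : (δ : G) * u * (δ : G)⁻¹ = (ε : G) * u * (ε : G)⁻¹ := h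
  have hc : ((ε : G)⁻¹ * δ) * u = u * ((ε : G)⁻¹ * δ) := by
    calc ((ε : G)⁻¹ * δ) * u = (ε : G)⁻¹ * ((δ : G) * u * (δ : G)⁻¹) * δ := by group
      _ = _ := by rw [h']; group
  obtain ⟨h1, h2⟩ := mem_pair_stabilizer.1 (mul_mem (inv_mem ε.2) δ.2)
  have hU' := centralizer_le hZ hab hU u hu hu1 (Subgroup.mem_centralizer_singleton_iff.2 hc)
  exact Subtype.ext (inv_mul_eq_one.1 (inter_pair hab hU hU' h2)).symm

theorem conj_pair_mem {u : G} (hu : u ∈ U) (δ : ↥(stabilizer G a ⊓ stabilizer G b)) :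
    (δ : G) * u * (δ : G)⁻¹ ∈ U := hU.conj _ (mem_pair_stabilizer.1 δ.2).1 u hu

end AbKernel

include hZ hab

/-- If all swaps invert `G_ab` of odd order, they are involutions, conjugate under `G_ab`. -/
theorem swaps_of_inverted (hodd : Odd (Nat.card ↥(stabilizer G a ⊓ stabilizer G b)))
    {t : G} (hta : t • a = b) (htb : t • b = a) {s : G} (hsa : s • a = b) (hsb : s • b = a)
    (hinv : ∀ s : G, s • a = b → s • b = a →
      ∀ h ∈ stabilizer G a ⊓ stabilizer G b, s * h * s⁻¹ = h⁻¹) :
    orderOf s = 2 ∧ ∃ δ ∈ stabilizer G a ⊓ stabilizer G b, δ * t * δ⁻¹ = s := by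
  have := finite_group hZ
  set D := stabilizer G a ⊓ stabilizer G b with hD
  have hsq : ∀ x ∈ D, x * x = 1 → x = 1 := by
    intro x hx hxx
    have h1 : (⟨x, hx⟩ : D) ^ 2 = 1 := Subtype.ext (by rw [pow_two]; exact hxx)
    have h2 := orderOf_dvd_of_pow_eq_one h1
    have h3 : orderOf (⟨x, hx⟩ : D) ∣ Nat.card D := orderOf_dvd_natCard _
    obtain ⟨k, hk⟩ := hodd
    have h4 : orderOf (⟨x, hx⟩ : D) = 1 := by
      rcases (Nat.dvd_prime Nat.prime_two).1 h2 with h | h
      · exact h
      · rw [h] at h3; omega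
    exact congrArg Subtype.val (orderOf_eq_one_iff.1 h4)
  have hss : s * s = 1 := by
    have hm : s * s ∈ D := mem_pair_stabilizer.2
      ⟨by rw [mul_smul, hsa, hsb], by rw [mul_smul, hsb, hsa]⟩
    refine hsq _ hm ?_
    have h := hinv s hsa hsb _ hm
    rw [show s * (s * s) * s⁻¹ = s * s by group, eq_inv_iff_mul_eq_one] at h
    exact h
  refine ⟨orderOf_eq_prime (by rw [pow_two, hss]) (fun h => hab (by rw [← hsa, h, one_smul])), ?_⟩
  have hm : t⁻¹ * s ∈ D := mem_pair_stabilizer.2
    ⟨by rw [mul_smul, hsa, inv_smul_eq_iff, hta], by rw [mul_smul, hsb, inv_smul_eq_iff, htb]⟩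
  -- a square root of `(t⁻¹ s)⁻¹`
  obtain ⟨k, hk⟩ := hodd
  set e := t⁻¹ * s with he
  have hpow : e ^ (2 * k + 1) = 1 := by
    rw [← hk]; exact congrArg Subtype.val (pow_card_eq_one' (x := (⟨e, hm⟩ : D)))
  refine ⟨(e ^ (k + 1))⁻¹, inv_mem (pow_mem hm _), ?_⟩
  have h := hinv t hta htb _ (pow_mem hm (k + 1))
  rw [inv_inv, ← h]
  calc t * e ^ (k + 1) * t⁻¹ * t * e ^ (k + 1) = t * (e ^ (2 * k + 1) * e) := by
        rw [inv_mul_cancel_right, mul_assoc, ← pow_add, ← pow_succ]
        congr 2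
        ring
    _ = s := by rw [hpow, one_mul, he, mul_inv_cancel_left]

set_option maxHeartbeats 1600000 in
/-- In odd degree with abelian kernel and odd `|G_ab|`: `|G_ab| + 2 = |Ω|`. -/
theorem card_pair_of_odd (hU : AbKernel a b U) (hn : Odd (Nat.card Ω)) :
    Nat.card ↥(stabilizer G a ⊓ stabilizer G b) + 2 = Nat.card Ω := by
  classical
  have := finite_group hZ
  have := Fintype.ofFinite G
  have := Fintype.ofFinite Ω
  have := pretransitive hZ
  set D := stabilizer G a ⊓ stabilizer G b with hDdef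
  set d := Nat.card D with hddef
  set m := Nat.card U with hmdef
  set n := Nat.card Ω with hndef
  have hmn : m + 1 = n := AbKernel.card_add_one hab hU
  have hdodd : Odd d := odd_card_pair hZ hn hab
  obtain ⟨t, ht, hta, htb⟩ := exists_swap hZ hab
  obtain ⟨c₀, hc₀, hc₀u⟩ := existsUnique_fixed_of_odd hZ hn ht
  have hinv1 : ∀ δ ∈ D, t * δ * t⁻¹ = δ⁻¹ := fun δ hδ => swap_inverts hZ hab ht hta htb hc₀ hc₀u hδ
  have hDcomm : ∀ x ∈ D, ∀ y ∈ D, x * y = y * x := by
    intro x hx y hy
    have h := hinv1 _ (mul_mem hx hy)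
    have e : t * (x * y) * t⁻¹ = (t * x * t⁻¹) * (t * y * t⁻¹) := by group
    rw [e, hinv1 x hx, hinv1 y hy, mul_inv_rev] at h
    have h' := congrArg Inv.inv h
    simp only [mul_inv_rev, inv_inv] at h'
    exact h'.symm
  have hinv : ∀ s : G, s • a = b → s • b = a → ∀ δ ∈ D, s * δ * s⁻¹ = δ⁻¹ := by
    intro s hsa hsb δ hδ
    have hm : t⁻¹ * s ∈ D := mem_pair_stabilizer.2
      ⟨by rw [mul_smul, hsa, inv_smul_eq_iff, hta], by rw [mul_smul, hsb, inv_smul_eq_iff, htb]⟩
    calc s * δ * s⁻¹ = t * ((t⁻¹ * s) * δ * (t⁻¹ * s)⁻¹) * t⁻¹ := by group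
      _ = t * δ * t⁻¹ := by rw [hDcomm _ hm δ hδ, mul_inv_cancel_right]
      _ = δ⁻¹ := hinv1 δ hδ
  -- involutions fixing a given point
  let P : G → Prop := fun g => g * g = 1 ∧ g ≠ 1
  have hord : ∀ g : G, P g → orderOf g = 2 := fun g h =>
    orderOf_eq_prime (by rw [pow_two, h.1]) h.2
  have hPc : ∀ h g : G, P g → P (h * g * h⁻¹) := fun h g hg => ⟨by
      calc h * g * h⁻¹ * (h * g * h⁻¹) = h * (g * g) * h⁻¹ := by group
        _ = 1 := by rw [hg.1, mul_one, mul_inv_cancel],
    fun e => hg.2 (by rwa [mul_inv_eq_one, mul_eq_left] at e)⟩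
  let A : Ω → Type u := fun c => {g : G // P g ∧ g • c = c}
  have hAeq : ∀ c : Ω, Nat.card (A c) = Nat.card (A a) := by
    intro c
    obtain ⟨h, rfl⟩ := exists_smul_eq G a c
    refine (Nat.card_congr (Equiv.subtypeEquiv (MulAut.conj h).toEquiv fun g => ?_)).symm
    show P g ∧ g • a = a ↔ P (h * g * h⁻¹) ∧ (h * g * h⁻¹) • h • a = h • a
    rw [mul_smul, inv_smul_smul, mul_smul, MulAction.injective h |>.eq_iff]
    exact ⟨fun e => ⟨hPc h g e.1, e.2⟩, fun e => ⟨by simpa [mul_assoc] using hPc h⁻¹ _ e.1, e.2⟩⟩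
  set r := Nat.card (A a) with hr
  set I := Nat.card {g : G // P g} with hIdef
  have hI1 : I = n * r := by
    have e : {g : G // P g} ≃ Σ c : Ω, A c :=
      { toFun := fun g => ⟨(existsUnique_fixed_of_odd hZ hn (hord g g.2)).choose, g, g.2,
          (existsUnique_fixed_of_odd hZ hn (hord g g.2)).choose_spec.1⟩
        invFun := fun q => ⟨q.2.1, q.2.2.1⟩
        left_inv := fun g => rfl
        right_inv := fun q => by
          obtain ⟨c, g, hg, hgc⟩ := q
          obtain rfl : (existsUnique_fixed_of_odd hZ hn (hord g hg)).choose = c :=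
            ((existsUnique_fixed_of_odd hZ hn (hord g hg)).choose_spec.2 c hgc).symm
          rfl }
    rw [hIdef, Nat.card_congr e, Nat.card_sigma, Finset.sum_congr rfl fun c _ => hAeq c,
      Finset.sum_const, Finset.card_univ, smul_eq_mul, hndef, Nat.card_eq_fintype_card]
  have hI2 : I = r + m * d := by
    let A' := {g : G // P g ∧ ¬ g • a = a}
    have hsum : I = r + Nat.card A' := by
      rw [hIdef, hr, ← Nat.card_sum]
      exact Nat.card_congr
        { toFun := fun g => if h : g.1 • a = a then Sum.inl ⟨g.1, g.2, h⟩ else Sum.inr ⟨g.1, g.2, h⟩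
          invFun := fun s => s.elim (fun g => ⟨g.1, g.2.1⟩) (fun g => ⟨g.1, g.2.1⟩)
          left_inv := fun g => by by_cases h : g.1 • a = a <;> simp [h]
          right_inv := fun s => by
            rcases s with g | g
            · simp [g.2.2]
            · simp [g.2.2] }
    rw [hsum, ← Nat.card_prod]
    congr 1
    refine (Nat.card_eq_of_bijective (fun p : U × D => (⟨(p.1 : G) * (t * p.2) * (p.1 : G)⁻¹,
      hPc _ _ ?_, ?_⟩ : A')) ⟨fun p q h => ?_, fun g => ?_⟩).symm
    · have h := swaps_of_inverted hZ hab hdodd hta htb (s := t * p.2)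
        (by rw [mul_smul, (mem_pair_stabilizer.1 p.2.2).1, hta])
        (by rw [mul_smul, (mem_pair_stabilizer.1 p.2.2).2, htb]) hinv
      exact ⟨by rw [← pow_two, ← h.1, pow_orderOf_eq_one],
        fun e => by rw [e, orderOf_one] at h; omega⟩
    · rw [mul_smul, mul_smul, inv_smul_eq_iff.2 (mem_stabilizer_iff.1 (hU.le p.1.2)).symm, mul_smul,
        (mem_pair_stabilizer.1 p.2.2).1, hta]
      exact AbKernel.smul_b_ne hab hU p.1
    · have h' : (p.1 : G) * (t * p.2) * (p.1 : G)⁻¹ = q.1 * (t * q.2) * (q.1 : G)⁻¹ :=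
        congrArg Subtype.val h
      have hima : ∀ q : U × D, ((q.1 : G) * (t * q.2) * (q.1 : G)⁻¹) • a = (q.1 : G) • b := fun q => by
        rw [mul_smul, mul_smul, inv_smul_eq_iff.2 (mem_stabilizer_iff.1 (hU.le q.1.2)).symm, mul_smul,
          (mem_pair_stabilizer.1 q.2.2).1, hta]
      have e1 : p.1 = q.1 := (hU.reg _ (AbKernel.smul_b_ne hab hU q.1)).unique
        (by rw [← hima p, h', hima q]) rfl
      rw [e1] at h'
      exact Prod.ext e1 (Subtype.ext (mul_left_cancel (mul_left_cancel (mul_right_cancel h'))))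
    · obtain ⟨u, hu, -⟩ := hU.reg (g.1 • a) g.2.2
      have hgg : g.1 • g.1 • a = a := by rw [← mul_smul, g.2.1.1, one_smul]
      have hm : t⁻¹ * ((u : G)⁻¹ * g.1 * u) ∈ D := by
        have hua := mem_stabilizer_iff.1 (hU.le u.2)
        refine mem_pair_stabilizer.2 ⟨?_, ?_⟩
        · rw [mul_smul, mul_smul, mul_smul, hua, ← hu, inv_smul_smul, inv_smul_eq_iff, hta]
        · rw [mul_smul, mul_smul, mul_smul, hu, hgg, inv_smul_eq_iff.2 hua.symm, inv_smul_eq_iff, htb]
      exact ⟨(u, ⟨_, hm⟩), Subtype.ext (by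
        show (u : G) * (t * (t⁻¹ * ((u : G)⁻¹ * g.1 * u))) * (u : G)⁻¹ = g.1
        group)⟩
  have hm0 : 0 < m := Nat.card_pos
  have hrd : r = d := by
    refine Nat.eq_of_mul_eq_mul_left hm0 ?_
    rw [hI1, ← hmn, Nat.add_mul, one_mul] at hI2
    omega
  -- they lie in `U`
  have hAU : ∀ g : G, P g → g • a = a → g ∈ U := by
    intro g hg hga
    by_contra hgU
    let K := U.subgroupOf (stabilizer G a)
    have : K.Normal := ⟨fun x hx y => hU.conj y (mem_stabilizer_iff.1 y.2) x hx⟩
    let q := QuotientGroup.mk' K ⟨g, mem_stabilizer_iff.2 hga⟩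
    have hidx : Nat.card (stabilizer G a ⧸ K) = d := by
      refine Nat.eq_of_mul_eq_mul_left hm0 ?_
      rw [hmdef, hddef, AbKernel.card_stabilizer hab hU, ← Nat.card_congr
        (Subgroup.subgroupOfEquivOfLe hU.le).toEquiv, ← Subgroup.index_eq_card, Subgroup.card_mul_index]
    have hq1 : q ≠ 1 := fun h => hgU ((QuotientGroup.eq_one_iff (N := K) _).1 h)
    have hq2 : q * q = 1 := by
      rw [← map_mul, ← map_one (QuotientGroup.mk' K)]
      exact congrArg _ (Subtype.ext hg.1)
    have h2 : orderOf q = 2 := orderOf_eq_prime (by rw [pow_two, hq2]) hq1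
    have h3 := orderOf_dvd_natCard q
    rw [h2, hidx] at h3
    obtain ⟨k, hk⟩ := hdodd
    omega
  have hclass : Nat.card {v : G // v ∈ U ∧ v * v = 1 ∧ v ≠ 1} = d := by
    rw [← hrd, hr]
    exact Nat.card_congr (Equiv.subtypeEquivRight fun v =>
      ⟨fun h => ⟨⟨h.2.1, h.2.2⟩, mem_stabilizer_iff.1 (hU.le h.1)⟩,
        fun h => ⟨hAU v h.1 h.2, h.1.1, h.1.2⟩⟩)
  have hd2 : 2 ≤ d := AbKernel.two_le_card_pair hZ hab hU
  obtain ⟨⟨i, hiU, hii, hi1⟩⟩ : Nonempty {v : G // v ∈ U ∧ v * v = 1 ∧ v ≠ 1} :=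
    (Nat.card_pos_iff.1 (by omega)).1
  have hconj : ∀ v ∈ U, v * v = 1 → v ≠ 1 → ∃ δ : D, (δ : G) * i * (δ : G)⁻¹ = v := by
    intro v hv hvv hv1
    have hbij := (show Function.Injective fun δ : D => (⟨(δ : G) * i * (δ : G)⁻¹,
        AbKernel.conj_pair_mem hZ hab hU hiU δ, (hPc _ i ⟨hii, hi1⟩).1,
        (hPc _ i ⟨hii, hi1⟩).2⟩ : {v : G // v ∈ U ∧ v * v = 1 ∧ v ≠ 1}) from
      fun δ ε h => AbKernel.conj_pair_injective hZ hab hU hiU hi1
        (congrArg Subtype.val h)).bijective_of_nat_card_le (by rw [hclass])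
    obtain ⟨δ, hδ⟩ := hbij.2 ⟨v, hv, hvv, hv1⟩
    exact ⟨δ, congrArg Subtype.val hδ⟩
  -- every element of `U` squares to `1`
  have hall : ∀ u ∈ U, u * u = 1 := by
    by_contra! hne
    obtain ⟨w, hw, hww⟩ := hne
    let sq : U →* U :=
      { toFun := fun u => u * u
        map_one' := mul_one 1
        map_mul' := fun x y => Subtype.ext (by
          show (x : G) * y * (x * y) = x * x * (y * y)
          rw [mul_assoc, ← mul_assoc (y : G), hU.comm y y.2 x x.2]
          group) }
    have hker : Nat.card sq.ker = d + 1 := by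
      rw [← hclass, show Nat.card {v : G // v ∈ U ∧ v * v = 1 ∧ v ≠ 1} + 1 =
        Nat.card (Option {v : G // v ∈ U ∧ v * v = 1 ∧ v ≠ 1}) from Finite.card_option.symm]
      exact Nat.card_congr
        { toFun := fun u => if h : (u : U) = 1 then none
            else some ⟨((u : U) : G), (u : U).2, congrArg Subtype.val (MonoidHom.mem_ker.1 u.2),
              fun e => h (Subtype.ext e)⟩
          invFun := fun o => o.elim 1 fun v => ⟨⟨v.1, v.2.1⟩,
            MonoidHom.mem_ker.2 (Subtype.ext v.2.2.1)⟩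
          left_inv := fun u => by
            by_cases h : (u : U) = 1
            · simp only [h, dif_pos, Option.elim]
              exact Subtype.ext h.symm
            · simp [h]
          right_inv := fun o => by
            rcases o with _ | v
            · simp
            · simp only [Option.elim]
              exact dif_neg fun e => v.2.2.2 (congrArg Subtype.val e) }
    have hrange : d + 1 ≤ Nat.card sq.range := by
      have hw2 : w * w ∈ U := mul_mem hw hw
      let f : Option D → sq.range := fun o => o.elim 1 fun δ =>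
        ⟨⟨(δ : G) * (w * w) * (δ : G)⁻¹, AbKernel.conj_pair_mem hZ hab hU hw2 δ⟩,
          ⟨⟨(δ : G) * w * (δ : G)⁻¹, AbKernel.conj_pair_mem hZ hab hU hw δ⟩, Subtype.ext (by
            show (δ : G) * w * (δ : G)⁻¹ * ((δ : G) * w * (δ : G)⁻¹) = (δ : G) * (w * w) * (δ : G)⁻¹
            group)⟩⟩
      have hf : Function.Injective f := by
        intro o o' h
        have h' := congrArg (fun z : sq.range => ((z : U) : G)) h
        rcases o with _ | δ <;> rcases o' with _ | ε
        · rfl
        · exact absurd (mul_inv_eq_one.1 (Eq.symm (h' : (1 : G) = (ε : G) * (w * w) * (ε : G)⁻¹)))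
            (fun e => hww (mul_eq_left.1 e))
        · exact absurd (mul_inv_eq_one.1 (h' : (δ : G) * (w * w) * (δ : G)⁻¹ = 1))
            (fun e => hww (mul_eq_left.1 e))
        · exact congrArg some (AbKernel.conj_pair_injective hZ hab hU hw2 hww h')
      rw [← Finite.card_option]
      exact Nat.card_le_card_of_injective f hf
    have hm2 : (d + 1) ^ 2 ≤ m := by
      have h := sq.ker.card_mul_index
      rw [Subgroup.index_ker, hker] at h
      rw [hmdef, ← h, pow_two]
      exact Nat.mul_le_mul_left _ hrange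
    have hidx : (U.subgroupOf (AbelianChars.nrm U)).index = d := AbKernel.index_eq hZ hab hU
    refine hww (AbelianChars.involutions_only U (AbKernel.ti hZ hab hU)
      (AbKernel.lt_normalizer hZ hab hU) (AbKernel.centralizer_le hZ hab hU) hU.comm hiU
      (hord i ⟨hii, hi1⟩) ?_ ?_ ?_ ?_ ?_ ?_ w hw)
    · rw [hidx]
      obtain ⟨k, hk⟩ := hdodd
      omega
    · rw [hidx]; exact hm2
    · rw [hidx, AbKernel.card_group hZ hab hU, ← hndef, ← hmn, ← hmdef, ← hDdef, ← hddef]
      nlinarith
    · rw [hidx]; exact hclass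
    · intro v hv hvv hv1
      obtain ⟨δ, hδ⟩ := hconj v hv hvv hv1
      exact ⟨⟨δ, by show (δ : G) ∈ Subgroup.normalizer (U : Set G); rw [AbKernel.normalizer_eq hZ hab hU]; exact δ.2.1⟩, hδ⟩
    · intro x y hxy hxy1
      set p := x * i * x⁻¹
      set q := y * i * y⁻¹
      have hp : P p := hPc x i ⟨hii, hi1⟩
      have hq : P q := hPc y i ⟨hii, hi1⟩
      have hpn : p ∈ Subgroup.normalizer (U : Set G) := by
        by_contra hpn
        refine hxy1 (AbKernel.ti hZ hab hU p hpn _ hxy ?_)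
        have e : p * (p * q) * p⁻¹ = (p * q)⁻¹ :=
          calc p * (p * q) * p⁻¹ = p * p * q * p⁻¹ := by rw [← mul_assoc p p q]
            _ = q⁻¹ * p⁻¹ := by rw [hp.1, one_mul, inv_eq_of_mul_eq_one_right hq.1]
            _ = (p * q)⁻¹ := (mul_inv_rev p q).symm
        rw [e]
        exact inv_mem hxy
      rw [AbKernel.normalizer_eq hZ hab hU, mem_stabilizer_iff] at hpn
      have hpU := hAU p hp hpn
      exact ⟨hpU, by simpa using mul_mem (inv_mem hpU) hxy⟩
  have hm1 : m = d + 1 := by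
    rw [hmdef, ← hclass, show Nat.card {v : G // v ∈ U ∧ v * v = 1 ∧ v ≠ 1} + 1 =
      Nat.card (Option {v : G // v ∈ U ∧ v * v = 1 ∧ v ≠ 1}) from Finite.card_option.symm]
    exact Nat.card_congr
      { toFun := fun u => if h : u = 1 then none
          else some ⟨u, u.2, hall u u.2, fun e => h (Subtype.ext e)⟩
        invFun := fun o => o.elim 1 fun v => ⟨v.1, v.2.1⟩
        left_inv := fun u => by by_cases h : u = 1 <;> simp [h]
        right_inv := fun o => by
          rcases o with _ | v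
          · simp
          · simp only [Option.elim]
            exact dif_neg fun e => v.2.2.2 (congrArg Subtype.val e) }
  omega

set_option maxHeartbeats 1600000 in
/-- In even degree, `G_ab` of odd order inverted by the swaps has order `(|Ω| - 2) / 2`. -/
theorem two_mul_card_of_inverted (hU : AbKernel a b U) (hn : Even (Nat.card Ω))
    (hdodd : Odd (Nat.card ↥(stabilizer G a ⊓ stabilizer G b)))
    (hinv : ∀ s : G, s • a = b → s • b = a →
      ∀ h ∈ stabilizer G a ⊓ stabilizer G b, s * h * s⁻¹ = h⁻¹) :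
    2 * Nat.card ↥(stabilizer G a ⊓ stabilizer G b) + 2 = Nat.card Ω := by
  classical
  have := finite_group hZ
  have := Fintype.ofFinite G
  have := Fintype.ofFinite Ω
  have := pretransitive hZ
  set D := stabilizer G a ⊓ stabilizer G b with hDdef
  set d := Nat.card D with hddef
  set m := Nat.card U with hmdef
  set n := Nat.card Ω with hndef
  have hmn : m + 1 = n := AbKernel.card_add_one hab hU
  have hmodd : Odd m := by
    obtain ⟨k, hk⟩ := hn
    exact ⟨k - 1, by omega⟩
  have hGa : Odd (Nat.card (stabilizer G a)) := by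
    rw [← AbKernel.card_stabilizer hab hU]
    exact hmodd.mul hdodd
  obtain ⟨t, ht, hta, htb⟩ := exists_swap hZ hab
  obtain ⟨k, hk⟩ : d ∣ n - 2 := card_pair_dvd hZ hab
  -- `k` is even
  obtain ⟨j, rfl⟩ : Even k := by
    rcases Nat.even_or_odd k with h | h
    · exact h
    · obtain ⟨p, hp⟩ := hdodd.mul h
      obtain ⟨q, hq⟩ := hn
      omega
  have hd2 : 2 ≤ d := AbKernel.two_le_card_pair hZ hab hU
  have hm2 : 2 ≤ m := AbKernel.two_le_card hZ hab hU
  by_contra hne
  have hj1 : j ≠ 1 := fun h => hne (by subst h; omega)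
  have hj0 : j ≠ 0 := fun h => by subst h; simp at hk; omega
  have h4 : 4 * d < m := by
    have : d * 4 ≤ d * (j + j) := Nat.mul_le_mul_left d (by omega)
    omega
  let P : G → Prop := fun g => g * g = 1 ∧ g ≠ 1
  -- every involution is conjugate to `t`
  have hfpf : ∀ g : G, P g → ∀ c : Ω, g • c ≠ c := by
    intro g hg c hc
    obtain ⟨h, rfl⟩ := exists_smul_eq G a c
    have hmem : h⁻¹ * g * h ∈ stabilizer G a := by
      rw [mem_stabilizer_iff, mul_smul, mul_smul, hc, inv_smul_smul]
    have h2 : orderOf (⟨_, hmem⟩ : stabilizer G a) = 2 := orderOf_eq_prime (Subtype.ext (by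
        show (h⁻¹ * g * h) ^ 2 = 1
        rw [pow_two]
        calc h⁻¹ * g * h * (h⁻¹ * g * h) = h⁻¹ * (g * g) * h := by group
          _ = 1 := by rw [hg.1, mul_one, inv_mul_cancel]))
      (fun e => hg.2 (by
        have e' : h⁻¹ * g * h = 1 := congrArg Subtype.val e
        calc g = h * (h⁻¹ * g * h) * h⁻¹ := by group
          _ = 1 := by rw [e', mul_one, mul_inv_cancel]))
    have h3 := orderOf_dvd_natCard (⟨_, hmem⟩ : stabilizer G a)
    rw [h2] at h3
    obtain ⟨p, hp⟩ := hGa
    omega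
  have htP : P t := ⟨by rw [← pow_two, ← ht, pow_orderOf_eq_one],
    fun h => by rw [h, orderOf_one] at ht; omega⟩
  have hconj : ∀ x : G, x * x = 1 → x ≠ 1 → IsConj t x := by
    intro x hxx hx1
    obtain ⟨g, hga, hgb⟩ := exists_smul_pair hZ hab (hfpf x ⟨hxx, hx1⟩ a).symm
    have hsa : (g⁻¹ * x * g) • a = b := by rw [mul_smul, mul_smul, hga, ← hgb, inv_smul_smul]
    have hsb : (g⁻¹ * x * g) • b = a := by
      rw [mul_smul, mul_smul, hgb, ← mul_smul x, hxx, one_smul, inv_smul_eq_iff, hga]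
    obtain ⟨-, δ, -, hδ⟩ := swaps_of_inverted hZ hab hdodd hta htb hsa hsb hinv
    exact isConj_iff.2 ⟨g * δ, by
      calc g * δ * t * (g * δ)⁻¹ = g * (δ * t * δ⁻¹) * g⁻¹ := by group
        _ = x := by rw [hδ]; group⟩
  have hI : Nat.card {x : G // x * x = 1 ∧ x ≠ 1} = m * d := by
    rw [hmdef, hddef, ← Nat.card_prod]
    refine (Nat.card_eq_of_bijective (fun p : U × D => (⟨(p.1 : G) * (t * p.2) * (p.1 : G)⁻¹,
      ?_⟩ : {x : G // x * x = 1 ∧ x ≠ 1})) ⟨fun p q h => ?_, fun g => ?_⟩).symm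
    · have h := (swaps_of_inverted hZ hab hdodd hta htb (s := t * p.2)
        (by rw [mul_smul, (mem_pair_stabilizer.1 p.2.2).1, hta])
        (by rw [mul_smul, (mem_pair_stabilizer.1 p.2.2).2, htb]) hinv).1
      refine ⟨?_, fun e => ?_⟩
      · calc (p.1 : G) * (t * p.2) * (p.1 : G)⁻¹ * ((p.1 : G) * (t * p.2) * (p.1 : G)⁻¹)
            = (p.1 : G) * (t * p.2) ^ 2 * (p.1 : G)⁻¹ := by rw [pow_two]; group
          _ = 1 := by rw [← h, pow_orderOf_eq_one, mul_one, mul_inv_cancel]
      · rw [mul_inv_eq_one, mul_eq_left] at e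
        rw [e, orderOf_one] at h
        omega
    · have h' : (p.1 : G) * (t * p.2) * (p.1 : G)⁻¹ = q.1 * (t * q.2) * (q.1 : G)⁻¹ :=
        congrArg Subtype.val h
      have hima : ∀ q : U × D, ((q.1 : G) * (t * q.2) * (q.1 : G)⁻¹) • a = (q.1 : G) • b := fun q => by
        rw [mul_smul, mul_smul, inv_smul_eq_iff.2 (mem_stabilizer_iff.1 (hU.le q.1.2)).symm, mul_smul,
          (mem_pair_stabilizer.1 q.2.2).1, hta]
      have e1 : p.1 = q.1 := (hU.reg _ (AbKernel.smul_b_ne hab hU q.1)).unique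
        (by rw [← hima p, h', hima q]) rfl
      rw [e1] at h'
      exact Prod.ext e1 (Subtype.ext (mul_left_cancel (mul_left_cancel (mul_right_cancel h'))))
    · obtain ⟨u, hu, -⟩ := hU.reg (g.1 • a) (hfpf g.1 g.2 a)
      have hgg : g.1 • g.1 • a = a := by rw [← mul_smul, g.2.1, one_smul]
      have hm : t⁻¹ * ((u : G)⁻¹ * g.1 * u) ∈ D := by
        have hua := mem_stabilizer_iff.1 (hU.le u.2)
        refine mem_pair_stabilizer.2 ⟨?_, ?_⟩
        · rw [mul_smul, mul_smul, mul_smul, hua, ← hu, inv_smul_smul, inv_smul_eq_iff, hta]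
        · rw [mul_smul, mul_smul, mul_smul, hu, hgg, inv_smul_eq_iff.2 hua.symm, inv_smul_eq_iff, htb]
      exact ⟨(u, ⟨_, hm⟩), Subtype.ext (by
        show (u : G) * (t * (t⁻¹ * ((u : G)⁻¹ * g.1 * u))) * (u : G)⁻¹ = g.1
        group)⟩
  have hG : Nat.card G = n * (m * d) := AbKernel.card_group hZ hab hU
  have hC : Nat.card (Subgroup.centralizer ({t} : Set G)) = n := by
    refine Nat.eq_of_mul_eq_mul_left (show 0 < m * d from Nat.mul_pos (by omega) (by omega)) ?_
    rw [mul_comm (m * d) n, ← hG, ← Characters.Complete.card_conjugates_mul_centralizer t, ← hI]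
    congr 1
    exact Nat.card_congr (Equiv.subtypeEquivRight fun x => ⟨fun h => hconj x h.1 h.2, fun h => by
      obtain ⟨c, rfl⟩ := isConj_iff.1 h
      refine ⟨?_, fun e => htP.2 (by rwa [mul_inv_eq_one, mul_eq_left] at e)⟩
      calc c * t * c⁻¹ * (c * t * c⁻¹) = c * (t * t) * c⁻¹ := by group
        _ = 1 := by rw [htP.1, mul_one, mul_inv_cancel]⟩)
  -- the real characters
  have hidx : (U.subgroupOf (AbelianChars.nrm U)).index = d := AbKernel.index_eq hZ hab hU
  have hS₀ : Cfsg.IsIrrCharacter G (fun g => Characters.Transitive.permChar Ω g - 1) :=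
    (Characters.Transitive.isIrrCharacter_iff Ω (show 2 ≤ Nat.card Ω by omega)).2 (two_trans hZ)
  have hR : Nat.card {C : ConjClasses G // ∀ g : G, ConjClasses.mk g = C → IsConj g g⁻¹} ≤ d + 1 := by
    rw [← Characters.Indicator.card_real_irr, ← hidx]
    refine AbelianChars.card_real_le U (AbKernel.ti hZ hab hU) (AbKernel.lt_normalizer hZ hab hU)
      (AbKernel.centralizer_le hZ hab hU) hU.comm ?_ ?_ ⟨_, hS₀⟩ ?_
    · rw [hidx]; omega
    · show Odd (Nat.card (Subgroup.normalizer (U : Set G)))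
      rw [AbKernel.normalizer_eq hZ hab hU]; exact hGa
    intro χ hreal hzero
    have := Fintype.ofFinite (stabilizer G a)
    have := Fintype.ofFinite (Cfsg.IrrCharacter (stabilizer G a))
    set K := U.subgroupOf (stabilizer G a) with hKdef
    have hKn : K.Normal := ⟨fun x hx y => hU.conj y (mem_stabilizer_iff.1 y.2) x hx⟩
    set ψ : stabilizer G a → ℂ := fun g => (χ : G → ℂ) g with hψ
    set NR := Finset.univ.filter (fun φ : Cfsg.IrrCharacter (stabilizer G a) =>
      ¬ Clifford.KernelChars.Rel K (φ : stabilizer G a → ℂ)) with hNR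
    -- some constituent of the restriction is trivial on `U`
    obtain ⟨φ, hφU, hφ0⟩ : ∃ φ : Cfsg.IrrCharacter (stabilizer G a),
        ¬ Clifford.KernelChars.Rel K (φ : stabilizer G a → ℂ) ∧
          Cfsg.classInner (φ : stabilizer G a → ℂ) ψ ≠ 0 := by
      by_contra! h
      have hsum : ∑ φ ∈ NR,
          (φ : stabilizer G a → ℂ) 1 • Cfsg.classInner (φ : stabilizer G a → ℂ) ψ = 0 :=
        Finset.sum_eq_zero fun φ hφ => by rw [h φ (Finset.mem_filter.1 hφ).2, smul_zero]
      have key : (K.index : ℂ) * (χ : G → ℂ) 1 = 0 := by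
        rw [← Characters.Basic.conj_apply_one (Characters.Basic.isCharacter_irr χ)]
        have e : (Nat.card (stabilizer G a) : ℂ) * 0 = (K.index : ℂ) * (starRingEnd ℂ) ((χ : G → ℂ) 1) := by
          rw [← hsum]
          simp only [Cfsg.classInner, smul_eq_mul, Finset.mul_sum]
          rw [Finset.sum_comm, Finset.sum_eq_single (1 : stabilizer G a)]
          · have h1 := Clifford.KernelChars.sum_not_rel K K.one_mem
            rw [← h1, Finset.sum_mul]
            refine Finset.sum_congr rfl fun φ _ => ?_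
            have hc : (Nat.card (stabilizer G a) : ℂ) ≠ 0 := Induced.Basic.natCard_ne_zero
            simp only [hψ, OneMemClass.coe_one]
            field_simp
          · intro g _ hg
            by_cases hgK : g ∈ K
            · refine Finset.sum_eq_zero fun φ _ => ?_
              simp only [hψ]
              rw [hzero g hgK (fun e => hg (Subtype.ext e))]
              simp
            · have hnr : ∑ φ ∈ NR,
                  (φ : stabilizer G a → ℂ) 1 * (φ : stabilizer G a → ℂ) g = 0 :=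
                sum_not_rel_of_not_mem K hgK
              calc _ = (starRingEnd ℂ) (ψ g) * ∑ φ ∈ NR,
                  (φ : stabilizer G a → ℂ) 1 * (φ : stabilizer G a → ℂ) g := by
                    rw [Finset.mul_sum]
                    refine Finset.sum_congr rfl fun φ _ => ?_
                    have hc : (Nat.card (stabilizer G a) : ℂ) ≠ 0 := Induced.Basic.natCard_ne_zero
                    field_simp
                _ = 0 := by rw [hnr, mul_zero]
          · exact fun h => absurd (Finset.mem_univ _) h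
        rw [mul_zero] at e
        exact e.symm
      exact mul_ne_zero (Clifford.KernelChars.index_ne_zero K)
        (Characters.Basic.apply_one_ne_zero χ) key
    have hφK : ∀ g ∈ K, (φ : stabilizer G a → ℂ) g = (φ : stabilizer G a → ℂ) 1 := fun g hg => by
      by_contra hne
      exact hφU ⟨g, hg, hne⟩
    have hφ1 : (φ : stabilizer G a → ℂ) 1 = 1 := by
      obtain ⟨φ', hφ', hφ''⟩ : ∃ φ' : Cfsg.IrrCharacter (stabilizer G a ⧸ K),
          (φ : stabilizer G a → ℂ) 1 = (φ' : stabilizer G a ⧸ K → ℂ) 1 ∧ True := by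
        obtain ⟨p, hp⟩ := (Characters.Kernel.inflateEquiv K).surjective ⟨φ, hφK⟩
        refine ⟨p, ?_, trivial⟩
        have := Characters.Kernel.inflateEquiv_apply K p 1
        rw [hp] at this
        simpa using this
      rw [hφ']
      refine Characters.Linear.degree_eq_one_of_comm (fun x y => ?_) φ'
      obtain ⟨g, rfl⟩ := QuotientGroup.mk'_surjective K x
      obtain ⟨h, rfl⟩ := QuotientGroup.mk'_surjective K y
      have hred : ∀ g : stabilizer G a, ∃ δ : stabilizer G a, (δ : G) ∈ D ∧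
          QuotientGroup.mk' K g = QuotientGroup.mk' K δ := by
        intro g
        obtain ⟨u, hu, hm⟩ := AbKernel.decomp hab hU (mem_stabilizer_iff.1 g.2)
        refine ⟨⟨u⁻¹ * g, hm.1⟩, hm, ?_⟩
        refine (congrArg (QuotientGroup.mk' K) (show g = (⟨u, hU.le hu⟩ : stabilizer G a) *
          ⟨u⁻¹ * g, hm.1⟩ from Subtype.ext (mul_inv_cancel_left u (g : G)).symm)).trans ?_
        rw [map_mul,
          show QuotientGroup.mk' K ⟨u, hU.le hu⟩ = 1 from (QuotientGroup.eq_one_iff (N := K) _).2 hu, one_mul]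
      obtain ⟨g', hg', eg⟩ := hred g
      obtain ⟨h', hh', eh⟩ := hred h
      rw [eg, eh, ← map_mul, ← map_mul]
      congr 1
      refine Subtype.ext ?_
      show (g' : G) * h' = h' * g'
      have e1 := hinv t hta htb _ (mul_mem hg' hh')
      have e2 : t * ((g' : G) * h') * t⁻¹ = (t * g' * t⁻¹) * (t * h' * t⁻¹) := by group
      rw [e2, hinv t hta htb _ hg', hinv t hta htb _ hh', mul_inv_rev] at e1
      have e3 := congrArg Inv.inv e1
      simp only [mul_inv_rev, inv_inv] at e3
      exact e3.symm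
    have hψc : Cfsg.IsClassFunction G (χ : G → ℂ) := Characters.Basic.isClassFunction_irr χ
    rw [← Induced.Basic.frobenius_reciprocity _ _ hψc] at hφ0
    by_cases hφt : (φ : stabilizer G a → ℂ) = fun _ => 1
    · rw [hφt, ← Induced.Basic.card_fixedBy_eq_indFun Ω a] at hφ0
      have hp : (fun g : G => (Nat.card (fixedBy Ω g) : ℂ)) =
          (fun g : G => Characters.Transitive.permChar Ω g - 1) +
            (Characters.Basic.oneChar G : G → ℂ) := by
        funext g
        simp [Characters.Transitive.permChar, Characters.Basic.oneChar_apply]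
      rw [hp, Induced.Basic.classInner_add_left] at hφ0
      have h1 : Cfsg.classInner (Characters.Basic.oneChar G : G → ℂ) (χ : G → ℂ) = 0 := by
        refine Characters.Basic.classInner_irr_of_ne fun e => ?_
        obtain ⟨w, hw, hw1⟩ := AbKernel.exists_ne_one hZ hab hU
        have := hzero w hw hw1
        rw [← e, Characters.Basic.oneChar_apply] at this
        exact one_ne_zero this
      rw [h1, add_zero] at hφ0
      by_contra hne'
      exact hφ0 (Characters.Basic.classInner_irr_of_ne (χ := ⟨_, hS₀⟩) (ψ := χ) (Ne.symm hne'))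
    · exfalso
      obtain ⟨hirr, hval⟩ := IndChar.isIrr_indFun hZ hab hdodd ⟨t, hta, hinv t hta htb⟩ U hU.le
        (by rw [← Nat.card_eq_fintype_card]; exact hmn)
        (fun u hu hu1 c hc => by
          by_contra hca
          exact hu1 (AbKernel.free hab hU hu hca hc))
        (μ := (φ : stabilizer G a → ℂ)) ⟨Characters.Basic.isCharacter_irr φ, hφ1⟩
        (fun u hu => (hφK u hu).trans hφ1) hφt
      have heq : (⟨_, hirr⟩ : Cfsg.IrrCharacter G) = χ := by
        by_contra hne'
        exact hφ0 (Characters.Basic.classInner_irr_of_ne hne')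
      obtain ⟨w, hw, hw1⟩ := AbKernel.exists_ne_one hZ hab hU
      have h1 := hval w hw hw1
      have h2 := hzero w hw hw1
      rw [← heq] at h2
      exact one_ne_zero (h1.symm.trans h2)
  exact InvolutionCount.false_of_counts t htP hconj hI hC hmn hG hR hd2 h4

end Cfsg.Agent.Lib.Zassenhaus
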