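import Cfsg.Agent.Lib.Zassenhaus.KernelCases

/-!
# Classes of fixed-point-free elements in odd degree

Counting pairs of involutions: in odd degree there are at least `(e + 1) / 2` classes of elements
without fixed points, `e = |G_ab|`.
-/

set_option autoImplicit false
set_option linter.unusedSectionVars false

namespace Cfsg.Agent.Lib.Zassenhaus

open MulAction
open scoped Classical

universe u v

variable {G : Type u} {Ω : Type v} [Group G] [MulAction G Ω] [Finite Ω]
  (hZ : Cfsg.IsZassenhausGroup G Ω) {a b : Ω} (hab : a ≠ b) {U : Subgroup G} (hU : RegKernel a b U)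

include hZ in
/-- Two-point stabilisers have the same order. -/
theorem card_pair_eq {p q : Ω} (hab : a ≠ b) (hpq : p ≠ q) :
    Nat.card ↥(stabilizer G p ⊓ stabilizer G q) =
      Nat.card ↥(stabilizer G a ⊓ stabilizer G b) := by
  obtain ⟨g, rfl, rfl⟩ := exists_smul_pair hZ hab hpq
  refine (Nat.card_congr (Equiv.subtypeEquiv (MulAut.conj g).toEquiv fun x => ?_)).symm
  show x ∈ stabilizer G a ⊓ stabilizer G b ↔ g * x * g⁻¹ ∈ stabilizer G (g • a) ⊓ stabilizer G (g • b)
  rw [mem_pair_stabilizer, mem_pair_stabilizer, mul_smul, mul_smul, inv_smul_smul, mul_smul,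
    mul_smul, inv_smul_smul, (MulAction.injective g).eq_iff, (MulAction.injective g).eq_iff]

include hZ hab hU

set_option maxHeartbeats 1600000 in
/-- The classes without fixed points. -/
theorem fpf_classes (hn : Odd (Nat.card Ω)) :
    Nat.card ↥(stabilizer G a ⊓ stabilizer G b) + 1 ≤
      2 * Nat.card {C : ConjClasses G // ∀ g : G, ConjClasses.mk g = C → ∀ c : Ω, g • c ≠ c} := by
  have := finite_group hZ
  have := Fintype.ofFinite G
  have := Fintype.ofFinite Ω
  have := pretransitive hZ
  have : Finite (ConjClasses G) := Finite.of_surjective ConjClasses.mk ConjClasses.mk_surjective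
  have := Fintype.ofFinite (ConjClasses G)
  set e := Nat.card ↥(stabilizer G a ⊓ stabilizer G b) with hedef
  set n := Nat.card Ω with hndef
  set h := Nat.card U with hhdef
  have hmn : h + 1 = n := RegKernel.card_add_one hab hU
  have hG : Nat.card G = n * (h * e) := RegKernel.card_group hZ hab hU
  have hedd : Odd e := odd_card_pair hZ hn hab
  obtain ⟨hAU, hI, -, hcen⟩ := odd_involutions hZ hab hU hn
  let P : G → Prop := fun g => g * g = 1 ∧ g ≠ 1
  have hord : ∀ g : G, P g → orderOf g = 2 := fun g h =>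
    orderOf_eq_prime (by rw [pow_two, h.1]) h.2
  have hPi : ∀ x, P x → x⁻¹ = x := fun x hx => inv_eq_of_mul_eq_one_right hx.1
  have hPconj : ∀ g x, P x → P (g * x * g⁻¹) := by
    intro g x hx
    refine ⟨?_, fun h => hx.2 ?_⟩
    · calc g * x * g⁻¹ * (g * x * g⁻¹) = g * (x * x) * g⁻¹ := by group
        _ = 1 := by rw [hx.1, mul_one, mul_inv_cancel]
    · rwa [mul_inv_eq_one, mul_eq_left] at h
  -- involutions with a common fixed point commute
  have hcomm : ∀ x y : G, P x → P y → ∀ c : Ω, x • c = c → y • c = c → x * y = y * x := by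
    intro x y hx hy c hxc hyc
    obtain ⟨g, rfl⟩ := exists_smul_eq G a c
    have hx' : (g⁻¹ * x * g) • a = a := by rw [mul_smul, mul_smul, hxc, inv_smul_smul]
    have hy' : (g⁻¹ * y * g) • a = a := by rw [mul_smul, mul_smul, hyc, inv_smul_smul]
    have hPx : P (g⁻¹ * x * g) := by simpa using hPconj g⁻¹ x hx
    have hPy : P (g⁻¹ * y * g) := by simpa using hPconj g⁻¹ y hy
    have hcm := hcen _ (hAU _ hPy.1 hPy.2 hy') hPy.1 _ (hAU _ hPx.1 hPx.2 hx')
    calc x * y = g * ((g⁻¹ * x * g) * (g⁻¹ * y * g)) * g⁻¹ := by group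
      _ = g * ((g⁻¹ * y * g) * (g⁻¹ * x * g)) * g⁻¹ := by rw [hcm]
      _ = y * x := by group
  -- `e` involutions fix a given point
  have hfixcount : ∀ c : Ω, Nat.card {x : G // P x ∧ x • c = c} = e := by
    have hAeq : ∀ c : Ω, Nat.card {x : G // P x ∧ x • c = c} =
        Nat.card {x : G // P x ∧ x • a = a} := by
      intro c
      obtain ⟨g, rfl⟩ := exists_smul_eq G a c
      refine (Nat.card_congr (Equiv.subtypeEquiv (MulAut.conj g).toEquiv fun x => ?_)).symm
      show P x ∧ x • a = a ↔ P (g * x * g⁻¹) ∧ (g * x * g⁻¹) • g • a = g • a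
      rw [mul_smul, inv_smul_smul, mul_smul, (MulAction.injective g).eq_iff]
      exact ⟨fun e => ⟨hPconj g x e.1, e.2⟩,
        fun e => ⟨by simpa [mul_assoc] using hPconj g⁻¹ _ e.1, e.2⟩⟩
    have hsum : Nat.card {x : G // P x} = n * Nat.card {x : G // P x ∧ x • a = a} := by
      let E : {x : G // P x} ≃ Σ c : Ω, {x : G // P x ∧ x • c = c} :=
        { toFun := fun g => ⟨(existsUnique_fixed_of_odd hZ hn (hord g g.2)).choose, g, g.2,
            (existsUnique_fixed_of_odd hZ hn (hord g g.2)).choose_spec.1⟩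
          invFun := fun q => ⟨q.2.1, q.2.2.1⟩
          left_inv := fun g => rfl
          right_inv := fun q => by
            obtain ⟨c, g, hg, hgc⟩ := q
            obtain rfl : (existsUnique_fixed_of_odd hZ hn (hord g hg)).choose = c :=
              ((existsUnique_fixed_of_odd hZ hn (hord g hg)).choose_spec.2 c hgc).symm
            rfl }
      rw [Nat.card_congr E, Nat.card_sigma, Finset.sum_congr rfl fun c _ => hAeq c,
        Finset.sum_const, Finset.card_univ, smul_eq_mul, hndef, ← Nat.card_eq_fintype_card (α := Ω)]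
    intro c
    rw [hAeq c]
    exact (Nat.eq_of_mul_eq_mul_left (show 0 < n by omega) (hI.symm.trans hsum)).symm
  -- the number of ways to write an element as a product of two involutions
  let f : G → ℕ := fun z => Nat.card {x : G // P x ∧ P (x * z)}
  have hsolve : ∀ x z, P x → P (x * z) → x * z * x⁻¹ = z⁻¹ := by
    intro x z hx hxz
    have h := hPi _ hxz
    rw [mul_inv_rev, hPi x hx] at h
    rw [hPi x hx, ← h, mul_assoc, hx.1, mul_one]
  have hperm : ∀ x z : G, P x → P (x * z) → ∀ p : Ω, z • p = p → z • x • p = x • p := by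
    intro x z hx hxz p hp
    have h := hsolve x z hx hxz
    rw [hPi x hx] at h
    calc z • x • p = (z * x) • p := (mul_smul z x p).symm
      _ = (x * z⁻¹) • p := by
          rw [← h, ← mul_assoc x (x * z), ← mul_assoc x x z, hx.1, one_mul]
      _ = x • p := by rw [mul_smul, inv_smul_eq_iff.2 hp.symm]
  have hfix1 : ∀ (z : G) (p : Ω), z ≠ 1 → z • p = p → (∀ c, z • c = c → c = p) → ∀ x, P x → P (x * z) →
      x • p = p ∧ z * z = 1 := by
    intro z p hz hp huniq x hx hxz
    have hxp := huniq _ (hperm x z hx hxz p hp)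
    refine ⟨hxp, ?_⟩
    have hyp : (x * z) • p = p := by rw [mul_smul, hp, hxp]
    have hc := hcomm x (x * z) hx hxz p hxp hyp
    have hzeq : z = x * (x * z) := by rw [← mul_assoc, hx.1, one_mul]
    rw [hzeq]
    calc x * (x * z) * (x * (x * z)) = x * ((x * z) * x) * (x * z) := by group
      _ = x * (x * (x * z)) * (x * z) := by rw [hc]
      _ = (x * x) * ((x * z) * (x * z)) := by group
      _ = 1 := by rw [hx.1, hxz.1, one_mul]
  have hI' : Nat.card {x : G // P x} = n * e := hI
  have hf1 : f 1 = n * e := by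
    rw [← hI']
    exact Nat.card_congr (Equiv.subtypeEquivRight fun x => by simp [P])
  have hfinv : ∀ z, P z → f z + 1 ≤ e := by
    intro z hz
    obtain ⟨c, hc, huniq⟩ := existsUnique_fixed_of_odd hZ hn (hord z hz)
    rw [← hfixcount c, ← Finite.card_option]
    refine Nat.card_le_card_of_injective (fun o => o.elim
      (⟨z, hz, hc⟩ : {x : G // P x ∧ x • c = c})
      fun x => ⟨x.1, x.2.1, (hfix1 z c hz.2 hc huniq x.1 x.2.1 x.2.2).1⟩) fun o o' hoo => ?_
    have h' := congrArg Subtype.val hoo
    rcases o with _ | x <;> rcases o' with _ | y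
    · rfl
    · exact absurd (show (y : G) = z from h'.symm) fun e' => y.2.2.2 (by rw [e', hz.1])
    · exact absurd (show (x : G) = z from h') fun e' => x.2.2.2 (by rw [e', hz.1])
    · exact congrArg some (Subtype.ext h')
  have hftwo : ∀ (z : G) (p q : Ω), z ≠ 1 → p ≠ q → z • p = p → z • q = q → f z ≤ e := by
    intro z p q hz hpq hp hq
    obtain ⟨g, hga, hgb⟩ := exists_smul_pair hZ hab hpq
    have hswap : ∀ x, P x → P (x * z) → x • p = q ∧ x • q = p := by
      intro x hx hxz
      have h3 : ∀ c, z • c = c → c = p ∨ c = q := by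
        intro c hc
        by_contra! hne
        exact hz (eq_one_of_three hZ hpq hne.2.symm hne.1.symm hp hq hc)
      rcases h3 _ (hperm x z hx hxz p hp) with h1 | h1
      · exfalso
        have h2 : x • q = q := by
          rcases h3 _ (hperm x z hx hxz q hq) with h2 | h2
          · exact absurd (MulAction.injective x (h2.trans h1.symm)).symm hpq
          · exact h2
        have hx2 := hord x hx
        have hdvd := Subgroup.orderOf_dvd_natCard (stabilizer G p ⊓ stabilizer G q)
          (mem_pair_stabilizer.2 ⟨h1, h2⟩)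
        rw [hx2, card_pair_eq hZ hab hpq, ← hedef] at hdvd
        obtain ⟨k, hk⟩ := hedd
        omega
      · refine ⟨h1, ?_⟩
        rw [← h1, ← mul_smul, hx.1, one_smul]
    rcases isEmpty_or_nonempty {x : G // P x ∧ P (x * z)} with h' | ⟨⟨x₀⟩⟩
    · simp only [f]; rw [Nat.card_of_isEmpty (α := {x : G // P x ∧ P (x * z)})]; exact Nat.zero_le _
    rw [hedef, ← card_pair_eq hZ hab hpq]
    refine Nat.card_le_card_of_injective (fun x => (⟨x₀.1 * x.1, mem_pair_stabilizer.2 ⟨?_, ?_⟩⟩ :
      ↥(stabilizer G p ⊓ stabilizer G q))) fun x y hxy =>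
        Subtype.ext (mul_left_cancel (congrArg Subtype.val hxy : x₀.1 * x.1 = x₀.1 * y.1))
    · rw [mul_smul, (hswap x.1 x.2.1 x.2.2).1, (hswap x₀.1 x₀.2.1 x₀.2.2).2]
    · rw [mul_smul, (hswap x.1 x.2.1 x.2.2).2, (hswap x₀.1 x₀.2.1 x₀.2.2).1]
  -- the elements with two fixed points
  let T := Finset.univ.filter fun z : G => z ≠ 1 ∧ ∃ p q : Ω, p ≠ q ∧ z • p = p ∧ z • q = q
  have hT : 2 * T.card + n * h ≤ n * h * e := by
    let X := Σ pq : {pq : Ω × Ω // pq.1 ≠ pq.2},
      {z : ↥(stabilizer G pq.1.1 ⊓ stabilizer G pq.1.2) // z ≠ 1}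
    have hX : Nat.card X + n * h = n * h * e := by
      have := Fintype.ofFinite {pq : Ω × Ω // pq.1 ≠ pq.2}
      have hcard : ∀ pq : {pq : Ω × Ω // pq.1 ≠ pq.2},
          Nat.card {z : ↥(stabilizer G pq.1.1 ⊓ stabilizer G pq.1.2) // z ≠ 1} + 1 = e := by
        intro pq
        rw [hedef, ← card_pair_eq hZ hab pq.2, Nat.card_eq_fintype_card,
          Fintype.card_subtype_compl, Fintype.card_subtype_eq, ← Nat.card_eq_fintype_card,
          Nat.sub_add_cancel Nat.card_pos]
      have hpairs : Fintype.card {pq : Ω × Ω // pq.1 ≠ pq.2} = n * h := by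
        have h0 : Fintype.card {pq : Ω × Ω // pq.1 = pq.2} = Fintype.card Ω :=
          Fintype.card_congr
            { toFun := fun x => x.1.1, invFun := fun c => ⟨(c, c), rfl⟩
              left_inv := fun x => Subtype.ext (Prod.ext rfl x.2), right_inv := fun c => rfl }
        rw [Fintype.card_subtype_compl, h0, Fintype.card_prod, ← Nat.card_eq_fintype_card, ← hndef,
          show n * n = n * h + n by rw [← hmn]; ring, Nat.add_sub_cancel]
      rw [Nat.card_sigma, ← hpairs, ← Finset.card_univ, Finset.card_eq_sum_ones,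
        ← Finset.sum_add_distrib, Finset.sum_congr rfl fun pq _ => hcard pq, Finset.sum_const,
        smul_eq_mul, Finset.sum_const, smul_eq_mul, mul_one]
    have h2T : 2 * T.card ≤ Nat.card X := by
      have hch : ∀ z : T, ∃ p q : Ω, p ≠ q ∧ (z : G) • p = p ∧ (z : G) • q = q := fun z =>
        (Finset.mem_filter.1 z.2).2.2
      choose p q hpq hp hq using hch
      rw [two_mul, ← Nat.card_eq_finsetCard, ← Nat.card_sum]
      refine Nat.card_le_card_of_injective (fun s => match s with
        | Sum.inl z => (⟨⟨(p z, q z), hpq z⟩, ⟨(z : G), mem_pair_stabilizer.2 ⟨hp z, hq z⟩⟩,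
            fun e' => (Finset.mem_filter.1 z.2).2.1 (congrArg Subtype.val e')⟩ : X)
        | Sum.inr z => (⟨⟨(q z, p z), (hpq z).symm⟩, ⟨(z : G), mem_pair_stabilizer.2 ⟨hq z, hp z⟩⟩,
            fun e' => (Finset.mem_filter.1 z.2).2.1 (congrArg Subtype.val e')⟩ : X)) ?_
      intro s s' hss
      have hz := congrArg (fun w : X => ((w.2 : ↥(stabilizer G w.1.1.1 ⊓ stabilizer G w.1.1.2)) : G)) hss
      have hp' := congrArg (fun w : X => w.1.1.1) hss
      rcases s with z | z <;> rcases s' with z' | z'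
      · exact congrArg Sum.inl (Subtype.ext hz)
      · obtain rfl : z = z' := Subtype.ext hz
        exact absurd hp' (hpq z)
      · obtain rfl : z = z' := Subtype.ext hz
        exact absurd hp'.symm (hpq z)
      · exact congrArg Sum.inr (Subtype.ext hz)
    omega
  -- the sum over everything
  have htot : ∑ z, f z = n * e * (n * e) := by
    rw [← hI', ← Nat.card_prod]
    simp only [f]
    rw [← Nat.card_sigma]
    exact Nat.card_congr
      { toFun := fun p => (⟨p.2.1, p.2.2.1⟩, ⟨p.2.1 * p.1, p.2.2.2⟩)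
        invFun := fun q => ⟨q.1.1 * q.2.1, q.1.1, q.1.2, by
          rw [← mul_assoc, q.1.2.1, one_mul]; exact q.2.2⟩
        left_inv := fun p => by
          obtain ⟨z, x, hx, hxz⟩ := p
          have e : x * (x * z) = z := by rw [← mul_assoc, hx.1, one_mul]
          exact Sigma.subtype_ext e rfl
        right_inv := fun q => by
          obtain ⟨⟨x, hx⟩, ⟨y, hy⟩⟩ := q
          exact Prod.ext rfl (Subtype.ext (by show x * (x * y) = y; rw [← mul_assoc, hx.1, one_mul])) }
  let F := Finset.univ.filter fun z : G => ∀ c : Ω, z • c ≠ c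
  have hbound : ∀ z, f z ≤ (if z = 1 then n * e else 0) + (if P z then e - 1 else 0) +
      (if z ∈ T then e else 0) + (if z ∈ F then f z else 0) := by
    intro z
    by_cases hz1 : z = 1
    · rw [if_pos hz1, hz1, hf1]; omega
    by_cases hPz : P z
    · have := hfinv z hPz; rw [if_pos hPz]; omega
    by_cases hzF : z ∈ F
    · rw [if_pos hzF]; omega
    by_cases hzT : z ∈ T
    · obtain ⟨-, -, p, q, hpq, hp, hq⟩ := Finset.mem_filter.1 hzT
      have := hftwo z p q hz1 hpq hp hq
      rw [if_pos hzT]; omega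
    obtain ⟨p, hp⟩ : ∃ p : Ω, z • p = p := by
      by_contra! h'
      exact hzF (Finset.mem_filter.2 ⟨Finset.mem_univ _, h'⟩)
    have hf0 : f z = 0 := by
      by_contra hne
      obtain ⟨⟨x, hx, hxz⟩⟩ := (Nat.card_pos_iff.1 (Nat.pos_of_ne_zero hne)).1
      refine hPz ⟨(hfix1 z p hz1 hp (fun c hc => ?_) x hx hxz).2, hz1⟩
      by_contra hne'
      exact hzT (Finset.mem_filter.2 ⟨Finset.mem_univ _, hz1, c, p, hne', hc, hp⟩)
    omega
  have hmain : n * e * (n * e) ≤ n * e + n * e * (e - 1) + T.card * e + ∑ z ∈ F, f z := by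
    rw [← htot]
    refine (Finset.sum_le_sum fun z _ => hbound z).trans (le_of_eq ?_)
    rw [Finset.sum_add_distrib, Finset.sum_add_distrib, Finset.sum_add_distrib,
      Finset.sum_ite_eq' Finset.univ 1 (fun _ => n * e), if_pos (Finset.mem_univ _),
      ← Finset.sum_filter, Finset.sum_const, smul_eq_mul, Finset.sum_ite_mem, Finset.univ_inter,
      Finset.sum_const, smul_eq_mul, Finset.sum_ite_mem, Finset.univ_inter,
      ← Fintype.card_subtype, ← Nat.card_eq_fintype_card, hI']
  -- the fixed-point-free part, by classes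
  have hfconj : ∀ g z, f (g * z * g⁻¹) = f z := by
    intro g z
    refine (Nat.card_congr (Equiv.subtypeEquiv (MulAut.conj g).toEquiv fun x => ?_)).symm
    show P x ∧ P (x * z) ↔ P (g * x * g⁻¹) ∧ P (g * x * g⁻¹ * (g * z * g⁻¹))
    rw [show g * x * g⁻¹ * (g * z * g⁻¹) = g * (x * z) * g⁻¹ by group]
    refine ⟨fun h => ⟨hPconj g _ h.1, hPconj g _ h.2⟩, fun h => ⟨?_, ?_⟩⟩
    · have := hPconj g⁻¹ _ h.1
      simpa [mul_assoc] using this
    · have := hPconj g⁻¹ _ h.2
      simpa [mul_assoc] using this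
  let S := Finset.univ.filter fun C : ConjClasses G =>
    ∀ g : G, ConjClasses.mk g = C → ∀ c : Ω, g • c ≠ c
  have hFS : ∀ z ∈ F, ConjClasses.mk z ∈ S := by
    intro z hz
    refine Finset.mem_filter.2 ⟨Finset.mem_univ _, fun g hg c hc => ?_⟩
    obtain ⟨k, hk⟩ := isConj_iff.1 (ConjClasses.mk_eq_mk_iff_isConj.1 hg)
    refine (Finset.mem_filter.1 hz).2 (k • c) ?_
    rw [← hk, mul_smul, mul_smul, inv_smul_smul, hc]
  have hfle : ∀ z, f z ≤ Nat.card (Subgroup.centralizer ({z} : Set G)) := by
    intro z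
    rcases isEmpty_or_nonempty {x : G // P x ∧ P (x * z)} with h | ⟨⟨x₀⟩⟩
    · simp only [f]; rw [Nat.card_of_isEmpty (α := {x : G // P x ∧ P (x * z)})]; exact Nat.zero_le _
    refine Nat.card_le_card_of_injective (fun x => (⟨x₀.1⁻¹ * x.1, ?_⟩ :
      Subgroup.centralizer ({z} : Set G))) fun x y h => Subtype.ext
      (mul_left_cancel (congrArg Subtype.val h : x₀.1⁻¹ * x.1 = x₀.1⁻¹ * y.1))
    rw [Subgroup.mem_centralizer_singleton_iff]
    have h1 := hsolve _ _ x₀.2.1 x₀.2.2
    have h2 := hsolve _ _ x.2.1 x.2.2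
    calc x₀.1⁻¹ * x.1 * z = x₀.1⁻¹ * (x.1 * z * x.1⁻¹) * x.1 := by group
      _ = x₀.1⁻¹ * (x₀.1 * z * x₀.1⁻¹) * x.1 := by rw [h1, h2]
      _ = z * (x₀.1⁻¹ * x.1) := by group
  have hFsum : ∑ z ∈ F, f z ≤ S.card * Nat.card G := by
    rw [← Finset.sum_fiberwise_of_maps_to hFS f]
    refine (Finset.sum_le_card_nsmul S _ (Nat.card G) fun C hC => ?_).trans (by rw [smul_eq_mul])
    induction C using ConjClasses.mk_surjective.forall.2 with
    | _ z =>
      refine (Finset.sum_le_sum_of_subset (t := Finset.univ.filter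
        fun w : G => ConjClasses.mk w = ConjClasses.mk z) ?_).trans ?_
      · exact Finset.filter_subset_filter _ (Finset.subset_univ _)
      rw [Finset.sum_congr rfl (g := fun _ => f z) fun w hw => by
          obtain ⟨c, hc⟩ := isConj_iff.1
            (ConjClasses.mk_eq_mk_iff_isConj.1 (Finset.mem_filter.1 hw).2).symm
          rw [← hc, hfconj], Finset.sum_const, smul_eq_mul, ← Fintype.card_subtype,
        ← Nat.card_eq_fintype_card,
        Nat.card_congr (Equiv.subtypeEquivRight fun w : G =>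
          (ConjClasses.mk_eq_mk_iff_isConj.trans isConj_comm :
            ConjClasses.mk w = ConjClasses.mk z ↔ IsConj z w)),
        ← Cfsg.Agent.Lib.Characters.Complete.card_conjugates_mul_centralizer z]
      exact Nat.mul_le_mul_left _ (hfle z)
  have hS : Nat.card {C : ConjClasses G // ∀ g : G, ConjClasses.mk g = C → ∀ c : Ω, g • c ≠ c} =
      S.card := by rw [Nat.card_eq_fintype_card, Fintype.card_subtype]
  rw [hS]
  -- arithmetic
  obtain ⟨e', he'⟩ : ∃ e', e = e' + 1 := ⟨e - 1, by have := hedd.pos; omega⟩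
  rw [he'] at hmain hT hG ⊢
  rw [Nat.add_sub_cancel] at hmain
  rw [hG] at hFsum
  have hn0 : 0 < n := by omega
  have h0 : 0 < h := by have := RegKernel.two_le_card hZ hab hU; omega
  by_contra hcon
  have h1 : 2 * S.card ≤ e' := by
    obtain ⟨q, hq⟩ := hedd
    omega
  have h2 := Nat.mul_le_mul_right (e' + 1) hT
  have h3 := Nat.mul_le_mul_right (n * (h * (e' + 1))) h1
  have key : (2 * (n * (e' + 1))) * (n * (e' + 1)) ≤
      (2 * (n * (e' + 1))) * (1 + e' + h * e') := by nlinarith
  have h4 := Nat.le_of_mul_le_mul_left key (by positivity)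
  rw [← hmn] at h4
  nlinarith

omit hab hU in
/-- Burnside's count of the elements without fixed points. -/
theorem two_mul_card_fpf :
    2 * Nat.card {g : G // ∀ c : Ω, g • c ≠ c} + (Nat.card Ω - 1) * (Nat.card Ω - 2) =
      Nat.card G := by
  have := finite_group hZ
  have := Fintype.ofFinite G
  have := Fintype.ofFinite Ω
  have := pretransitive hZ
  obtain ⟨p, q, hpq⟩ : ∃ p q : Ω, p ≠ q := by
    obtain ⟨_, -, p, q, hpq, -⟩ := hZ.2.2.2.1
    exact ⟨p, q, hpq⟩
  have hn2 : 2 ≤ Nat.card Ω := by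
    have : Nontrivial Ω := ⟨p, q, hpq⟩
    exact Finite.one_lt_card
  have : Nonempty Ω := ⟨p⟩
  set π : G → ℤ := fun g => (Nat.card (fixedBy Ω g) : ℤ) with hπ
  have h1 : ∑ g : G, π g = (Nat.card G : ℤ) := by
    have h := Characters.Transitive.sum_permChar (G := G) Ω
    have ho : Nat.card (orbitRel.Quotient G Ω) = 1 := by
      rw [Nat.card_eq_one_iff_unique]
      exact ⟨(pretransitive_iff_subsingleton_quotient G Ω).mp inferInstance,
        Nonempty.map (fun x : Ω => (⟦x⟧ : orbitRel.Quotient G Ω)) inferInstance⟩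
    rw [ho, Nat.cast_one, one_mul] at h
    simp only [Characters.Transitive.permChar] at h
    have h' : ((∑ g : G, π g : ℤ) : ℂ) = ((Nat.card G : ℤ) : ℂ) := by
      push_cast [hπ]; exact h
    exact_mod_cast h'
  have h2 : ∑ g : G, π g * π g = 2 * (Nat.card G : ℤ) := by
    have h := Characters.Transitive.sum_permChar (G := G) (Ω × Ω)
    rw [(Characters.Transitive.card_orbits_prod_eq_two_iff Ω hn2).2 (two_trans hZ)] at h
    simp only [Characters.Transitive.permChar] at h
    have e : ∀ g : G, Nat.card (fixedBy (Ω × Ω) g) = Nat.card (fixedBy Ω g) * Nat.card (fixedBy Ω g) := by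
      intro g
      rw [← Nat.card_prod]
      exact Nat.card_congr
        { toFun := fun a => (⟨a.1.1, congrArg Prod.fst a.2⟩, ⟨a.1.2, congrArg Prod.snd a.2⟩)
          invFun := fun a => ⟨(a.1.1, a.2.1), Prod.ext a.1.2 a.2.2⟩
          left_inv := fun _ => rfl
          right_inv := fun _ => rfl }
    have h' : ((∑ g : G, π g * π g : ℤ) : ℂ) = ((2 * (Nat.card G : ℤ) : ℤ) : ℂ) := by
      push_cast [hπ]
      rw [← Nat.cast_ofNat, ← h]
      exact Finset.sum_congr rfl fun g _ => by rw [e g]; push_cast; rfl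
    exact_mod_cast h'
  let F := Finset.univ.filter fun g : G => ∀ c : Ω, g • c ≠ c
  have hsum : ∑ g : G, (π g - 1) * (π g - 2) = (Nat.card G : ℤ) := by
    rw [Finset.sum_congr rfl (g := fun g => π g * π g - 3 * π g + 2) fun g _ => by ring,
      Finset.sum_add_distrib, Finset.sum_sub_distrib, ← Finset.mul_sum, h1, h2, Finset.sum_const,
      Finset.card_univ, ← Nat.card_eq_fintype_card, nsmul_eq_mul]
    ring
  have hsplit : ∀ g : G, (π g - 1) * (π g - 2) =
      (if g = 1 then ((Nat.card Ω : ℤ) - 1) * ((Nat.card Ω : ℤ) - 2) else 0) +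
        if g ∈ F then 2 else 0 := by
    intro g
    by_cases hg : g = 1
    · subst hg
      rw [if_pos rfl, if_neg (fun h : (1 : G) ∈ F => (Finset.mem_filter.1 (show (1 : G) ∈ Finset.univ.filter (fun g : G => ∀ c : Ω, g • c ≠ c) from h)).2 p (one_smul G p)), add_zero]
      have : Nat.card (fixedBy Ω (1 : G)) = Nat.card Ω :=
        Nat.card_congr (Equiv.subtypeUnivEquiv fun x => one_smul G x)
      simp only [hπ, this]
    rw [if_neg hg, zero_add]
    have hle := card_fixedBy_le hZ (g := g) hg
    by_cases hF : g ∈ F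
    · have : Nat.card (fixedBy Ω g) = 0 := by
        rw [Nat.card_eq_zero]
        exact Or.inl ⟨fun c => (Finset.mem_filter.1 hF).2 c.1 c.2⟩
      rw [if_pos hF]; simp only [hπ, this]; norm_num
    · have hne : Nat.card (fixedBy Ω g) ≠ 0 := by
        intro h0
        rcases Nat.card_eq_zero.1 h0 with h | h
        · exact hF (Finset.mem_filter.2 ⟨Finset.mem_univ _, fun c hc => h.false ⟨c, hc⟩⟩)
        · exact not_finite (fixedBy Ω g)
      rw [if_neg hF]
      rcases (show Nat.card (fixedBy Ω g) = 1 ∨ Nat.card (fixedBy Ω g) = 2 by omega) with h | h <;>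
        (simp only [hπ, h]; norm_num)
  rw [Finset.sum_congr rfl fun g _ => hsplit g, Finset.sum_add_distrib, Finset.sum_ite_eq',
    if_pos (Finset.mem_univ _), Finset.sum_ite_mem, Finset.univ_inter, Finset.sum_const,
    nsmul_eq_mul] at hsum
  rw [Nat.card_eq_fintype_card (α := {g : G // _}), Fintype.card_subtype]
  zify [show 1 ≤ Nat.card Ω by omega, hn2]
  linarith

end Cfsg.Agent.Lib.Zassenhaus
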