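import Cfsg.Agent.Lib.Zassenhaus.Structure

/-!
# Zassenhaus groups with two-point stabilisers of even order

Every pair of points is the fixed-point set of exactly one involution; hence exactly
`(|Ω| - 2) / 2` involutions with two fixed points interchange two given points.
-/

set_option autoImplicit false

namespace Cfsg.Agent.Lib.Zassenhaus

open MulAction
open scoped Pointwise

variable {G Ω : Type*} [Group G] [MulAction G Ω]

theorem card_fixedBy_conj (g i : G) :
    Nat.card (fixedBy Ω (g * i * g⁻¹)) = Nat.card (fixedBy Ω i) := by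
  refine (Nat.card_congr (Equiv.subtypeEquiv (MulAction.toPerm g) fun x => ?_)).symm
  simp [mem_fixedBy, mul_smul]

section

variable [Finite Ω] (hZ : Cfsg.IsZassenhausGroup G Ω) {a b : Ω} (hab : a ≠ b)
  (heven : Even (Nat.card ↥(stabilizer G a ⊓ stabilizer G b)))
include hZ hab heven

theorem even_card : Even (Nat.card Ω) := by
  by_contra h
  exact Nat.not_odd_iff_even.2 heven (odd_card_pair hZ (Nat.not_even_iff_odd.1 h) hab)

/-- The involution fixing a given pair of points. -/
theorem exists_pair_involution {c d : Ω} (hcd : c ≠ d) :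
    ∃ z : G, orderOf z = 2 ∧ fixedBy Ω z = {c, d} := by
  have := finite_group hZ
  have := Fact.mk Nat.prime_two
  obtain ⟨x, hx⟩ := exists_prime_orderOf_dvd_card' 2 heven.two_dvd
  obtain ⟨hxa, hxb⟩ := mem_pair_stabilizer.1 x.2
  obtain ⟨g, hga, hgb⟩ := exists_smul_pair hZ hab hcd
  have hord : orderOf (g * (x : G) * g⁻¹) = 2 := by
    rw [← hx, ← Subgroup.orderOf_coe]
    exact orderOf_injective (MulAut.conj g).toMonoidHom (MulAut.conj g).injective (x : G)
  refine ⟨_, hord, subset_antisymm (fixedBy_subset_pair hZ (fun h => ?_) hcd ?_ ?_) ?_⟩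
  · rw [h, orderOf_one] at hord; omega
  · rw [mul_smul, mul_smul, ← hga, inv_smul_smul, hxa]
  · rw [mul_smul, mul_smul, ← hgb, inv_smul_smul, hxb]
  · rintro e (rfl | rfl)
    · rw [mem_fixedBy, mul_smul, mul_smul, ← hga, inv_smul_smul, hxa]
    · rw [mem_fixedBy, mul_smul, mul_smul, ← hgb, inv_smul_smul, hxb]

/-- Twice the number of involutions with two fixed points interchanging `a` and `b` is `|Ω| - 2`. -/
theorem two_mul_card_swaps :
    2 * Nat.card {i : G // orderOf i = 2 ∧ Nat.card (fixedBy Ω i) = 2 ∧ i • a = b} =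
      Nat.card Ω - 2 := by
  classical
  have := finite_group hZ
  have := Fintype.ofFinite Ω
  let P := {p : Ω × Ω // p.1 ≠ p.2}
  let T := {i : G // orderOf i = 2 ∧ Nat.card (fixedBy Ω i) = 2}
  have hex : ∀ p : P, ∃ t : T, fixedBy Ω (t : G) = {p.1.1, p.1.2} := fun p => by
    obtain ⟨z, hz, hz'⟩ := exists_pair_involution hZ hab heven p.2
    exact ⟨⟨z, hz, by rw [hz', Nat.card_coe_set_eq, Set.ncard_pair p.2]⟩, hz'⟩
  choose f hf using hex
  have huniq : ∀ t : T, ∀ p : P, p.1.1 ∈ fixedBy Ω (t : G) → p.1.2 ∈ fixedBy Ω (t : G) → f p = t := by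
    intro t p h1 h2
    refine Subtype.ext (pair_involution_unique hZ p.2 ?_ (mem_pair_stabilizer.2 ⟨h1, h2⟩) (f p).2.1 t.2.1)
    refine mem_pair_stabilizer.2 ⟨?_, ?_⟩
    · exact mem_fixedBy.1 (by rw [hf p]; exact Set.mem_insert _ _)
    · exact mem_fixedBy.1 (by rw [hf p]; exact Set.mem_insert_of_mem _ rfl)
  -- ordered pairs are twice the involutions with two fixed points
  have hfib : ∀ t : T, Nat.card {p : P // f p = t} = 2 := by
    intro t
    obtain ⟨c, d, hcd, hset⟩ := Set.ncard_eq_two.1 ((Nat.card_coe_set_eq _).symm.trans t.2.2)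
    have hmem : ∀ p : P, f p = t ↔ p.1 = (c, d) ∨ p.1 = (d, c) := by
      intro p
      constructor
      · rintro rfl
        have h1 : p.1.1 ∈ ({c, d} : Set Ω) := by rw [← hset, hf p]; exact Set.mem_insert _ _
        have h2 : p.1.2 ∈ ({c, d} : Set Ω) := by
          rw [← hset, hf p]; exact Set.mem_insert_of_mem _ rfl
        simp only [Set.mem_insert_iff, Set.mem_singleton_iff] at h1 h2
        rcases h1 with h1 | h1 <;> rcases h2 with h2 | h2
        · exact absurd (h1.trans h2.symm) p.2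
        · exact Or.inl (Prod.ext h1 h2)
        · exact Or.inr (Prod.ext h1 h2)
        · exact absurd (h1.trans h2.symm) p.2
      · intro h
        refine huniq t p ?_ ?_ <;> rw [hset] <;> rcases h with h | h <;> simp [h]
    rw [Nat.card_congr ((Equiv.subtypeEquivRight hmem).trans
      (Equiv.subtypeSubtypeEquivSubtype (p := fun q : Ω × Ω => q.1 ≠ q.2)
        (q := fun q => q = (c, d) ∨ q = (d, c)) (fun {q} hq => by
          rcases hq with rfl | rfl
          · exact hcd
          · exact hcd.symm)))]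
    change Nat.card ↥({(c, d), (d, c)} : Set (Ω × Ω)) = 2
    rw [Nat.card_coe_set_eq, Set.ncard_pair]
    simp [hcd]
  have := Fintype.ofFinite T
  have := Fintype.ofFinite P
  have hP : Nat.card P = 2 * Nat.card T := by
    rw [← Nat.card_congr (Equiv.sigmaFiberEquiv f), Nat.card_sigma,
      Finset.sum_congr rfl fun t _ => hfib t, Finset.sum_const, Finset.card_univ, smul_eq_mul,
      Nat.card_eq_fintype_card, mul_comm]
  -- incidences between such involutions and moved points
  let S : P → Type _ := fun p => {i : T // (i : G) • p.1.1 = p.1.2}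
  have hS : ∀ p, Nat.card (S p) =
      Nat.card {i : G // orderOf i = 2 ∧ Nat.card (fixedBy Ω i) = 2 ∧ i • a = b} := by
    intro p
    obtain ⟨g, hga, hgb⟩ := exists_smul_pair hZ p.2 hab
    refine Nat.card_congr ?_
    refine (Equiv.subtypeSubtypeEquivSubtypeInter
      (fun i : G => orderOf i = 2 ∧ Nat.card (fixedBy Ω i) = 2) fun i => i • p.1.1 = p.1.2).trans ?_
    refine Equiv.subtypeEquiv (MulAut.conj g).toEquiv fun i => ?_
    have e : (MulAut.conj g).toEquiv i = g * i * g⁻¹ := rfl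
    rw [e, card_fixedBy_conj, mul_smul, mul_smul, ← hga, ← hgb, inv_smul_smul,
      (MulAction.injective g).eq_iff,
      show orderOf (g * i * g⁻¹) = orderOf i from
        orderOf_injective (MulAut.conj g).toMonoidHom (MulAut.conj g).injective i]
    tauto
  let Φ : (Σ i : T, {x : Ω // (i : G) • x ≠ x}) ≃ Σ p : P, S p :=
    { toFun := fun q => ⟨⟨(q.2.1, (q.1 : G) • q.2.1), Ne.symm q.2.2⟩, q.1, rfl⟩
      invFun := fun q => ⟨q.2.1, q.1.1.1, fun h => q.1.2 (h.symm.trans q.2.2)⟩
      left_inv := fun q => rfl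
      right_inv := fun q => by
        obtain ⟨⟨⟨x, y⟩, hxy⟩, i, hi⟩ := q
        simp only at hi
        subst hi
        rfl }
  have hmov : ∀ i : T, Nat.card {x : Ω // (i : G) • x ≠ x} = Nat.card Ω - 2 := by
    intro i
    rw [Nat.card_eq_fintype_card, Fintype.card_subtype_compl, Nat.card_eq_fintype_card]
    congr 1
    rw [← Nat.card_eq_fintype_card]
    exact i.2.2
  have h1 := Nat.card_congr Φ
  rw [Nat.card_sigma, Nat.card_sigma, Finset.sum_congr rfl fun i _ => hmov i,
    Finset.sum_congr rfl fun p _ => hS p, Finset.sum_const, Finset.sum_const, Finset.card_univ,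
    Finset.card_univ, smul_eq_mul, smul_eq_mul, ← Nat.card_eq_fintype_card,
    ← Nat.card_eq_fintype_card, hP] at h1
  have hT : 0 < Nat.card T := by
    have : Nonempty T := ⟨f ⟨(a, b), hab⟩⟩
    exact Nat.card_pos
  refine Nat.eq_of_mul_eq_mul_left hT ?_
  rw [h1]
  ring

omit hab heven in
theorem swap_of_orderOf_two {i : G} (hi : orderOf i = 2) (hia : i • a = b) : i • b = a := by
  rw [← hia, ← mul_smul, ← pow_two, ← hi, pow_orderOf_eq_one, one_smul]

/-- `|Ω| - 2 ≤ 2 |G_ab|`, and in case of equality every swap is an involution with two fixed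
points inverting the cyclic group `G_ab`. -/
theorem card_le_and_inverted :
    Nat.card Ω - 2 ≤ 2 * Nat.card ↥(stabilizer G a ⊓ stabilizer G b) ∧
      (2 * Nat.card ↥(stabilizer G a ⊓ stabilizer G b) ≤ Nat.card Ω - 2 →
        IsCyclic ↥(stabilizer G a ⊓ stabilizer G b) ∧
        ∀ s : G, s • a = b → s • b = a →
          orderOf s = 2 ∧ Nat.card (fixedBy Ω s) = 2 ∧
            ∀ h ∈ stabilizer G a ⊓ stabilizer G b, s * h * s⁻¹ = h⁻¹) := by
  classical
  have := finite_group hZ
  have hk := two_mul_card_swaps hZ hab heven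
  obtain ⟨t₀, -, h0a, h0b⟩ := exists_swap hZ hab
  let A := {i : G // orderOf i = 2 ∧ Nat.card (fixedBy Ω i) = 2 ∧ i • a = b}
  let emb : A → ↥(stabilizer G a ⊓ stabilizer G b) := fun i =>
    ⟨t₀⁻¹ * i.1, mem_pair_stabilizer.2
      ⟨by rw [mul_smul, i.2.2.2, inv_smul_eq_iff, h0a],
       by rw [mul_smul, swap_of_orderOf_two hZ i.2.1 i.2.2.2, inv_smul_eq_iff, h0b]⟩⟩
  have hemb : Function.Injective emb := fun i j h =>
    Subtype.ext (mul_left_cancel (congrArg Subtype.val h : t₀⁻¹ * i.1 = t₀⁻¹ * j.1))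
  have hle := Nat.card_le_card_of_injective emb hemb
  refine ⟨by change 2 * Nat.card A = _ at hk; omega, fun h2 => ?_⟩
  have hbij : Function.Bijective emb := by
    have := Fintype.ofFinite A
    have := Fintype.ofFinite ↥(stabilizer G a ⊓ stabilizer G b)
    rw [Fintype.bijective_iff_injective_and_card]
    refine ⟨hemb, ?_⟩
    rw [← Nat.card_eq_fintype_card, ← Nat.card_eq_fintype_card]
    change 2 * Nat.card A = _ at hk
    omega
  have hswap : ∀ s : G, s • a = b → s • b = a → orderOf s = 2 ∧ Nat.card (fixedBy Ω s) = 2 := by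
    intro s hsa hsb
    obtain ⟨i, hi⟩ := hbij.2 ⟨t₀⁻¹ * s, mem_pair_stabilizer.2
      ⟨by rw [mul_smul, hsa, inv_smul_eq_iff, h0a], by rw [mul_smul, hsb, inv_smul_eq_iff, h0b]⟩⟩
    have : i.1 = s := mul_left_cancel (congrArg Subtype.val hi : t₀⁻¹ * i.1 = t₀⁻¹ * s)
    exact this ▸ ⟨i.2.1, i.2.2.1⟩
  have hinv : ∀ s : G, s • a = b → s • b = a → ∀ h ∈ stabilizer G a ⊓ stabilizer G b,
      s * h * s⁻¹ = h⁻¹ := by
    intro s hsa hsb h hh
    obtain ⟨hha, hhb⟩ := mem_pair_stabilizer.1 hh
    have h1 := (hswap (s * h) (by rw [mul_smul, hha, hsa]) (by rw [mul_smul, hhb, hsb])).1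
    have h3 := (hswap s hsa hsb).1
    have e1 : s * h * (s * h) = 1 := by rw [← pow_two, ← h1, pow_orderOf_eq_one]
    have e2 : s * s = 1 := by rw [← pow_two, ← h3, pow_orderOf_eq_one]
    rw [inv_eq_of_mul_eq_one_right e2, eq_inv_iff_mul_eq_one]
    rw [← mul_assoc] at e1
    exact e1
  refine ⟨pair_isCyclic_of_comm hZ hab fun x y => Subtype.ext ?_,
    fun s hsa hsb => ⟨(hswap s hsa hsb).1, (hswap s hsa hsb).2, hinv s hsa hsb⟩⟩
  -- inversion is an automorphism only of a commutative group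
  have hx := hinv t₀ h0a h0b _ x.2
  have hy := hinv t₀ h0a h0b _ y.2
  have hxy := hinv t₀ h0a h0b _ (mul_mem y.2 x.2)
  have : (x : G)⁻¹ * (y : G)⁻¹ = ((x : G) * y)⁻¹⁻¹⁻¹ := by
    rw [inv_inv, ← hx, ← hy]
    have h4 := hinv t₀ h0a h0b _ (mul_mem x.2 y.2)
    rw [← h4]
    group
  rw [inv_inv, mul_inv_rev] at this
  change (x : G) * y = y * x
  calc (x : G) * y = ((y : G)⁻¹ * (x : G)⁻¹)⁻¹ := by group
    _ = ((x : G)⁻¹ * (y : G)⁻¹)⁻¹ := by rw [this]
    _ = y * x := by group

end

end Cfsg.Agent.Lib.Zassenhaus
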