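import Cfsg.Prelude.Def_LieExceptional
import Cfsg.Agent.Lib.Perm.Basic

/-!
# Elementary theory of Zassenhaus groups

`hZ : Cfsg.IsZassenhausGroup G Ω` throughout. `stabilizer G a ⊓ stabilizer G b` is the two-point
stabiliser.
-/

set_option autoImplicit false
set_option linter.unusedSectionVars false

namespace Cfsg.Agent.Lib.Zassenhaus

open MulAction
open scoped Pointwise

variable {G Ω : Type*} [Group G] [MulAction G Ω]

theorem mem_pair_stabilizer {a b : Ω} {g : G} :
    g ∈ stabilizer G a ⊓ stabilizer G b ↔ g • a = a ∧ g • b = b := by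
  simp [Subgroup.mem_inf]

section

variable (hZ : Cfsg.IsZassenhausGroup G Ω)
include hZ

theorem faithful : FaithfulSMul G Ω := hZ.1

theorem two_trans : IsMultiplyPretransitive G Ω 2 := hZ.2.1

theorem eq_one_of_three {g : G} {a b c : Ω} (hab : a ≠ b) (hbc : b ≠ c) (hac : a ≠ c)
    (ha : g • a = a) (hb : g • b = b) (hc : g • c = c) : g = 1 :=
  hZ.2.2.1 g a b c hab hbc hac ha hb hc

theorem exists_smul_pair {a b c d : Ω} (hab : a ≠ b) (hcd : c ≠ d) :
    ∃ g : G, g • a = c ∧ g • b = d :=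
  is_two_pretransitive_iff.1 (two_trans hZ) hab hcd

theorem pretransitive : IsPretransitive G Ω :=
  have := two_trans hZ
  isPretransitive_of_is_two_pretransitive

/-- Two-point stabilisers are non-trivial. -/
theorem exists_fix_pair {a b : Ω} (hab : a ≠ b) : ∃ g : G, g ≠ 1 ∧ g • a = a ∧ g • b = b := by
  obtain ⟨g, hg, c, d, hcd, hc, hd⟩ := hZ.2.2.2.1
  obtain ⟨x, hx, hy⟩ := exists_smul_pair hZ hcd hab
  refine ⟨x * g * x⁻¹, fun h => hg ?_, ?_, ?_⟩
  · rwa [mul_inv_eq_one, mul_eq_left] at h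
  · rw [mul_smul, mul_smul, ← hx, inv_smul_smul, hc]
  · rw [mul_smul, mul_smul, ← hy, inv_smul_smul, hd]

theorem pair_ne_bot {a b : Ω} (hab : a ≠ b) : stabilizer G a ⊓ stabilizer G b ≠ ⊥ := by
  obtain ⟨g, hg, ha, hb⟩ := exists_fix_pair hZ hab
  exact fun h => hg ((Subgroup.eq_bot_iff_forall _).1 h g (mem_pair_stabilizer.2 ⟨ha, hb⟩))

theorem exists_third (a b : Ω) : ∃ c : Ω, c ≠ a ∧ c ≠ b := by
  obtain ⟨g, hg, c, d, hcd, hc, hd⟩ := hZ.2.2.2.1
  have := faithful hZ
  obtain ⟨e, he⟩ : ∃ e : Ω, g • e ≠ e := by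
    by_contra! h
    exact hg (eq_of_smul_eq_smul fun e => by rw [h e, one_smul])
  have hec : e ≠ c := fun h => he (h ▸ hc)
  have hed : e ≠ d := fun h => he (h ▸ hd)
  by_contra! h
  have key : ∀ z : Ω, z = a ∨ z = b := fun z => or_iff_not_imp_left.2 (h z)
  rcases key c with rfl | rfl <;> rcases key d with rfl | rfl <;> rcases key e with rfl | rfl <;>
    first | exact absurd rfl hcd | exact absurd rfl hec | exact absurd rfl hed

theorem finite_group [Finite Ω] : Finite G := by
  have := faithful hZ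
  exact Finite.of_injective (fun g : G => (fun w : Ω => g • w))
    fun g g' h => eq_of_smul_eq_smul fun w => congrFun h w

/-- A subgroup of `G_a` normalised by `G_a` and containing an element `≠ 1` with a second fixed
point is transitive on the points other than `a`. -/
theorem transitive_rest [Finite Ω] {a b : Ω} {L : Subgroup G} (hLa : L ≤ stabilizer G a)
    (hnorm : ∀ g : G, g • a = a → ∀ x ∈ L, g * x * g⁻¹ ∈ L)
    (hba : b ≠ a) {l : G} (hl : l ∈ L) (hl1 : l ≠ 1) (hlb : l • b = b)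
    {c d : Ω} (hc : c ≠ a) (hd : d ≠ a) : ∃ x ∈ L, x • c = d := by
  classical
  have := finite_group hZ
  have := Fintype.ofFinite Ω
  by_contra hne
  -- conjugation carries the orbit and the stabiliser of `b` to those of any `z ≠ a`
  have hconj : ∀ z : Ω, z ≠ a → Nat.card (orbit L z) = Nat.card (orbit L b) ∧
      Nat.card (stabilizer L z) = Nat.card (stabilizer L b) := by
    intro z hz
    obtain ⟨g, hga, hgb⟩ := exists_smul_pair hZ (Ne.symm hba) (Ne.symm hz)
    have hga' : g⁻¹ • a = a := by rw [inv_smul_eq_iff, hga]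
    have h1 : Nat.card (orbit L z) = Nat.card (orbit L b) := by
      have e : orbit L z = (fun w => g • w) '' orbit L b := by
        ext w
        constructor
        · rintro ⟨x, rfl⟩
          refine ⟨(g⁻¹ * x * g) • b, ⟨⟨g⁻¹ * x * g, ?_⟩, rfl⟩, ?_⟩
          · simpa using hnorm g⁻¹ hga' x x.2
          · simp [mul_smul, hgb, Subgroup.smul_def]
        · rintro ⟨_, ⟨x, rfl⟩, rfl⟩
          refine ⟨⟨g * x * g⁻¹, hnorm g hga x x.2⟩, ?_⟩
          simp [mul_smul, ← hgb, Subgroup.smul_def]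
      rw [e, Nat.card_image_of_injective (MulAction.injective g)]
    refine ⟨h1, ?_⟩
    have h3 := Nat.card_congr (orbitProdStabilizerEquivGroup L z)
    have h4 := Nat.card_congr (orbitProdStabilizerEquivGroup L b)
    rw [Nat.card_prod] at h3 h4
    rw [h1] at h3
    have hpos : 0 < Nat.card (orbit L b) :=
      have : Nonempty (orbit L b) := ⟨⟨b, mem_orbit_self b⟩⟩
      Nat.card_pos
    exact Nat.eq_of_mul_eq_mul_left hpos (h3.trans h4.symm)
  have hpt : ∀ z : Ω, z ≠ a → ∀ x : L, x • z ≠ a := fun z hz x h =>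
    hz (MulAction.injective (x : G) (h.trans (mem_stabilizer_iff.1 (hLa x.2)).symm))
  set k := Nat.card (orbit L b)
  set e := Nat.card (stabilizer L b)
  have hk : k * e = Nat.card L := by
    rw [← Nat.card_prod]; exact Nat.card_congr (orbitProdStabilizerEquivGroup L b)
  -- there are two disjoint orbits
  have htwo : k + k ≤ Nat.card {z : Ω // z ≠ a} := by
    have hdis : ∀ w, w ∈ orbit L c → w ∉ orbit L d := by
      intro w hw hw'
      have hdc : orbit L d = orbit L c := (orbit_eq_iff.2 hw').symm.trans (orbit_eq_iff.2 hw)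
      have hd' : d ∈ orbit L c := hdc ▸ mem_orbit_self d
      obtain ⟨x, hx⟩ := hd'
      exact hne ⟨x, x.2, hx⟩
    have hs : ∀ w, w ∈ orbit L c ∪ orbit L d → w ≠ a := by
      rintro w (⟨x, rfl⟩ | ⟨x, rfl⟩)
      · exact hpt c hc x
      · exact hpt d hd x
    have hcard : (orbit L c ∪ orbit L d).ncard ≤ {z : Ω | z ≠ a}.ncard :=
      Set.ncard_le_ncard hs (Set.toFinite _)
    rw [Set.ncard_union_eq (Set.disjoint_left.2 hdis) (Set.toFinite _) (Set.toFinite _)] at hcard
    simp only [← Nat.card_coe_set_eq] at hcard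
    rw [(hconj c hc).1, (hconj d hd).1] at hcard
    exact hcard
  -- the non-identity elements with a second fixed point
  have hcount : Nat.card {z : Ω // z ≠ a} * (e - 1) ≤ Nat.card L - 1 := by
    have hsub : ∀ z : {z : Ω // z ≠ a}, Nat.card {x : stabilizer L z.1 // x ≠ 1} = e - 1 := by
      intro z
      rw [← show Nat.card (stabilizer L z.1) = e from (hconj z.1 z.2).2]
      have := Fintype.ofFinite (stabilizer L z.1)
      rw [Nat.card_eq_fintype_card, Nat.card_eq_fintype_card, Fintype.card_subtype_compl,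
        Fintype.card_subtype_eq]
    let f : (Σ z : {z : Ω // z ≠ a}, {x : stabilizer L z.1 // x ≠ 1}) → {x : L // x ≠ 1} :=
      fun p => ⟨p.2.1.1, fun h => p.2.2 (Subtype.ext h)⟩
    have hf : Function.Injective f := by
      rintro ⟨⟨z, hz⟩, ⟨⟨x, hx⟩, hx1⟩⟩ ⟨⟨z', hz'⟩, ⟨⟨x', hx'⟩, hx1'⟩⟩ h
      have hxx : x = x' := congrArg Subtype.val h
      subst hxx
      have hzz : z = z' := by
        by_contra hzz
        exact hx1 (Subtype.ext (Subtype.ext (eq_one_of_three hZ (Ne.symm hz) hzz (Ne.symm hz')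
          (hLa x.2) hx hx')))
      subst hzz
      rfl
    have hle := Nat.card_le_card_of_injective f hf
    have := Fintype.ofFinite L
    rw [Nat.card_sigma, Finset.sum_congr rfl fun z _ => hsub z, Finset.sum_const, smul_eq_mul,
      Finset.card_univ, ← Nat.card_eq_fintype_card] at hle
    simpa [Nat.card_eq_fintype_card, Fintype.card_subtype_compl] using hle
  have he : 2 ≤ e := by
    have hmem : (⟨l, hl⟩ : L) ∈ stabilizer L b := mem_stabilizer_iff.2 hlb
    have : Nontrivial (stabilizer L b) :=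
      ⟨⟨⟨l, hl⟩, hmem⟩, 1, fun h => hl1 (by simpa [Subtype.ext_iff] using h)⟩
    exact Finite.one_lt_card
  have hLpos : 0 < Nat.card L := Nat.card_pos
  have h5 : (k + k) * (e - 1) ≤ k * e - 1 := by
    rw [hk]
    exact (Nat.mul_le_mul_right (e - 1) htwo).trans hcount
  have h6 : 0 < k * e := hk ▸ hLpos
  obtain ⟨e', he'⟩ : ∃ e', e = e' + 2 := ⟨e - 2, by omega⟩
  rw [he'] at h5 h6
  simp only [Nat.add_sub_cancel, show e' + 2 - 1 = e' + 1 by omega] at h5
  have h7 : (k + k) * (e' + 1) = k * (e' + 2) + k * e' := by ring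
  omega

/-- A subgroup of `G_a` normalised by `G_a` and containing the two-point stabiliser is `G_a`. -/
theorem eq_stabilizer_of_pair_le [Finite Ω] {a b : Ω} (hab : a ≠ b) {L : Subgroup G}
    (hLa : L ≤ stabilizer G a) (hnorm : ∀ g : G, g • a = a → ∀ x ∈ L, g * x * g⁻¹ ∈ L)
    (hD : stabilizer G a ⊓ stabilizer G b ≤ L) : L = stabilizer G a := by
  refine le_antisymm hLa fun g hg => ?_
  obtain ⟨l, hl1, hla, hlb⟩ := exists_fix_pair hZ hab
  have hgb : g • b ≠ a := fun h => hab (MulAction.injective g ((mem_stabilizer_iff.1 hg).trans h.symm))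
  obtain ⟨x, hx, hxb⟩ := transitive_rest hZ hLa hnorm hab.symm
    (hD (mem_pair_stabilizer.2 ⟨hla, hlb⟩)) hl1 hlb hab.symm hgb
  have : x⁻¹ * g ∈ L := hD (mem_pair_stabilizer.2 ⟨by
    rw [mul_smul, mem_stabilizer_iff.1 hg, inv_smul_eq_iff, mem_stabilizer_iff.1 (hLa hx)],
    by rw [mul_smul, ← hxb, inv_smul_smul]⟩)
  simpa using L.mul_mem hx this

theorem normal_transitive (N : Subgroup G) [hN : N.Normal] (hne : N ≠ ⊥) :
    IsPretransitive N Ω := by
  have := faithful hZ
  have := two_trans hZ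
  have : IsPreprimitive G Ω := isPreprimitive_of_is_two_pretransitive this
  exact Cfsg.Agent.Lib.Perm.Basic.isPretransitive_of_normal_ne_bot N hne

/-- A normal subgroup containing an element `≠ 1` with two fixed points is doubly transitive. -/
theorem normal_two_trans [Finite Ω] (N : Subgroup G) [hN : N.Normal] {a b : Ω} (hab : a ≠ b)
    {l : G} (hl : l ∈ N) (hl1 : l ≠ 1) (hla : l • a = a) (hlb : l • b = b) :
    IsMultiplyPretransitive N Ω 2 := by
  have := normal_transitive hZ N (fun h => hl1 ((Subgroup.eq_bot_iff_forall N).1 h l hl))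
  have key : ∀ c d : Ω, c ≠ d → ∃ x : N, x • a = c ∧ x • b = d := by
    intro c d hcd
    obtain ⟨x, hx⟩ := exists_smul_eq N a c
    have hd : x⁻¹ • d ≠ a := fun h => hcd (by rw [← hx, ← h, smul_inv_smul])
    obtain ⟨y, hy, hyb⟩ := transitive_rest hZ (L := N ⊓ stabilizer G a) inf_le_right
      (fun g hg z hz => ⟨hN.conj_mem z hz.1 g, by
        show (g * z * g⁻¹) • a = a
        rw [mul_smul, mul_smul, inv_smul_eq_iff.2 hg.symm, mem_stabilizer_iff.1 hz.2, hg]⟩)
      hab.symm (l := l) ⟨hl, hla⟩ hl1 hlb hab.symm hd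
    refine ⟨x * ⟨y, hy.1⟩, ?_, ?_⟩
    · rw [mul_smul, show (⟨y, hy.1⟩ : N) • a = a from mem_stabilizer_iff.1 hy.2, hx]
    · rw [mul_smul, show (⟨y, hy.1⟩ : N) • b = x⁻¹ • d from hyb, smul_inv_smul]
  rw [is_two_pretransitive_iff]
  intro c d c' d' hcd hcd'
  obtain ⟨x, hxa, hxb⟩ := key c d hcd
  obtain ⟨y, hya, hyb⟩ := key c' d' hcd'
  exact ⟨y * x⁻¹, by rw [mul_smul, ← hxa, inv_smul_smul, hya],
    by rw [mul_smul, ← hxb, inv_smul_smul, hyb]⟩

/-- A normal subgroup containing a whole two-point stabiliser is everything. -/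
theorem normal_eq_top [Finite Ω] (N : Subgroup G) [hN : N.Normal] {a b : Ω} (hab : a ≠ b)
    (hD : stabilizer G a ⊓ stabilizer G b ≤ N) : N = ⊤ := by
  obtain ⟨l, hl1, hla, hlb⟩ := exists_fix_pair hZ hab
  have := normal_transitive hZ N
    (fun h => hl1 ((Subgroup.eq_bot_iff_forall N).1 h l (hD (mem_pair_stabilizer.2 ⟨hla, hlb⟩))))
  refine Cfsg.Agent.Lib.Perm.Basic.eq_top_of_transitive_of_stabilizer_le N (a := a) ?_
  have := eq_stabilizer_of_pair_le hZ hab (L := N ⊓ stabilizer G a) inf_le_right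
    (fun g hg z hz => ⟨hN.conj_mem z hz.1 g, by
      show (g * z * g⁻¹) • a = a
      rw [mul_smul, mul_smul, inv_smul_eq_iff.2 hg.symm, mem_stabilizer_iff.1 hz.2, hg]⟩)
    (le_inf hD inf_le_left)
  exact this ▸ inf_le_left

/-- A subgroup stable under conjugation and containing an involution contains an involution
interchanging two given points. -/
theorem exists_swap_mem (N : Subgroup G) [hN : N.Normal] {i : G} (hi : i ∈ N) (hi2 : orderOf i = 2)
    {a b : Ω} (hab : a ≠ b) : ∃ t ∈ N, orderOf t = 2 ∧ t • a = b ∧ t • b = a := by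
  have := faithful hZ
  obtain ⟨c, hc⟩ : ∃ c : Ω, i • c ≠ c := by
    by_contra! h
    have h1 : i = 1 := eq_of_smul_eq_smul fun e => by rw [h e, one_smul]
    rw [h1, orderOf_one] at hi2
    omega
  have hii : i • i • c = c := by
    rw [← mul_smul, ← pow_two, ← hi2, pow_orderOf_eq_one, one_smul]
  obtain ⟨g, hga, hgb⟩ := exists_smul_pair hZ (Ne.symm hc) hab
  refine ⟨g * i * g⁻¹, hN.conj_mem i hi g, ?_, ?_, ?_⟩
  · rw [← hi2]
    exact orderOf_injective (MulAut.conj g).toMonoidHom (MulAut.conj g).injective i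
  · rw [mul_smul, mul_smul, ← hga, inv_smul_smul, hgb]
  · rw [mul_smul, mul_smul, ← hgb, inv_smul_smul, hii, hga]

theorem exists_swap [Finite Ω] {a b : Ω} (hab : a ≠ b) :
    ∃ t : G, orderOf t = 2 ∧ t • a = b ∧ t • b = a := by
  have := finite_group hZ
  obtain ⟨g, hga, hgb⟩ := exists_smul_pair hZ hab hab.symm
  have heven : ¬ Odd (orderOf g) := by
    rintro ⟨k, hk⟩
    have h1 : ∀ j : ℕ, g ^ (2 * j + 1) • a = b ∧ g ^ (2 * j + 1) • b = a := by
      intro j
      induction j with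
      | zero => simp [hga, hgb]
      | succ j ih =>
        rw [show 2 * (j + 1) + 1 = 2 * j + 1 + 1 + 1 by ring, pow_succ, pow_succ, mul_smul,
          mul_smul, mul_smul, mul_smul, hga, hgb, hga]
        exact ih
    have := (h1 k).1
    rw [← hk, pow_orderOf_eq_one, one_smul] at this
    exact hab this
  obtain ⟨k, hk⟩ := (Nat.not_odd_iff_even.1 heven).two_dvd
  have hk0 : k ≠ 0 := fun h => (orderOf_pos g).ne' (by rw [hk, h, mul_zero])
  obtain ⟨t, -, ht⟩ := exists_swap_mem hZ (⊤ : Subgroup G) (i := g ^ k) (Subgroup.mem_top _)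
    (by rw [orderOf_pow_of_dvd hk0 ⟨2, by rw [hk]; ring⟩, hk, Nat.mul_div_cancel _ (by omega)]) hab
  exact ⟨t, ht⟩

theorem fixedBy_subset_pair {g : G} (hg : g ≠ 1) {a b : Ω} (hab : a ≠ b) (ha : g • a = a)
    (hb : g • b = b) : fixedBy Ω g ⊆ {a, b} := by
  intro c hc
  by_contra h
  simp only [Set.mem_insert_iff, Set.mem_singleton_iff, not_or] at h
  exact hg (eq_one_of_three hZ hab (Ne.symm h.2) (Ne.symm h.1) ha hb hc)

theorem card_fixedBy_le [Finite Ω] {g : G} (hg : g ≠ 1) : Nat.card (fixedBy Ω g) ≤ 2 := by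
  by_contra! h
  rw [Nat.card_coe_set_eq] at h
  obtain ⟨a, ha, b, hb, hab⟩ := (Set.one_lt_ncard (Set.toFinite _)).1 (Nat.lt_of_succ_lt h)
  have := (Set.ncard_le_ncard (fixedBy_subset_pair hZ hg hab ha hb) (Set.toFinite _)).trans
    (Set.ncard_pair hab).le
  omega

omit hZ in
theorem card_fixedBy_mod_two [Finite Ω] {t : G} (ht : orderOf t = 2) :
    Nat.card (fixedBy Ω t) % 2 = Nat.card Ω % 2 := by
  classical
  have := Fintype.ofFinite Ω
  have := Fact.mk Nat.prime_two
  have h : (MulAction.toEndHom (M := G) (α := Ω) t) ^ (2 ^ 1) = 1 := by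
    rw [← map_pow, pow_one, ← ht, pow_orderOf_eq_one, map_one]
  have := Equiv.Perm.card_fixedPoints_modEq h
  rw [Nat.card_eq_fintype_card (α := Ω)]
  refine Eq.trans ?_ this.symm
  congr 1
  rw [← Nat.card_eq_fintype_card]
  rfl

/-- In odd degree an involution has exactly one fixed point. -/
theorem existsUnique_fixed_of_odd [Finite Ω] (hodd : Odd (Nat.card Ω)) {t : G}
    (ht : orderOf t = 2) : ∃! c : Ω, t • c = c := by
  have h1 := card_fixedBy_le hZ (g := t) (fun h => by rw [h, orderOf_one] at ht; omega)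
  have h2 := card_fixedBy_mod_two (Ω := Ω) ht
  rw [Nat.odd_iff.1 hodd] at h2
  have h3 : Nat.card (fixedBy Ω t) = 1 := by omega
  rw [Nat.card_coe_set_eq, Set.ncard_eq_one] at h3
  obtain ⟨c, hc⟩ := h3
  have hmem : ∀ d : Ω, t • d = d ↔ d = c := fun d => by
    rw [← mem_fixedBy, hc, Set.mem_singleton_iff]
  exact ⟨c, (hmem c).2 rfl, fun d hd => (hmem d).1 hd⟩

/-- In odd degree the two-point stabilisers have odd order. -/
theorem odd_card_pair [Finite Ω] (hodd : Odd (Nat.card Ω)) {a b : Ω} (hab : a ≠ b) :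
    Odd (Nat.card ↥(stabilizer G a ⊓ stabilizer G b)) := by
  have := finite_group hZ
  have := Fact.mk Nat.prime_two
  by_contra h
  obtain ⟨x, hx⟩ := exists_prime_orderOf_dvd_card' 2 (Nat.not_odd_iff_even.1 h).two_dvd
  obtain ⟨ha, hb⟩ := mem_pair_stabilizer.1 x.2
  exact hab ((existsUnique_fixed_of_odd hZ hodd (t := (x : G))
    (by rw [Subgroup.orderOf_coe, hx])).unique ha hb)

/-- An involution interchanging `a`, `b` with a fixed point inverts the two-point stabiliser. -/
theorem swap_inverts [Finite Ω] {a b c : Ω} (hab : a ≠ b) {t : G} (ht : orderOf t = 2)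
    (hta : t • a = b) (htb : t • b = a) (htc : t • c = c)
    (huniq : ∀ z, t • z = z → z = c) {d : G} (hd : d ∈ stabilizer G a ⊓ stabilizer G b) :
    t * d * t⁻¹ = d⁻¹ := by
  have := finite_group hZ
  set D := stabilizer G a ⊓ stabilizer G b
  have htt : t * t = 1 := by rw [← pow_two, ← ht, pow_orderOf_eq_one]
  have hti : t⁻¹ = t := inv_eq_of_mul_eq_one_right htt
  have hconj : ∀ x ∈ D, t * x * t⁻¹ ∈ D := by
    intro x hx
    obtain ⟨hxa, hxb⟩ := mem_pair_stabilizer.1 hx
    rw [hti]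
    exact mem_pair_stabilizer.2 ⟨by rw [mul_smul, mul_smul, hta, hxb, htb],
      by rw [mul_smul, mul_smul, htb, hxa, hta]⟩
  let f : D → D := fun x => ⟨(x : G)⁻¹ * (t * x * t⁻¹), mul_mem (inv_mem x.2) (hconj x x.2)⟩
  have hfix : ∀ x ∈ D, t * x * t⁻¹ = x → x = 1 := by
    intro x hx he
    have hc : t • x • c = x • c := by
      rw [← mul_smul, show t * x = x * t from mul_inv_eq_iff_eq_mul.1 he, mul_smul, htc]
    obtain ⟨hxa, hxb⟩ := mem_pair_stabilizer.1 hx
    exact eq_one_of_three hZ hab (fun h => hab (by rw [← htb, h, htc])) (fun h => hab (by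
      rw [← hta, h, htc])) hxa hxb (huniq _ hc)
  have hf : Function.Injective f := by
    intro x y h
    have h' : (x : G)⁻¹ * (t * x * t⁻¹) = (y : G)⁻¹ * (t * y * t⁻¹) := congrArg Subtype.val h
    have : t * ((y : G) * (x : G)⁻¹) * t⁻¹ = y * (x : G)⁻¹ := by
      calc t * ((y : G) * (x : G)⁻¹) * t⁻¹
          = y * ((y : G)⁻¹ * (t * y * t⁻¹)) * (t * x * t⁻¹)⁻¹ := by group
        _ = y * ((x : G)⁻¹ * (t * x * t⁻¹)) * (t * x * t⁻¹)⁻¹ := by rw [h']
        _ = _ := by group
    exact Subtype.ext (mul_inv_eq_one.1 (hfix _ (mul_mem y.2 (inv_mem x.2)) this)).symm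
  obtain ⟨x, hx⟩ := (Finite.injective_iff_surjective.1 hf) ⟨d, hd⟩
  have hx' : (x : G)⁻¹ * (t * x * t⁻¹) = d := congrArg Subtype.val hx
  rw [← hx']
  simp only [hti, mul_inv_rev, inv_inv]
  calc t * ((x : G)⁻¹ * (t * x * t)) * t = t * (x : G)⁻¹ * t * x * (t * t) := by group
    _ = t * ((x : G)⁻¹ * t) * x := by rw [htt, mul_one, mul_assoc t]

/-- In odd degree a normal subgroup of even order is everything. -/
theorem normal_eq_top_of_involution [Finite Ω] (hodd : Odd (Nat.card Ω)) (N : Subgroup G)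
    [hN : N.Normal] {i : G} (hi : i ∈ N) (hi2 : orderOf i = 2) {a b : Ω} (hab : a ≠ b) :
    N = ⊤ := by
  have := finite_group hZ
  refine normal_eq_top hZ N hab fun d hd => ?_
  obtain ⟨t, htN, ht, hta, htb⟩ := exists_swap_mem hZ N hi hi2 hab
  obtain ⟨c, hc, huniq⟩ := existsUnique_fixed_of_odd hZ hodd ht
  have h := swap_inverts hZ hab ht hta htb hc huniq hd
  -- `[t, d⁻¹]` lies in `N` and equals `d * d`
  have hmem : d * d ∈ N := by
    have h1 := mul_mem htN (hN.conj_mem t⁻¹ (inv_mem htN) d⁻¹)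
    have e : t * (d⁻¹ * t⁻¹ * d⁻¹⁻¹) = (t * d * t⁻¹)⁻¹ * d := by group
    rw [e, h, inv_inv] at h1
    exact h1
  obtain ⟨k, hk⟩ := odd_card_pair hZ hodd hab
  have hord : (d ^ 2) ^ (k + 1) = d := by
    have h2 : d ^ (2 * k + 1) = 1 := by
      rw [← hk]
      exact congrArg Subtype.val (pow_card_eq_one' (x := (⟨d, hd⟩ : ↥(stabilizer G a ⊓ stabilizer G b))))
    rw [← pow_mul, show 2 * (k + 1) = 2 * k + 1 + 1 by ring, pow_succ, h2, one_mul]
  rw [← hord, pow_two]
  exact pow_mem hmem _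

end

end Cfsg.Agent.Lib.Zassenhaus
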