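import Cfsg.Agent.Lib.Zassenhaus.EvenPair
import Cfsg.Agent.Lib.Involutions.IndexTwo
import Mathlib.GroupTheory.Perm.Cycle.Type
import Mathlib.GroupTheory.Subgroup.Simple

/-!
# Simple Zassenhaus groups with `|G_ab| = |Ω| - 2` even, I

The elements interchanging `a` and `b` and fixing two points form one conjugacy class of `G_ab`;
transfer from the setwise stabiliser of `{a, b}` shows that `G_ab` has no subgroup of index two.
-/

set_option autoImplicit false

namespace Cfsg.Agent.Lib.Zassenhaus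

open MulAction

variable {G Ω : Type*} [Group G] [MulAction G Ω]

theorem orderOf_conj' (g x : G) : orderOf (g * x * g⁻¹) = orderOf x :=
  orderOf_injective (MulAut.conj g).toMonoidHom (MulAut.conj g).injective x

/-- The setwise stabiliser of a pair. -/
def setPair (a b : Ω) : Subgroup G where
  carrier := {g | (g • a = a ∧ g • b = b) ∨ (g • a = b ∧ g • b = a)}
  one_mem' := Or.inl ⟨one_smul G a, one_smul G b⟩
  mul_mem' := by
    rintro g h (⟨h1, h2⟩ | ⟨h1, h2⟩) (⟨h3, h4⟩ | ⟨h3, h4⟩) <;>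
      simp [mul_smul, h1, h2, h3, h4]
  inv_mem' := by
    rintro g (⟨h1, h2⟩ | ⟨h1, h2⟩)
    · exact Or.inl ⟨inv_smul_eq_iff.2 h1.symm, inv_smul_eq_iff.2 h2.symm⟩
    · exact Or.inr ⟨inv_smul_eq_iff.2 h2.symm, inv_smul_eq_iff.2 h1.symm⟩

/-- A simple group with a doubly transitive Zassenhaus action has no sign homomorphism. -/
theorem hom_sign_trivial [Finite Ω] [IsSimpleGroup G] (hZ : Cfsg.IsZassenhausGroup G Ω)
    (f : G →* ℤˣ) (g : G) : f g = 1 := by
  classical
  have := finite_group hZ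
  rcases IsSimpleGroup.eq_bot_or_eq_top_of_normal f.ker inferInstance with h | h
  · exfalso
    have hinj := (MonoidHom.ker_eq_bot_iff f).1 h
    have h2 := Nat.card_le_card_of_injective f hinj
    simp [Nat.card_eq_fintype_card (α := ℤˣ)] at h2
    obtain ⟨e, -, a, b, hab, -⟩ := hZ.2.2.2.1
    obtain ⟨c, hca, hcb⟩ := exists_third hZ a b
    have := pretransitive hZ
    choose g hg using fun w : Ω => exists_smul_eq G a w
    have hle := Nat.card_le_card_of_injective g fun v w h => by rw [← hg v, h, hg w]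
    have : Fintype Ω := Fintype.ofFinite Ω
    have h3 : 3 ≤ Nat.card Ω := by
      rw [Nat.card_eq_fintype_card]
      exact Fintype.two_lt_card_iff.2 ⟨a, b, c, hab, hca.symm, hcb.symm⟩
    omega
  · exact MonoidHom.mem_ker.1 (h ▸ Subgroup.mem_top g)

section

variable [Finite Ω] (hZ : Cfsg.IsZassenhausGroup G Ω) {a b : Ω} (hab : a ≠ b)
include hZ hab

theorem central_of_orderOf_two {z g : G} (hzD : z ∈ stabilizer G a ⊓ stabilizer G b)
    (hz : orderOf z = 2) (hg : g ∈ setPair a b) : g * z * g⁻¹ = z := by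
  refine (pair_involution_unique hZ hab hzD ?_ hz ((orderOf_conj' g z).trans hz)).symm
  rcases hg with ⟨hga, hgb⟩ | ⟨hga, hgb⟩
  · exact mul_mem (mul_mem (mem_pair_stabilizer.2 ⟨hga, hgb⟩) hzD)
      (inv_mem (mem_pair_stabilizer.2 ⟨hga, hgb⟩))
  · exact swap_conj_mem hga hgb hzD

/-- A swap with a fixed point is centralised in `G_ab` only by the involution. -/
theorem eq_of_commute_swap {i δ z : G} (hzD : z ∈ stabilizer G a ⊓ stabilizer G b)
    (hz : orderOf z = 2) (hia : i • a = b) (hib : i • b = a) {c : Ω} (hic : i • c = c)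
    (hδ : δ ∈ stabilizer G a ⊓ stabilizer G b) (hcomm : i * δ = δ * i) : δ = 1 ∨ δ = z := by
  obtain ⟨hδa, hδb⟩ := mem_pair_stabilizer.1 hδ
  have hca : c ≠ a := fun h => hab (by rw [← hia, ← h, hic])
  have hcb : c ≠ b := fun h => hab (by rw [← hib, ← h, hic])
  by_cases h1 : δ • c = c
  · exact Or.inl (eq_one_of_three hZ hab hcb.symm hca.symm hδa hδb h1)
  have hi1 : i ≠ 1 := fun h => hab (by rw [← hia, h, one_smul])
  have hfix : ∀ w : Ω, i • w = w → i • δ • w = δ • w := fun w hw => by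
    rw [← mul_smul, hcomm, mul_smul, hw]
  have hmem := fixedBy_subset_pair hZ hi1 (Ne.symm h1) hic (hfix c hic) (hfix _ (hfix c hic))
  simp only [Set.mem_insert_iff, Set.mem_singleton_iff] at hmem
  rcases hmem with h | h
  · have h2 : δ * δ = 1 := eq_one_of_three hZ hab hcb.symm hca.symm
      (by rw [mul_smul, hδa, hδa]) (by rw [mul_smul, hδb, hδb]) (by rw [mul_smul, h])
    refine Or.inr (pair_involution_unique hZ hab hδ hzD (orderOf_eq_prime (by rw [pow_two, h2]) ?_) hz)
    exact fun h0 => h1 (by rw [h0, one_smul])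
  · exact absurd (MulAction.injective δ h) h1

omit hab in
/-- An involution with no fixed point is excluded when `|Ω| = 2 (mod 4)`. -/
theorem exists_fixed_of_involution [IsSimpleGroup G] (hn : Nat.card Ω % 4 = 2) {g : G}
    (hg : g * g = 1) : ∃ c : Ω, g • c = c := by
  classical
  have := Fintype.ofFinite Ω
  by_contra! hno
  let φ := MulAction.toPermHom G Ω
  have hsupp : (φ g).support = Finset.univ := by
    ext w; simpa [φ] using hno w
  have hsq : φ g ^ 2 = 1 := by rw [pow_two, ← map_mul, hg, map_one]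
  have h1 := Equiv.Perm.sign_of_cycleType (φ g)
  have h2 : ∀ l ∈ (φ g).cycleType, l = 2 := fun l hl =>
    (Nat.prime_dvd_prime_iff_eq (by
      by_contra hnp
      have hle := Equiv.Perm.two_le_of_mem_cycleType hl
      have hd : l ∣ 2 := (Equiv.Perm.dvd_of_mem_cycleType hl).trans (orderOf_dvd_of_pow_eq_one hsq)
      have := Nat.le_of_dvd (by norm_num) hd
      exact hnp (by rw [show l = 2 by omega]; exact Nat.prime_two)) Nat.prime_two).1
      ((Equiv.Perm.dvd_of_mem_cycleType hl).trans (orderOf_dvd_of_pow_eq_one hsq))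
  obtain ⟨k, hk⟩ : ∃ k, (φ g).cycleType = Multiset.replicate k 2 :=
    ⟨_, Multiset.eq_replicate.2 ⟨rfl, h2⟩⟩
  have hsum := Equiv.Perm.sum_cycleType (φ g)
  rw [hsupp, Finset.card_univ, ← Nat.card_eq_fintype_card, hk, Multiset.sum_replicate,
    smul_eq_mul] at hsum
  rw [hk, Multiset.sum_replicate, Multiset.card_replicate, smul_eq_mul] at h1
  have h3 := hom_sign_trivial hZ (Equiv.Perm.sign.comp φ) g
  rw [MonoidHom.comp_apply, h1, (show Odd (k * 2 + k) by rw [Nat.odd_iff]; omega).neg_one_pow] at h3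
  exact absurd h3 (by decide)

/-- The elements of `G_ab` act transitively on the swaps with two fixed points. -/
theorem swaps_conjugate (hd : Nat.card ↥(stabilizer G a ⊓ stabilizer G b) + 2 = Nat.card Ω)
    (heven : Even (Nat.card ↥(stabilizer G a ⊓ stabilizer G b)))
    {t i : G} (ht : t * t = 1) (hta : t • a = b) (htb : t • b = a) {c : Ω} (htc : t • c = c)
    (hi : i * i = 1) (hia : i • a = b) {e : Ω} (hie : i • e = e) :
    ∃ δ ∈ stabilizer G a ⊓ stabilizer G b, δ * t * δ⁻¹ = i := by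
  classical
  have := finite_group hZ
  set D := stabilizer G a ⊓ stabilizer G b
  let A := {j : G // orderOf j = 2 ∧ Nat.card (fixedBy Ω j) = 2 ∧ j • a = b}
  have hA := two_mul_card_swaps hZ hab heven
  have hord : ∀ j : G, j * j = 1 → j • a = b → orderOf j = 2 := fun j hj hja =>
    orderOf_eq_prime (by rw [pow_two, hj]) fun h => hab (by rw [← hja, h, one_smul])
  have htwo : ∀ (j : G) (w : Ω), j * j = 1 → j • a = b → j • w = w →
      Nat.card (fixedBy Ω j) = 2 := by
    intro j w hj hja hw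
    have h1 := card_fixedBy_mod_two (Ω := Ω) (hord j hj hja)
    have h2 := card_fixedBy_le hZ (g := j) (fun h => hab (by rw [← hja, h, one_smul]))
    have : Nonempty (fixedBy Ω j) := ⟨⟨w, hw⟩⟩
    have h3 : 0 < Nat.card (fixedBy Ω j) := Nat.card_pos
    have := Nat.even_iff.1 (even_card hZ hab heven)
    omega
  obtain ⟨z, hz, hzfix⟩ := exists_pair_involution hZ hab heven hab
  have hzD : z ∈ D := mem_pair_stabilizer.2
    ⟨mem_fixedBy.1 (by rw [hzfix]; exact Set.mem_insert _ _),
     mem_fixedBy.1 (by rw [hzfix]; exact Set.mem_insert_of_mem _ rfl)⟩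
  let f : D → A := fun δ => ⟨(δ : G) * t * (δ : G)⁻¹,
    (orderOf_conj' (δ : G) t).trans (hord t ht hta),
    by rw [card_fixedBy_conj, htwo t c ht hta htc],
    by rw [mul_smul, mul_smul, inv_smul_eq_iff.2 (mem_pair_stabilizer.1 δ.2).1.symm, hta,
      (mem_pair_stabilizer.1 δ.2).2]⟩
  suffices hsurj : Function.Surjective f by
    obtain ⟨δ, hδ⟩ := hsurj ⟨i, hord i hi hia, htwo i e hi hia hie, hia⟩
    exact ⟨δ, δ.2, congrArg Subtype.val hδ⟩
  have := Fintype.ofFinite D
  have := Fintype.ofFinite A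
  have hfib : ∀ y : A, (Finset.univ.filter fun δ => f δ = y).card ≤ 2 := by
    intro y
    rcases (Finset.univ.filter fun δ => f δ = y).eq_empty_or_nonempty with h | ⟨δ₀, hδ₀⟩
    · rw [h]; simp
    refine (Finset.card_le_card (t := {δ₀, δ₀ * ⟨z, hzD⟩}) fun η hη => ?_).trans Finset.card_le_two
    simp only [Finset.mem_filter, Finset.mem_univ, true_and] at hη hδ₀
    have he : (η : G) * t * (η : G)⁻¹ = (δ₀ : G) * t * (δ₀ : G)⁻¹ :=
      congrArg Subtype.val (hη.trans hδ₀.symm)
    have hcomm : t * ((δ₀⁻¹ * η : D) : G) = ((δ₀⁻¹ * η : D) : G) * t := by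
      rw [Subgroup.coe_mul, Subgroup.coe_inv]
      calc t * ((δ₀ : G)⁻¹ * η) = (δ₀ : G)⁻¹ * ((δ₀ : G) * t * (δ₀ : G)⁻¹) * η := by group
        _ = (δ₀ : G)⁻¹ * ((η : G) * t * (η : G)⁻¹) * η := by rw [he]
        _ = _ := by group
    rcases eq_of_commute_swap hZ hab hzD hz hta htb htc (δ₀⁻¹ * η).2 hcomm with h | h
    · rw [Finset.mem_insert]; left
      exact (inv_mul_eq_one.1 (Subtype.ext h : δ₀⁻¹ * η = 1)).symm
    · rw [Finset.mem_insert, Finset.mem_singleton]; right
      exact inv_mul_eq_iff_eq_mul.1 (Subtype.ext h : δ₀⁻¹ * η = ⟨z, hzD⟩)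
  intro y
  by_contra hy
  have hsub : Finset.univ.image f ⊆ Finset.univ.erase y := fun w hw => by
    obtain ⟨δ, -, rfl⟩ := Finset.mem_image.1 hw
    exact Finset.mem_erase.2 ⟨fun h => hy ⟨δ, h⟩, Finset.mem_univ _⟩
  have h1 := Finset.card_le_card hsub
  have h2 := Finset.card_le_mul_card_image (f := f) (Finset.univ) 2 fun w _ => hfib w
  rw [Finset.card_erase_of_mem (Finset.mem_univ y), Finset.card_univ,
    ← Nat.card_eq_fintype_card] at h1
  rw [Finset.card_univ, ← Nat.card_eq_fintype_card] at h2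
  change 2 * Nat.card A = _ at hA
  have : Nonempty A := ⟨y⟩
  have : 0 < Nat.card A := Nat.card_pos
  omega

end

section

variable [Finite Ω] [IsSimpleGroup G] (hZ : Cfsg.IsZassenhausGroup G Ω) {a b : Ω} (hab : a ≠ b)
  (hd : Nat.card ↥(stabilizer G a ⊓ stabilizer G b) + 2 = Nat.card Ω)
  (heven : Even (Nat.card ↥(stabilizer G a ⊓ stabilizer G b)))
include hZ hab hd heven

/-- A character of `G_ab` invariant under a swap with fixed points extends to the stabiliser of the
pair and its transfer to the simple group `G` reproduces it. -/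
theorem invariant_hom_trivial {t : G} (ht : t * t = 1) (hta : t • a = b) (htb : t • b = a)
    {c : Ω} (htc : t • c = c) (χ : ↥(stabilizer G a ⊓ stabilizer G b) →* ℤˣ)
    (hinv : ∀ δ : ↥(stabilizer G a ⊓ stabilizer G b),
      χ ⟨t * δ * t⁻¹, swap_conj_mem hta htb δ.2⟩ = χ δ) : χ = 1 := by
  classical
  have := finite_group hZ
  let W : Subgroup G := setPair a b
  have hti : t⁻¹ = t := inv_eq_of_mul_eq_one_right ht
  have hout : ∀ g : W, (g : G) ∉ (stabilizer G a ⊓ stabilizer G b) → (g : G) • a = b ∧ (g : G) • b = a := fun g hg =>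
    g.2.resolve_left fun h => hg (mem_pair_stabilizer.2 h)
  have hpart : ∀ g : W, (g : G) ∉ (stabilizer G a ⊓ stabilizer G b) → t * g ∈ (stabilizer G a ⊓ stabilizer G b) := fun g hg => mem_pair_stabilizer.2
    ⟨by rw [mul_smul, (hout g hg).1, htb], by rw [mul_smul, (hout g hg).2, hta]⟩
  let ψ₀ : W → ℤˣ := fun g => if h : (g : G) ∈ (stabilizer G a ⊓ stabilizer G b) then χ ⟨g, h⟩ else χ ⟨t * g, hpart g ‹_›⟩
  have hin : ∀ (g : W) (δ : ↥(stabilizer G a ⊓ stabilizer G b)), (g : G) = δ → ψ₀ g = χ δ := fun g δ h => by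
    simp only [ψ₀]
    rw [dif_pos (h ▸ δ.2)]
    exact congrArg χ (Subtype.ext h)
  have hsw : ∀ (g : W) (δ : ↥(stabilizer G a ⊓ stabilizer G b)), (g : G) = t * δ → ψ₀ g = χ δ := fun g δ h => by
    have hn : (g : G) ∉ (stabilizer G a ⊓ stabilizer G b) := fun hh => hab (by
      have := (mem_pair_stabilizer.1 hh).1
      rw [h, mul_smul, (mem_pair_stabilizer.1 δ.2).1, hta] at this
      exact this.symm)
    simp only [ψ₀]
    rw [dif_neg hn]
    exact congrArg χ (Subtype.ext (show t * g = δ by rw [h, ← mul_assoc, ht, one_mul]))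
  have hcases : ∀ g : W, ∃ δ : ↥(stabilizer G a ⊓ stabilizer G b), (g : G) = δ ∨ (g : G) = t * δ := fun g => by
    by_cases h : (g : G) ∈ (stabilizer G a ⊓ stabilizer G b)
    · exact ⟨⟨g, h⟩, Or.inl rfl⟩
    · exact ⟨⟨_, hpart g h⟩, Or.inr (show (g : G) = t * (t * g) by rw [← mul_assoc, ht, one_mul])⟩
  let ψ : W →* ℤˣ := MonoidHom.mk' ψ₀ fun g h => by
    obtain ⟨α, hα⟩ := hcases g
    obtain ⟨β, hβ⟩ := hcases h
    let α' : ↥(stabilizer G a ⊓ stabilizer G b) := ⟨t * α * t⁻¹, swap_conj_mem hta htb α.2⟩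
    have hα' : χ α' = χ α := hinv α
    rcases hα with hα | hα <;> rcases hβ with hβ | hβ
    · rw [hin g α hα, hin h β hβ, hin (g * h) (α * β) (by simp [hα, hβ]), map_mul]
    · rw [hin g α hα, hsw h β hβ, hsw (g * h) (α' * β) ?_, map_mul, hα']
      simp only [Subgroup.coe_mul, hα, hβ, α', hti, ← mul_assoc, ht, one_mul]
    · rw [hsw g α hα, hin h β hβ, hsw (g * h) (α * β) (by simp [hα, hβ, mul_assoc]), map_mul]
    · rw [hsw g α hα, hsw h β hβ, hin (g * h) (α' * β) ?_, map_mul, hα']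
      simp only [Subgroup.coe_mul, hα, hβ, α', hti, ← mul_assoc]
  ext δ : 1
  let V := MonoidHom.transfer ψ
  have hV : V (δ : G) = 1 := hom_sign_trivial hZ V δ
  rw [MonoidHom.one_apply, ← hV]
  have := Fintype.ofFinite (Quotient (orbitRel (Subgroup.zpowers (δ : G)) (G ⧸ W)))
  simp only [V]
  rw [MonoidHom.transfer_eq_prod_quotient_orbitRel_zpowers_quot]
  have hδW : (δ : G) ∈ W := Or.inl (mem_pair_stabilizer.1 δ.2)
  have hbase : (δ : G) • ((1 : G) : G ⧸ W) = ((1 : G) : G ⧸ W) := by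
    change ((((δ : G) * 1 : G)) : G ⧸ W) = _
    rw [QuotientGroup.eq]; simpa using hδW
  let q₀ : Quotient (orbitRel (Subgroup.zpowers (δ : G)) (G ⧸ W)) :=
    Quotient.mk _ ((1 : G) : G ⧸ W)
  have hfixorbit : ∀ g : Subgroup.zpowers (δ : G),
      g • ((1 : G) : G ⧸ W) = ((1 : G) : G ⧸ W) := by
    rintro ⟨_, k, rfl⟩
    change ((((δ : G) ^ k * 1 : G)) : G ⧸ W) = _
    rw [QuotientGroup.eq]; simpa using zpow_mem hδW k
  have hq₀ : q₀.out = ((1 : G) : G ⧸ W) := by
    obtain ⟨g, hg⟩ := Quotient.exact (Quotient.out_eq q₀)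
    rw [← hg]; exact hfixorbit g
  rw [Fintype.prod_eq_single q₀]
  · have hk : Function.minimalPeriod ((δ : G) • ·) q₀.out = 1 := by
      rw [Function.minimalPeriod_eq_one_iff_isFixedPt, hq₀]
      exact hbase
    have hr : q₀.out.out ∈ W := by
      have : ((q₀.out.out : G) : G ⧸ W) = ((1 : G) : G ⧸ W) := by rw [QuotientGroup.out_eq', hq₀]
      rw [QuotientGroup.eq] at this
      simpa using this
    have e : ∀ hm, (⟨q₀.out.out⁻¹ * (δ : G) ^ Function.minimalPeriod ((δ : G) • ·) q₀.out *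
        q₀.out.out, hm⟩ : W) = (⟨_, hr⟩ : W)⁻¹ * ⟨δ, hδW⟩ * ⟨_, hr⟩ := fun hm => by
      apply Subtype.ext
      simp [hk]
    rw [e, map_mul, map_mul, map_inv, mul_comm (ψ _)⁻¹, mul_assoc, inv_mul_cancel, mul_one]
    exact (hin ⟨δ, hδW⟩ δ rfl).symm
  · intro q hq
    set r := q.out.out with hr
    set k := Function.minimalPeriod ((δ : G) • ·) q.out
    have hrW : r ∉ W := fun h => hq (by
      rw [← Quotient.out_eq q, ← show ((r : G) : G ⧸ W) = q.out from QuotientGroup.out_eq' _]
      refine congrArg (Quotient.mk _) ?_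
      rw [QuotientGroup.eq]
      simpa using h)
    have hmemW : r⁻¹ * (δ : G) ^ k * r ∈ W :=
      QuotientGroup.out_conj_pow_minimalPeriod_mem W (δ : G) q.out
    suffices ψ ⟨_, hmemW⟩ = 1 from this
    by_cases h1 : (δ : G) ^ k = 1
    · rw [show (⟨r⁻¹ * (δ : G) ^ k * r, hmemW⟩ : W) = 1 from Subtype.ext (by simp [h1]), map_one]
    obtain ⟨hka, hkb⟩ := mem_pair_stabilizer.1 (pow_mem δ.2 k)
    set h := r⁻¹ * (δ : G) ^ k * r with hh
    have hha : h • r⁻¹ • a = r⁻¹ • a := by rw [hh, mul_smul, mul_smul, smul_inv_smul, hka]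
    have hhb : h • r⁻¹ • b = r⁻¹ • b := by rw [hh, mul_smul, mul_smul, smul_inv_smul, hkb]
    have hne : r⁻¹ • a ≠ r⁻¹ • b := fun e => hab (MulAction.injective r⁻¹ e)
    have hh1 : h ≠ 1 := fun e => h1 (by
      have := congrArg (fun w => r * w * r⁻¹) e
      simpa [hh, mul_assoc] using this)
    have hnotD : h ∉ (stabilizer G a ⊓ stabilizer G b) := fun hhD => by
      obtain ⟨h3, h4⟩ := mem_pair_stabilizer.1 hhD
      refine hrW (inv_mem_iff.1 ?_)
      have e1 := fixedBy_subset_pair hZ hh1 hab h3 h4 hha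
      have e2 := fixedBy_subset_pair hZ hh1 hab h3 h4 hhb
      simp only [Set.mem_insert_iff, Set.mem_singleton_iff] at e1 e2
      rcases e1 with e1 | e1 <;> rcases e2 with e2 | e2
      · exact absurd (e1.trans e2.symm) hne
      · exact Or.inl ⟨e1, e2⟩
      · exact Or.inr ⟨e1, e2⟩
      · exact absurd (e1.trans e2.symm) hne
    obtain ⟨hsa, hsb⟩ := hout ⟨h, hmemW⟩ hnotD
    have hca : r⁻¹ • a ≠ a := fun e => hab (by
      rw [e] at hha; exact hha.symm.trans hsa)
    have hcb : r⁻¹ • a ≠ b := fun e => hab (by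
      rw [e] at hha; exact hsb.symm.trans hha)
    have hinvol : h * h = 1 := eq_one_of_three hZ hab hcb.symm hca.symm
      (by rw [mul_smul, hsa, hsb]) (by rw [mul_smul, hsb, hsa]) (by rw [mul_smul, hha, hha])
    obtain ⟨η, hηD, hη⟩ := swaps_conjugate hZ hab hd heven ht hta htb htc hinvol hsa hha
    have htW : t ∈ W := Or.inr ⟨hta, htb⟩
    have hηW : η ∈ W := Or.inl (mem_pair_stabilizer.1 hηD)
    rw [show (⟨h, hmemW⟩ : W) = ⟨η, hηW⟩ * ⟨t, htW⟩ * (⟨η, hηW⟩ : W)⁻¹ from
      Subtype.ext hη.symm, map_mul, map_mul, map_inv, mul_comm (ψ _), mul_assoc, mul_inv_cancel,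
      mul_one]
    exact (hsw ⟨t, htW⟩ 1 (mul_one t).symm).trans (map_one χ)

/-- `G_ab` has no subgroup of index two. -/
theorem pair_hom_trivial {t : G} (ht : t * t = 1) (hta : t • a = b) (htb : t • b = a)
    {c : Ω} (htc : t • c = c) (χ : ↥(stabilizer G a ⊓ stabilizer G b) →* ℤˣ) : χ = 1 := by
  have hti : t⁻¹ = t := inv_eq_of_mul_eq_one_right ht
  let τ : ↥(stabilizer G a ⊓ stabilizer G b) →* ↥(stabilizer G a ⊓ stabilizer G b) := MonoidHom.mk' (fun δ => ⟨t * δ * t⁻¹, swap_conj_mem hta htb δ.2⟩)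
    fun x y => Subtype.ext (by simp [mul_assoc])
  have hττ : ∀ δ, τ (τ δ) = δ := fun δ => Subtype.ext (by
    simp only [τ, MonoidHom.mk'_apply, hti]
    rw [show t * (t * (δ : G) * t) * t = (t * t) * δ * (t * t) by group, ht, one_mul, mul_one])
  have hprod : χ * χ.comp τ = 1 := invariant_hom_trivial hZ hab hd heven ht hta htb htc _ fun δ => by
    change χ (τ δ) * χ (τ (τ δ)) = χ δ * χ (τ δ)
    rw [hττ, mul_comm]
  refine invariant_hom_trivial hZ hab hd heven ht hta htb htc χ fun δ => ?_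
  have h : χ δ * χ (τ δ) = 1 := congrArg (fun f : ↥(stabilizer G a ⊓ stabilizer G b) →* ℤˣ => f δ) hprod
  change χ (τ δ) = χ δ
  rw [eq_inv_of_mul_eq_one_right h, Int.units_inv_eq_self]

/-- The structure of `G_ab` in the sharply triply transitive case. -/
theorem exists_sharp_datum :
    ∃ z t x : G, z ∈ stabilizer G a ⊓ stabilizer G b ∧ orderOf z = 2 ∧ t * t = 1 ∧ t • a = b ∧
      t • b = a ∧ t * z * t⁻¹ = z ∧ (∃ c : Ω, t • c = c) ∧
      (∀ δ ∈ stabilizer G a ⊓ stabilizer G b, t * δ * t⁻¹ = δ → δ = 1 ∨ δ = z) ∧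
      x ∈ stabilizer G a ⊓ stabilizer G b ∧ t * x * t⁻¹ = x * z ∧
      (∀ y ∈ stabilizer G a ⊓ stabilizer G b, y * y = z →
        y * x * y⁻¹ = x ∨ y * x * y⁻¹ = x * z) ∧
      ∀ χ : ↥(stabilizer G a ⊓ stabilizer G b) →* ℤˣ, χ = 1 := by
  classical
  have := finite_group hZ
  set D := stabilizer G a ⊓ stabilizer G b with hDdef
  obtain ⟨z, hz, hzfix⟩ := exists_pair_involution hZ hab heven hab
  have hzD : z ∈ D := mem_pair_stabilizer.2
    ⟨mem_fixedBy.1 (by rw [hzfix]; exact Set.mem_insert _ _),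
     mem_fixedBy.1 (by rw [hzfix]; exact Set.mem_insert_of_mem _ rfl)⟩
  have hzz : z * z = 1 := by rw [← pow_two, ← hz, pow_orderOf_eq_one]
  have hzW : ∀ g ∈ setPair (G := G) a b, g * z * g⁻¹ = z := fun g hg =>
    central_of_orderOf_two hZ hab hzD hz hg
  have hzc : ∀ g ∈ setPair (G := G) a b, g * z = z * g := fun g hg =>
    mul_inv_eq_iff_eq_mul.1 (hzW g hg)
  -- a swap with two fixed points
  obtain ⟨t, ht, htfix, hta, htb⟩ : ∃ t : G, t * t = 1 ∧ (∃ c : Ω, t • c = c) ∧ t • a = b ∧ t • b = a := by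
    have h1 := two_mul_card_swaps hZ hab heven
    have h2 : 0 < Nat.card ↥D := Nat.card_pos
    obtain ⟨⟨t, ht2, htf, hta⟩⟩ : Nonempty {i : G // orderOf i = 2 ∧ Nat.card (fixedBy Ω i) = 2 ∧ i • a = b} :=
      (Nat.card_pos_iff.1 (by omega)).1
    obtain ⟨⟨c, hc⟩⟩ : Nonempty (fixedBy Ω t) := (Nat.card_pos_iff.1 (by omega)).1
    exact ⟨t, by rw [← pow_two, ← ht2, pow_orderOf_eq_one], ⟨c, hc⟩, hta, swap_of_orderOf_two hZ ht2 hta⟩
  obtain ⟨c, htc⟩ := htfix
  have hti : t⁻¹ = t := inv_eq_of_mul_eq_one_right ht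
  have htW : t ∈ setPair (G := G) a b := Or.inr ⟨hta, htb⟩
  have hDW : ∀ δ ∈ D, δ ∈ setPair (G := G) a b := fun δ hδ => Or.inl (mem_pair_stabilizer.1 hδ)
  have hχ : ∀ χ : D →* ℤˣ, χ = 1 := fun χ => pair_hom_trivial hZ hab hd heven ht hta htb htc χ
  -- `4 ∣ |D|`
  have hn4 : Nat.card Ω % 4 = 2 := by
    by_contra hne
    have := Nat.even_iff.1 heven
    obtain ⟨H, hH⟩ := Involutions.IndexTwo.exists_index_two_of_mod_four (G := ↥D) (by omega)
    have := Subgroup.normal_of_index_eq_two hH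
    have hcard : Nat.card (↥D ⧸ H) = 2 := hH
    have hu : Nat.card ℤˣ = 2 := by simp [Nat.card_eq_fintype_card]
    have : Fact (Nat.Prime 2) := ⟨Nat.prime_two⟩
    obtain ⟨e⟩ : Nonempty ((↥D ⧸ H) ≃* ℤˣ) := ⟨mulEquivOfPrimeCardEq hcard hu⟩
    have h := hχ (e.toMonoidHom.comp (QuotientGroup.mk' H))
    have htop : H = ⊤ := by
      rw [eq_top_iff]
      intro g _
      have := congrArg (fun f : D →* ℤˣ => f g) h
      simp only [MonoidHom.comp_apply, MulEquiv.coe_toMonoidHom, MonoidHom.one_apply,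
        MulEquiv.map_eq_one_iff, QuotientGroup.mk'_apply] at this
      exact (QuotientGroup.eq_one_iff g).1 this
    rw [htop, Subgroup.index_top] at hH
    exact absurd hH (by norm_num)
  -- existence of a twisted element
  have htz2 : (t * z) * (t * z) = 1 := by
    rw [hzc t htW]
    calc z * t * (z * t) = z * (t * z) * t := by group
      _ = z * (z * t) * t := by rw [hzc t htW]
      _ = 1 := by rw [← mul_assoc, hzz, one_mul, ht]
  obtain ⟨e, he⟩ := exists_fixed_of_involution hZ hn4 htz2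
  obtain ⟨x, hxD, hx⟩ := swaps_conjugate hZ hab hd heven ht hta htb htc htz2
    (by rw [mul_smul, (mem_pair_stabilizer.1 hzD).1, hta]) he
  have hxt : t * x * t⁻¹ = x * z := by
    have h1 : x * t = t * z * x := mul_inv_eq_iff_eq_mul.1 hx
    calc t * x * t⁻¹ = t * (x * t) := by rw [hti, mul_assoc]
      _ = z * x := by rw [h1, ← mul_assoc, ← mul_assoc, ht, one_mul]
      _ = x * z := (hzc x (hDW x hxD)).symm
  have hfix : ∀ i : G, i • a = b → i • b = a → (∃ w : Ω, i • w = w) →
      ∀ δ ∈ D, i * δ * i⁻¹ = δ → δ = 1 ∨ δ = z :=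
    fun i hia hib ⟨w, hw⟩ δ hδ h => eq_of_commute_swap hZ hab hzD hz hia hib hw hδ
      (mul_inv_eq_iff_eq_mul.1 h)
  have huniq : ∀ i : G, i • a = b → i • b = a → (∃ w : Ω, i • w = w) →
      ∀ u ∈ D, ∀ v ∈ D, i * u * i⁻¹ = u * z → i * v * i⁻¹ = v * z → v = u ∨ v = u * z := by
    intro i hia hib hw u hu v hv h1 h2
    have h3 : i * (u⁻¹ * v) * i⁻¹ = u⁻¹ * v := by
      calc i * (u⁻¹ * v) * i⁻¹ = (i * u * i⁻¹)⁻¹ * (i * v * i⁻¹) := by group
        _ = (u * z)⁻¹ * (v * z) := by rw [h1, h2]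
        _ = z⁻¹ * ((u⁻¹ * v) * z) := by group
        _ = z⁻¹ * (z * (u⁻¹ * v)) := by rw [hzc _ (hDW _ (mul_mem (inv_mem hu) hv))]
        _ = _ := by group
    rcases hfix i hia hib hw _ (mul_mem (inv_mem hu) hv) h3 with h | h
    · exact Or.inl (inv_mul_eq_one.1 h).symm
    · exact Or.inr (inv_mul_eq_iff_eq_mul.1 h)
  refine ⟨z, t, x, hzD, hz, ht, hta, htb, hzW t htW, ⟨c, htc⟩,
    hfix t hta htb ⟨c, htc⟩, hxD, hxt, ?_, hχ⟩
  intro y hyD hy2
  -- `g = t y` is inverted modulo `⟨z⟩` by both `t` and `y`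
  set Z := Subgroup.zpowers z with hZdef
  have hmemZ : ∀ g, g ∈ Z → g = 1 ∨ g = z := by
    rintro _ ⟨k, rfl⟩
    rcases Int.even_or_odd k with ⟨j, rfl⟩ | ⟨j, rfl⟩
    · left; simp only; rw [← two_mul, zpow_mul, zpow_two, hzz, one_zpow]
    · right; simp only; rw [zpow_add, zpow_mul, zpow_two, hzz, one_zpow, one_mul, zpow_one]
  have hmemZ' : ∀ g, g ∈ Z → g = 1 ∨ z = g := fun g hg => (hmemZ g hg).imp_right Eq.symm
  set g := t * y with hg
  have hgW : g ∈ setPair (G := G) a b := mul_mem htW (hDW y hyD)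
  have hgi : g * g⁻¹ = 1 := mul_inv_cancel g
  have hyt : y * t = z * g⁻¹ := by
    rw [hg, mul_inv_rev, hti, ← hy2]; group
  have htg : t * g * t⁻¹ = z * g⁻¹ := by
    rw [hti, hg, ← hyt, ← mul_assoc, ht, one_mul]
  have hyg : y * g * y⁻¹ = z * g⁻¹ := by rw [hg, ← hyt]; group
  have hpow : ∀ s : G, s * g * s⁻¹ = z * g⁻¹ → ∀ k : ℕ, s * g ^ k * s⁻¹ = z ^ k * (g ^ k)⁻¹ := by
    intro s hs k
    rw [← conj_pow, hs, (show Commute z g⁻¹ from (show Commute z g from (hzc g hgW).symm).inv_right).mul_pow,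
      inv_pow]
  have hex : ∃ k, 0 < k ∧ g ^ k ∈ Z :=
    ⟨orderOf g, orderOf_pos g, by rw [pow_orderOf_eq_one]; exact one_mem Z⟩
  obtain ⟨hk0, hkZ⟩ := Nat.find_spec hex
  set k := Nat.find hex
  have hga : g • a = b ∧ g • b = a := by
    obtain ⟨h1, h2⟩ := mem_pair_stabilizer.1 hyD
    exact ⟨by rw [hg, mul_smul, h1, hta], by rw [hg, mul_smul, h2, htb]⟩
  obtain ⟨j, hj⟩ : Even k := by
    by_contra hodd
    obtain ⟨j, hj⟩ := Nat.not_even_iff_odd.1 hodd
    have h1 : ∀ j : ℕ, g ^ (2 * j + 1) • a = b := by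
      intro j
      induction j with
      | zero => simpa using hga.1
      | succ j ih =>
        rw [show 2 * (j + 1) + 1 = 2 * j + 1 + 1 + 1 by ring, pow_succ, pow_succ, mul_smul,
          mul_smul, hga.1, hga.2]
        exact ih
    rcases hmemZ _ hkZ with h | h <;> have h2 := h1 j <;> rw [← hj, h] at h2
    · exact hab (by rwa [one_smul] at h2)
    · exact hab ((mem_pair_stabilizer.1 hzD).1.symm.trans h2)
  set w := g ^ j with hw
  have hw2 : w * w ∈ Z := by rw [hw, ← pow_add, ← hj]; exact hkZ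
  have hwne : w ∉ Z := fun h => Nat.find_min hex (show j < k by omega) ⟨by omega, h⟩
  have hwW : w ∈ setPair (G := G) a b := pow_mem hgW j
  have hconj : ∀ s : G, s * g * s⁻¹ = z * g⁻¹ → ∃ ζ ∈ Z, s * w * s⁻¹ = w * ζ := by
    intro s hs
    refine ⟨w⁻¹ * (z ^ j * w⁻¹), ?_, by rw [show s * w * s⁻¹ = z ^ j * w⁻¹ from hpow s hs j, mul_inv_cancel_left]⟩
    have e : w⁻¹ * (z ^ j * w⁻¹) = z ^ j * (w * w)⁻¹ := by
      rw [← mul_assoc, ← ((show Commute z w from (hzc w hwW).symm).pow_left j).inv_right.eq]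
      group
    rw [e]
    exact mul_mem (pow_mem (Subgroup.mem_zpowers z) j) (inv_mem hw2)
  obtain ⟨ζt, hζt, htw⟩ := hconj t htg
  obtain ⟨ζy, hζy, hyw⟩ := hconj y hyg
  have hz1 : z ≠ 1 := fun h => by rw [h, orderOf_one] at hz; omega
  -- twisted elements
  have htwist : ∀ u ∈ D, (∃ ζ ∈ Z, t * u * t⁻¹ = u * ζ) → u ∉ Z → u = x ∨ u = x * z := by
    rintro u hu ⟨ζ, hζ, he⟩ hnu
    rcases hmemZ' ζ hζ with rfl | rfl
    · rcases hfix t hta htb ⟨c, htc⟩ u hu (by rw [he, mul_one]) with rfl | rfl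
      · exact absurd (one_mem Z) hnu
      · exact absurd (Subgroup.mem_zpowers u) hnu
    · exact huniq t hta htb ⟨c, htc⟩ x hxD u hu hxt he
  have hdone : y = x ∨ y = x * z → y * x * y⁻¹ = x ∨ y * x * y⁻¹ = x * z := by
    rintro (rfl | rfl)
    · left; group
    · left
      rw [mul_assoc x z x, ← hzc x (hDW x hxD)]; group
  rcases hwW with hwD | ⟨hwa, hwb⟩
  · have hwD' : w ∈ D := mem_pair_stabilizer.2 hwD
    have hcy : ∀ u : G, (∃ ζ ∈ Z, y * u * y⁻¹ = u * ζ) →
        y * u * y⁻¹ = u ∨ y * u * y⁻¹ = u * z := by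
      rintro u ⟨ζ, hζ, he⟩
      rcases hmemZ' ζ hζ with rfl | rfl
      · exact Or.inl (by rw [he, mul_one])
      · exact Or.inr he
    rcases htwist w hwD' ⟨ζt, hζt, htw⟩ hwne with h | h
    · exact hcy x ⟨ζy, hζy, by rw [← h]; exact hyw⟩
    · refine hcy x ⟨ζy, hζy, ?_⟩
      have h1 : y * (x * z) * y⁻¹ = x * z * ζy := by rw [← h]; exact hyw
      have h2 : y * (x * z) * y⁻¹ = y * x * y⁻¹ * z := by
        rw [mul_assoc y, mul_assoc x z, ← hzc y⁻¹ (hDW _ (inv_mem hyD))]; group
      rw [h2] at h1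
      rcases hmemZ' ζy hζy with rfl | rfl
      · simpa using h1
      · exact mul_right_cancel h1
  · -- `w` is an involution with fixed points
    have huD : t * w ∈ D := mem_pair_stabilizer.2
      ⟨by rw [mul_smul, hwa, htb], by rw [mul_smul, hwb, hta]⟩
    have hyt' : y * x * y⁻¹ = x ∨ y * x * y⁻¹ = x * z := by
      by_cases huZ : t * w ∈ Z
      · -- `y` is twisted by `t`
        rcases hmemZ' ζy hζy with rfl | rfl
        · exfalso
          have hcomm : t * y * t⁻¹ = y := by
            have e1 : w = t * (t * w) := by rw [← mul_assoc, ht, one_mul]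
            have e2 : y * w = w * y := by
              rw [mul_one, mul_inv_eq_iff_eq_mul] at hyw; exact hyw
            have e3 : y * (t * w) = (t * w) * y := by
              rcases hmemZ _ huZ with h | h <;> rw [h]
              · rw [one_mul, mul_one]
              · exact hzc y (hDW y hyD)
            have e4 : y * t * (t * w) = t * y * (t * w) := by
              calc y * t * (t * w) = y * w := by rw [mul_assoc, ← e1]
                _ = w * y := e2
                _ = t * ((t * w) * y) := by rw [← mul_assoc t, ← e1]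
                _ = t * y * (t * w) := by rw [← e3, mul_assoc]
            rw [mul_inv_eq_iff_eq_mul]
            exact (mul_right_cancel e4).symm
          rcases hfix t hta htb ⟨c, htc⟩ y hyD hcomm with rfl | rfl
          · exact hz1 (by rw [← hy2, one_mul])
          · exact hz1 (hy2.symm.trans hzz)
        · have e1 : w = t * (t * w) := by rw [← mul_assoc, ht, one_mul]
          have e2 : y * w = w * z * y := by rw [mul_inv_eq_iff_eq_mul] at hyw; exact hyw
          refine hdone (huniq t hta htb ⟨c, htc⟩ x hxD y hyD hxt ?_)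
          have e3 : y * (t * w) = (t * w) * y := by
            rcases hmemZ _ huZ with h | h <;> rw [h]
            · rw [one_mul, mul_one]
            · exact hzc y (hDW y hyD)
          have e4 : y * t * (t * w) = t * z * y * (t * w) := by
            calc y * t * (t * w) = y * w := by rw [mul_assoc, ← e1]
              _ = w * z * y := e2
              _ = t * ((t * w) * z * y) := by simp only [← mul_assoc, ht, one_mul]
              _ = t * (z * ((t * w) * y)) := by rw [hzc _ (hDW _ huD), mul_assoc z]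
              _ = t * z * y * (t * w) := by rw [← e3]; group
          have e5 := mul_right_cancel e4
          rw [hti, mul_assoc, e5, ← mul_assoc, ← mul_assoc, ht, one_mul, hzc y (hDW y hyD)]
      · -- `t w` is twisted by `t` and by `w`
        have htu : t * (t * w) * t⁻¹ = t * w * ζt := by
          calc t * (t * w) * t⁻¹ = t * (t * w * t⁻¹) := by group
            _ = _ := by rw [htw, mul_assoc]
        have hu := htwist _ huD ⟨ζt, hζt, htu⟩ huZ
        have htu' : t * (t * w) * t⁻¹ = t * w * z := by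
          rcases hmemZ' ζt hζt with rfl | rfl
          · exfalso
            rcases hfix t hta htb ⟨c, htc⟩ _ huD (by rw [htu, mul_one]) with h | h
            · exact huZ (h ▸ one_mem Z)
            · exact huZ (h ▸ Subgroup.mem_zpowers z)
          · exact htu
        set u := t * w with hudef
        have hwt : w = t * u := by rw [hudef, ← mul_assoc, ht, one_mul]
        have hxx : x * x = z := by
          have hc : t * (x * x) * t⁻¹ = x * x := by
            calc t * (x * x) * t⁻¹ = (t * x * t⁻¹) * (t * x * t⁻¹) := by group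
              _ = (x * z) * (x * z) := by rw [hxt]
              _ = x * (x * z) * z := by rw [mul_assoc x z, ← hzc _ (hDW _ (mul_mem hxD hzD))]; group
              _ = x * x := by rw [← mul_assoc x x z, mul_assoc (x * x), hzz, mul_one]
          rcases hfix t hta htb ⟨c, htc⟩ _ (mul_mem hxD hxD) hc with h | h
          · exfalso
            by_cases hx1 : x = 1
            · rw [hx1, mul_one, mul_inv_cancel, one_mul] at hxt
              exact hz1 hxt.symm
            · have hxz := pair_involution_unique hZ hab hxD hzD (orderOf_eq_prime (by rw [pow_two, h]) hx1) hz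
              rw [hxz, hzW t htW, hzz] at hxt
              exact hz1 hxt
          · exact h
        have huu : u * u = z := by
          rcases hu with h | h
          · rw [h, hxx]
          · rw [h, mul_assoc x z, ← mul_assoc z x z, ← hzc x (hDW x hxD), mul_assoc x z z, hzz,
              mul_one, hxx]
        have hw1 : w * w = 1 := by
          rw [hwt]
          calc t * u * (t * u) = (t * u * t⁻¹) * u := by rw [hti]; group
            _ = u * z * u := by rw [htu']
            _ = 1 := by rw [mul_assoc, ← hzc u (hDW u huD), ← mul_assoc, huu, hzz]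
        obtain ⟨e, he⟩ := exists_fixed_of_involution hZ hn4 hw1
        have hwu : w * u * w⁻¹ = u * z := by
          rw [hwt]
          calc t * u * u * (t * u)⁻¹ = t * u * t⁻¹ := by group
            _ = u * z := htu'
        have hwy : w * y * w⁻¹ = y * z := by
          rcases hmemZ' ζy hζy with rfl | rfl
          · exfalso
            have hc : w * y * w⁻¹ = y := by
              rw [mul_one, mul_inv_eq_iff_eq_mul] at hyw
              rw [← hyw, mul_inv_cancel_right]
            rcases hfix w hwa hwb ⟨e, he⟩ y hyD hc with rfl | rfl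
            · exact hz1 (by rw [← hy2, one_mul])
            · exact hz1 (hy2.symm.trans hzz)
          · rw [mul_inv_eq_iff_eq_mul] at hyw
            rw [mul_inv_eq_iff_eq_mul, mul_assoc y z, ← hzc w (Or.inr ⟨hwa, hwb⟩), ← mul_assoc, hyw,
              mul_assoc, mul_assoc, hzc y (hDW y hyD)]
            rw [← mul_assoc z z y, hzz, one_mul]
        rcases huniq w hwa hwb ⟨e, he⟩ u huD y hyD hwu hwy with h | h
        · rw [h]
          rcases hu with h' | h' <;> rw [h']
          · left; group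
          · left; rw [mul_assoc x z x, ← hzc x (hDW x hxD)]; group
        · rw [h]
          rcases hu with h' | h' <;> rw [h']
          · left; rw [mul_assoc x z x, ← hzc x (hDW x hxD)]; group
          · left; rw [mul_assoc x z z, hzz, mul_one]; group
    exact hyt'

end

end Cfsg.Agent.Lib.Zassenhaus
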