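import Cfsg.Agent.Lib.Zassenhaus.Basic
import Cfsg.Agent.Lib.Frobenius.Complement
import Cfsg.Agent.Lib.Frobenius.PGroupOdd
import Cfsg.Agent.Lib.Induced.FrobeniusKernel
import Mathlib.GroupTheory.Transfer

/-!
# Two-point stabilisers of Zassenhaus groups

They are Frobenius complements; in odd order they are cyclic and inverted by the elements
interchanging the two points unless some normal complement exists.
-/

set_option autoImplicit false

namespace Cfsg.Agent.Lib.Zassenhaus

open MulAction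
open scoped Pointwise

/-- An automorphism of a finite Z-group of odd order which inverts it modulo the derived subgroup
forces commutativity. -/
theorem commute_of_inverts_mod_commutator {D : Type*} [Group D] [Finite D] [IsZGroup D]
    (hodd : Odd (Nat.card D)) (σ : D ≃* D) (hσ : ∀ x, σ x * x ∈ commutator D) :
    ∀ x y : D, x * y = y * x := by
  have hcyc := IsZGroup.isCyclic_commutator D
  obtain ⟨g, hg⟩ := IsCyclic.exists_generator (α := commutator D)
  have hgen : ∀ y ∈ commutator D, ∃ k : ℤ, (g : D) ^ k = y := fun y hy => by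
    obtain ⟨k, hk⟩ := Subgroup.mem_zpowers_iff.1 (hg ⟨y, hy⟩)
    exact ⟨k, by rw [← Subgroup.coe_zpow, hk]⟩
  have hab : ∀ y ∈ commutator D, ∀ z ∈ commutator D, y * z = z * y := by
    intro y hy z hz
    obtain ⟨i, rfl⟩ := hgen y hy
    obtain ⟨j, rfl⟩ := hgen z hz
    rw [← zpow_add, ← zpow_add, add_comm]
  have hσc : ∀ y ∈ commutator D, σ y ∈ commutator D ∧ σ.symm y ∈ commutator D := by
    intro y hy
    have h1 := Subgroup.map_commutator (⊤ : Subgroup D) ⊤ σ.toMonoidHom
    rw [Subgroup.map_top_of_surjective _ σ.surjective, ← commutator_def] at h1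
    have h2 := Subgroup.map_commutator (⊤ : Subgroup D) ⊤ σ.symm.toMonoidHom
    rw [Subgroup.map_top_of_surjective _ σ.symm.surjective, ← commutator_def] at h2
    exact ⟨h1 ▸ Subgroup.mem_map_of_mem _ hy, h2 ▸ Subgroup.mem_map_of_mem _ hy⟩
  obtain ⟨i, hi⟩ := hgen _ (hσc _ g.2).1
  have hcentral : ∀ d : D, ∀ w ∈ commutator D, d * w = w * d := by
    intro d w hw
    have hn : ∀ (x : D) (y : D), y ∈ commutator D → x * y * x⁻¹ ∈ commutator D :=
      fun x y hy => Subgroup.Normal.conj_mem inferInstance y hy x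
    obtain ⟨j, hj⟩ := hgen _ (hn d g g.2)
    -- conjugation by `σ d` and by `d` agree on the derived subgroup
    have hsame : ∀ y ∈ commutator D, σ d * y * (σ d)⁻¹ = d * y * d⁻¹ := by
      intro y hy
      obtain ⟨k, hk⟩ := hgen _ (hσc y hy).2
      have e1 : y = (g : D) ^ (i * k) := by
        rw [zpow_mul, hi, ← map_zpow, hk, σ.apply_symm_apply]
      have e2 : σ (d * σ.symm y * d⁻¹) = σ d * y * (σ d)⁻¹ := by simp
      rw [← e2, ← hk, ← conj_zpow, ← hj, ← zpow_mul, map_zpow, ← hi, ← zpow_mul]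
      rw [e1, ← conj_zpow, ← hj, ← zpow_mul]
      congr 1
      ring
    set e := σ d * d with he
    have hem : e ∈ commutator D := hσ d
    have h1 := hsame w hw
    have h2 : σ d = e * d⁻¹ := by rw [he]; group
    have h3 : d⁻¹ * w * d ∈ commutator D := by simpa using hn d⁻¹ w hw
    have h4 : σ d * w * (σ d)⁻¹ = d⁻¹ * w * d := by
      rw [h2]
      calc e * d⁻¹ * w * (e * d⁻¹)⁻¹ = e * (d⁻¹ * w * d) * e⁻¹ := by group
        _ = d⁻¹ * w * d := by rw [hab e hem _ h3, mul_inv_cancel_right]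
    have h5 : d ^ 2 * w = w * d ^ 2 := by
      rw [h4] at h1
      calc d ^ 2 * w = d * (d * w * d⁻¹) * d := by rw [pow_two]; group
        _ = d * (d⁻¹ * w * d) * d := by rw [← h1]
        _ = w * d ^ 2 := by rw [pow_two]; group
    obtain ⟨k, hk⟩ := hodd
    have hd : (d ^ 2) ^ (k + 1) = d := by
      rw [← pow_mul, show 2 * (k + 1) = 2 * k + 1 + 1 by ring, pow_succ, ← hk, pow_card_eq_one',
        one_mul]
    rw [← hd]
    exact ((show Commute (d ^ 2) w from h5).pow_left (k + 1)).eq
  intro x y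
  refine (Abelianization.of (G := D)).isMulCommutative_of_isCyclic_of_ker_le_center ?_ |>.is_comm.comm x y
  rw [Abelianization.ker_of]
  intro w hw
  exact Subgroup.mem_center_iff.2 fun d => hcentral d w hw

variable {G Ω : Type*} [Group G] [MulAction G Ω]

/-- The two-point stabiliser as a Frobenius complement in a point stabiliser. -/
theorem pair_isFrobeniusComplement (hZ : Cfsg.IsZassenhausGroup G Ω) {a b : Ω} (hab : a ≠ b) :
    Cfsg.IsFrobeniusComplement
      ((stabilizer G a ⊓ stabilizer G b).subgroupOf (stabilizer G a)) := by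
  rw [Frobenius.isFrobeniusComplement_iff]
  refine ⟨fun h => ?_, fun h => ?_, fun g hg x hx hx' => ?_⟩
  · obtain ⟨l, hl1, hla, hlb⟩ := exists_fix_pair hZ hab
    have hm : (⟨l, mem_stabilizer_iff.2 hla⟩ : stabilizer G a) ∈
        (stabilizer G a ⊓ stabilizer G b).subgroupOf (stabilizer G a) :=
      mem_pair_stabilizer.2 ⟨hla, hlb⟩
    rw [h, Subgroup.mem_bot] at hm
    exact hl1 (congrArg Subtype.val hm)
  · obtain ⟨c, hca, hcb⟩ := exists_third hZ a b
    obtain ⟨g, hga, hgb⟩ := exists_smul_pair hZ hab hca.symm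
    have hm : (⟨g, mem_stabilizer_iff.2 hga⟩ : stabilizer G a) ∈
        (stabilizer G a ⊓ stabilizer G b).subgroupOf (stabilizer G a) := h ▸ Subgroup.mem_top _
    exact hcb (hgb.symm.trans (mem_pair_stabilizer.1 hm).2)
  · obtain ⟨hxa, hxb⟩ := mem_pair_stabilizer.1 hx
    obtain ⟨-, h3⟩ := mem_pair_stabilizer.1 hx'
    have hga : (g : G) • a = a := mem_stabilizer_iff.1 g.2
    have hgb : (g : G) • b ≠ b := fun h => hg (mem_pair_stabilizer.2 ⟨hga, h⟩)
    have hfix : (x : G) • (g : G) • b = (g : G) • b := by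
      change ((g : G)⁻¹ * (x : G) * (g : G)) • b = b at h3
      rw [mul_smul, mul_smul] at h3
      exact inv_smul_eq_iff.1 h3
    exact Subtype.ext (eq_one_of_three hZ hab hgb.symm
      (fun h => hab (MulAction.injective (g : G) (hga.trans h))) hxa hxb hfix)

/-- Transport of a `≤` subgroup. -/
theorem pairEquiv (a b : Ω) : Nonempty
    ((stabilizer G a ⊓ stabilizer G b).subgroupOf (stabilizer G a) ≃*
      (stabilizer G a ⊓ stabilizer G b : Subgroup G)) :=
  ⟨Subgroup.subgroupOfEquivOfLe inf_le_left⟩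

section

variable [Finite Ω] (hZ : Cfsg.IsZassenhausGroup G Ω) {a b : Ω} (hab : a ≠ b)
include hZ hab

/-- A commutative two-point stabiliser is cyclic. -/
theorem pair_isCyclic_of_comm
    (hcomm : ∀ x y : ↥(stabilizer G a ⊓ stabilizer G b), x * y = y * x) :
    IsCyclic ↥(stabilizer G a ⊓ stabilizer G b) := by
  have := finite_group hZ
  obtain ⟨K, hK, -, hc⟩ := Induced.FrobeniusKernel.exists_frobeniusKernel_subgroup
    (pair_isFrobeniusComplement hZ hab)
  obtain ⟨e⟩ := pairEquiv (G := G) a b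
  have : IsMulCommutative (⊤ : Subgroup
      ((stabilizer G a ⊓ stabilizer G b).subgroupOf (stabilizer G a))) :=
    ⟨⟨fun x y => Subtype.ext (e.injective (by simp [hcomm]))⟩⟩
  have := Frobenius.isCyclic_of_commutative_complement (pair_isFrobeniusComplement hZ hab) hc
    (A := ⊤)
  exact isCyclic_of_surjective (Subgroup.topEquiv.trans e) (Subgroup.topEquiv.trans e).surjective

/-- A two-point stabiliser has at most one involution. -/
theorem pair_involution_unique {s t : G} (hs : s ∈ stabilizer G a ⊓ stabilizer G b)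
    (ht : t ∈ stabilizer G a ⊓ stabilizer G b) (hs2 : orderOf s = 2) (ht2 : orderOf t = 2) :
    s = t := by
  have := finite_group hZ
  obtain ⟨K, hK, -, hc⟩ := Induced.FrobeniusKernel.exists_frobeniusKernel_subgroup
    (pair_isFrobeniusComplement hZ hab)
  have h := Frobenius.eq_of_orderOf_eq_two (pair_isFrobeniusComplement hZ hab) hc
    (s := ⟨s, inf_le_left (α := Subgroup G) hs⟩) (t := ⟨t, inf_le_left (α := Subgroup G) ht⟩)
    hs ht (by rwa [Subgroup.orderOf_mk]) (by rwa [Subgroup.orderOf_mk])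
  exact congrArg Subtype.val h

/-- The Sylow subgroups for odd primes of a two-point stabiliser are cyclic. -/
theorem pair_sylow_isCyclic {r : ℕ} [Fact r.Prime] (hr : r ≠ 2)
    (P : Sylow r ↥(stabilizer G a ⊓ stabilizer G b)) : IsCyclic P := by
  have := finite_group hZ
  obtain ⟨K, hK, -, hc⟩ := Induced.FrobeniusKernel.exists_frobeniusKernel_subgroup
    (pair_isFrobeniusComplement hZ hab)
  obtain ⟨e⟩ := pairEquiv (G := G) a b
  let P' : Subgroup ((stabilizer G a ⊓ stabilizer G b).subgroupOf (stabilizer G a)) :=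
    (P : Subgroup _).map e.symm.toMonoidHom
  have hP' : IsPGroup r P' := P.isPGroup'.map _
  have := Frobenius.PGroupOdd.isCyclic_of_unique_prime hP' hr fun x y hx hy =>
    Frobenius.zpowers_eq_of_isPGroup (pair_isFrobeniusComplement hZ hab) hc hP' hx hy
  let f := Subgroup.equivMapOfInjective (P : Subgroup ↥(stabilizer G a ⊓ stabilizer G b)) e.symm.toMonoidHom e.symm.injective
  exact isCyclic_of_surjective f.symm f.symm.surjective

theorem pair_isZGroup (hodd : Odd (Nat.card ↥(stabilizer G a ⊓ stabilizer G b))) :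
    IsZGroup ↥(stabilizer G a ⊓ stabilizer G b) := by
  have := finite_group hZ
  refine ⟨fun r hr P => ?_⟩
  have := Fact.mk hr
  by_cases h2 : r = 2
  · subst h2
    have : (P : Subgroup ↥(stabilizer G a ⊓ stabilizer G b)) = ⊥ := by
      obtain ⟨k, hk⟩ := P.isPGroup'.exists_card_eq
      have hd := Subgroup.card_subgroup_dvd_card (P : Subgroup ↥(stabilizer G a ⊓ stabilizer G b))
      rw [hk] at hd
      rcases Nat.eq_zero_or_pos k with rfl | hk0
      · exact Subgroup.eq_bot_of_card_eq _ (by rw [hk, pow_zero])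
      · exact absurd ((dvd_pow_self 2 hk0.ne').trans hd) hodd.not_two_dvd_nat
    rw [this]
    infer_instance
  · exact pair_sylow_isCyclic hZ hab h2 P

omit [Finite Ω] hZ hab in
/-- Elements interchanging `a` and `b` normalise the two-point stabiliser. -/
theorem swap_conj_mem {s x : G} (hsa : s • a = b) (hsb : s • b = a)
    (hx : x ∈ stabilizer G a ⊓ stabilizer G b) :
    s * x * s⁻¹ ∈ stabilizer G a ⊓ stabilizer G b := by
  obtain ⟨hxa, hxb⟩ := mem_pair_stabilizer.1 hx
  refine mem_pair_stabilizer.2 ⟨?_, ?_⟩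
  · rw [mul_smul, mul_smul, show s⁻¹ • a = b by rw [inv_smul_eq_iff, hsb], hxb, hsb]
  · rw [mul_smul, mul_smul, show s⁻¹ • b = a by rw [inv_smul_eq_iff, hsa], hxa, hsa]

/-- An element normalising a non-trivial subgroup of the two-point stabiliser fixes or
interchanges `a` and `b`. -/
theorem pair_or_swap_of_conj {x g : G} (hx : x ∈ stabilizer G a ⊓ stabilizer G b) (hx1 : x ≠ 1)
    (hg : g * x * g⁻¹ ∈ stabilizer G a ⊓ stabilizer G b) :
    g ∈ stabilizer G a ⊓ stabilizer G b ∨ (g • a = b ∧ g • b = a) := by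
  obtain ⟨hxa, hxb⟩ := mem_pair_stabilizer.1 hx
  obtain ⟨hga, hgb⟩ := mem_pair_stabilizer.1 hg
  have h1 : (g * x * g⁻¹) ≠ 1 := by rwa [Ne, mul_inv_eq_one, mul_eq_left]
  have hsub := fixedBy_subset_pair hZ h1 hab hga hgb
  have ha : g • a ∈ ({a, b} : Set Ω) := hsub (by simp [mul_smul, hxa])
  have hb : g • b ∈ ({a, b} : Set Ω) := hsub (by simp [mul_smul, hxb])
  have hne : g • a ≠ g • b := fun h => hab (MulAction.injective g h)
  simp only [Set.mem_insert_iff, Set.mem_singleton_iff] at ha hb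
  rcases ha with ha | ha <;> rcases hb with hb | hb
  · exact absurd (ha.trans hb.symm) hne
  · exact Or.inl (mem_pair_stabilizer.2 ⟨ha, hb⟩)
  · exact Or.inr ⟨ha, hb⟩
  · exact absurd (ha.trans hb.symm) hne

/-- A two-point stabiliser of odd order without normal `q`-complements in `G` is cyclic and
inverted by every element interchanging the two points. -/
theorem pair_cyclic_inverted (hodd : Odd (Nat.card ↥(stabilizer G a ⊓ stabilizer G b)))
    (hnc : ∀ q : ℕ, q.Prime → q ∣ Nat.card ↥(stabilizer G a ⊓ stabilizer G b) →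
      ¬ ∃ N : Subgroup G, N.Normal ∧ N.index = q ^ (Nat.card G).factorization q) :
    IsCyclic ↥(stabilizer G a ⊓ stabilizer G b) ∧
      ∀ s : G, s • a = b → s • b = a →
        ∀ h ∈ stabilizer G a ⊓ stabilizer G b, s * h * s⁻¹ = h⁻¹ := by
  have := finite_group hZ
  have := pair_isZGroup hZ hab hodd
  set D := stabilizer G a ⊓ stabilizer G b with hD
  -- the automorphism induced by a swap
  have mkσ : ∀ s : G, s • a = b → s • b = a → ∃ σ : D ≃* D, ∀ x : D, (σ x : G) = s * x * s⁻¹ := by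
    intro s hsa hsb
    refine ⟨{ toFun := fun x => ⟨s * x * s⁻¹, swap_conj_mem hsa hsb x.2⟩
              invFun := fun x => ⟨s⁻¹ * x * s, ?_⟩
              left_inv := fun x => Subtype.ext (by simp [mul_assoc])
              right_inv := fun x => Subtype.ext (by simp [mul_assoc])
              map_mul' := fun x y => Subtype.ext (by simp [mul_assoc]) }, fun x => rfl⟩
    have h1 := swap_conj_mem (s := s⁻¹) (a := a) (b := b) (by rw [inv_smul_eq_iff, hsb])
      (by rw [inv_smul_eq_iff, hsa]) x.2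
    rwa [inv_inv] at h1
  have key : ∀ s : G, (hsa : s • a = b) → (hsb : s • b = a) → ∀ x : D,
      (⟨s * x * s⁻¹, swap_conj_mem hsa hsb x.2⟩ : D) * x ∈ commutator D := by
    intro s hsa hsb
    obtain ⟨σ, hσ⟩ := mkσ s hsa hsb
    have hσ' : ∀ x : D, (⟨s * x * s⁻¹, swap_conj_mem hsa hsb x.2⟩ : D) = σ x :=
      fun x => Subtype.ext (hσ x).symm
    simp only [hσ']
    let f : D →* Abelianization D :=
      Abelianization.of.comp σ.toMonoidHom * Abelianization.of
    suffices hker : f.ker = ⊤ by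
      intro x
      have hx : f x = 1 := MonoidHom.mem_ker.1 (hker ▸ Subgroup.mem_top x)
      rw [← Abelianization.ker_of, MonoidHom.mem_ker, map_mul]
      exact hx
    have hD' : commutator D ≤ f.ker := Abelianization.commutator_subset_ker f
    rw [← Subgroup.index_eq_one]
    by_contra hidx
    obtain ⟨r, hr, hrd⟩ := Nat.exists_prime_and_dvd hidx
    have := Fact.mk hr
    have hrD : r ∣ Nat.card D := hrd.trans f.ker.index_dvd_card
    have hrA : ¬ r ∣ Nat.card (commutator D) := fun h => hr.ne_one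
      (Nat.eq_one_of_dvd_coprimes (IsZGroup.coprime_commutator_index D) h
        (hrd.trans (Subgroup.index_dvd_of_le hD')))
    have hr2 : r ≠ 2 := fun h => hodd.not_two_dvd_nat (h ▸ hrD)
    let R : Sylow r D := default
    have hRne : (R : Subgroup D) ≠ ⊥ := R.ne_bot_of_dvd_card hrD
    refine R.not_dvd_index (hrd.trans (Subgroup.index_dvd_of_le (show (R : Subgroup D) ≤ f.ker from ?_)))
    have hRA : ∀ x ∈ (R : Subgroup D), x ∈ commutator D → x = 1 := by
      intro x hx hx'
      obtain ⟨k, hk⟩ := R.isPGroup'.exists_card_eq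
      have h1 := Subgroup.orderOf_dvd_natCard (s := (R : Subgroup D)) hx
      rw [hk] at h1
      obtain ⟨j, -, hj⟩ := (Nat.dvd_prime_pow hr).1 h1
      rcases Nat.eq_zero_or_pos j with rfl | hj0
      · simpa using hj
      · exact absurd ((hj ▸ dvd_pow_self r hj0.ne').trans
          (Subgroup.orderOf_dvd_natCard (s := commutator D) hx')) hrA
    -- `R` is a Sylow subgroup of `G`
    let Q : Subgroup G := (R : Subgroup D).map D.subtype
    have hQp : IsPGroup r Q := R.isPGroup'.map _
    obtain ⟨x₀, hx₀, hx₀1⟩ : ∃ x₀ ∈ Q, x₀ ≠ 1 := by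
      obtain ⟨⟨x, hx⟩, hx1⟩ := Subgroup.ne_bot_iff_exists_ne_one.1 hRne
      exact ⟨x, Subgroup.mem_map_of_mem _ hx, fun h => hx1 (Subtype.ext (Subtype.ext h))⟩
    have hQD : Q ≤ D := Subgroup.map_subtype_le _
    have hnorm : ∀ g ∈ Subgroup.normalizer (Q : Set G), g ∈ D ∨ (g • a = b ∧ g • b = a) :=
      fun g hg => pair_or_swap_of_conj hZ hab (hQD hx₀) hx₀1
        (hQD ((Subgroup.mem_normalizer_iff.1 hg x₀).1 hx₀))
    obtain ⟨P, hQP⟩ := hQp.exists_le_sylow
    have hPD : ∀ g ∈ (P : Subgroup G), g ∈ D → g ∈ Q := by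
      intro g hg hgD
      let L : Subgroup D := (P : Subgroup G).subgroupOf D
      have hL : IsPGroup r L := P.isPGroup'.comap_subtype
      have hRL : (R : Subgroup D) ≤ L := fun z hz => hQP (Subgroup.mem_map_of_mem _ hz)
      have hLR := R.is_maximal' hL hRL
      exact ⟨⟨g, hgD⟩, hLR ▸ (hg : (⟨g, hgD⟩ : D) ∈ L), rfl⟩
    have hPQ : (P : Subgroup G) = Q := by
      by_contra hne
      have hlt : Q.subgroupOf (P : Subgroup G) < ⊤ := lt_top_iff_ne_top.2 fun h =>
        hne (le_antisymm (Subgroup.subgroupOf_eq_top.1 h) hQP)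
      have : Group.IsNilpotent (P : Subgroup G) := P.isPGroup'.isNilpotent
      obtain ⟨⟨g, hgP⟩, hgn, hgQ⟩ :=
        SetLike.exists_of_lt (Group.normalizerCondition_of_isNilpotent _ hlt)
      have hgn' : g ∈ Subgroup.normalizer (Q : Set G) := by
        rw [Subgroup.mem_normalizer_iff]
        intro y
        have hy := Subgroup.mem_normalizer_iff.1 hgn
        refine ⟨fun h => ?_, fun h => ?_⟩
        · exact (hy ⟨y, hQP h⟩).1 h
        · have hyP : y ∈ (P : Subgroup G) := by
            have := mul_mem (mul_mem (inv_mem hgP) (hQP h)) hgP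
            simpa [mul_assoc] using this
          exact (hy ⟨y, hyP⟩).2 h
      rcases hnorm g hgn' with h | ⟨hga, hgb⟩
      · exact hgQ (hPD g hgP h)
      · have h2 : g * g ∈ D := mem_pair_stabilizer.2
          ⟨by rw [mul_smul, hga, hgb], by rw [mul_smul, hgb, hga]⟩
        obtain ⟨k, hk⟩ := P.isPGroup'.exists_card_eq
        obtain ⟨j, hj⟩ : Odd (r ^ k) := (hr.odd_of_ne_two hr2).pow
        have e : (g * g) ^ (j + 1) = g := by
          have h3 : g ^ (2 * j + 1) = 1 := by
            rw [← hj, ← hk]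
            exact congrArg Subtype.val (pow_card_eq_one' (x := (⟨g, hgP⟩ : (P : Subgroup G))))
          rw [← pow_two, ← pow_mul, show 2 * (j + 1) = 2 * j + 1 + 1 by ring, pow_succ, h3, one_mul]
        exact hgQ (hPD g hgP (e ▸ pow_mem h2 _))
    -- some swap acts non-trivially, hence by inversion, on `R`
    obtain ⟨g, hgn, hgD, hgne⟩ : ∃ g ∈ Subgroup.normalizer (Q : Set G), g ∉ D ∧
        ∃ y ∈ Q, g * y * g⁻¹ ≠ y := by
      by_contra! hall
      refine hnc r hr hrD ⟨_, (MonoidHom.transferSylow P ?_).normal_ker, ?_⟩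
      · intro g hg
        rw [Subgroup.mem_centralizer_iff]
        intro y hy
        have hg' : g ∈ Subgroup.normalizer (Q : Set G) := hPQ ▸ hg
        have hy' : y ∈ Q := hPQ ▸ hy
        suffices g * y * g⁻¹ = y from (mul_inv_eq_iff_eq_mul.1 this).symm
        by_cases hgD : g ∈ D
        · have h1 : g * y * g⁻¹ ∈ Q := (Subgroup.mem_normalizer_iff.1 hg' y).1 hy'
          obtain ⟨u, hu, hue⟩ := h1
          obtain ⟨v, hv, rfl⟩ := hy'
          have h2 : u * v⁻¹ = 1 := by
            refine hRA _ (mul_mem hu (inv_mem hv)) ?_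
            have e : u = (⟨g, hgD⟩ : D) * v * (⟨g, hgD⟩ : D)⁻¹ := Subtype.ext hue
            rw [e]
            exact Subgroup.commutator_mem_commutator (Subgroup.mem_top _) (Subgroup.mem_top _)
          rw [mul_inv_eq_one] at h2
          rw [← hue, h2]
        · exact hall g hg' hgD y hy'
      · rw [(MonoidHom.ker_transferSylow_isComplement' P _).symm.index_eq_card,
          P.card_eq_multiplicity]
    obtain ⟨hga, hgb⟩ := (hnorm g hgn).resolve_left hgD
    obtain ⟨y, hy, hyne⟩ := hgne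
    obtain ⟨v, hv, rfl⟩ := hy
    obtain ⟨w, hw⟩ := (pair_sylow_isCyclic hZ hab hr2 R).exists_generator
    have hwgen : ∀ z ∈ (R : Subgroup D), ∃ k : ℤ, (w : D) ^ k = z := fun z hz => by
      obtain ⟨k, hk⟩ := Subgroup.mem_zpowers_iff.1 (hw ⟨z, hz⟩)
      exact ⟨k, by rw [← Subgroup.coe_zpow, hk]⟩
    obtain ⟨z, hz, hze⟩ : g * ((w : D) : G) * g⁻¹ ∈ Q :=
      (Subgroup.mem_normalizer_iff.1 hgn _).1 (Subgroup.mem_map_of_mem D.subtype w.2)
    obtain ⟨k, hk⟩ := hwgen z hz
    have hgw : g * ((w : D) : G) * g⁻¹ = ((w : D) : G) ^ k := by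
      rw [← hze, ← hk]; rfl
    -- `g²` centralises `R`
    have hg2 : (g * g) * ((w : D) : G) * (g * g)⁻¹ = ((w : D) : G) := by
      have hgg : g * g ∈ D := mem_pair_stabilizer.2
          ⟨by rw [mul_smul, hga, hgb], by rw [mul_smul, hgb, hga]⟩
      have h1 : (g * g) * ((w : D) : G) * (g * g)⁻¹ = ((w : D) : G) ^ (k * k) := by
        rw [zpow_mul, ← hgw, conj_zpow, ← hgw]; group
      have h2 : (⟨g * g, hgg⟩ : D) * w * (⟨g * g, hgg⟩ : D)⁻¹ * (w : D)⁻¹ = 1 :=
        hRA _ (mul_mem (by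
          rw [show (⟨g * g, hgg⟩ : D) * w * (⟨g * g, hgg⟩ : D)⁻¹ = (w : D) ^ (k * k) from
            Subtype.ext h1]
          exact zpow_mem w.2 _) (inv_mem w.2))
          (Subgroup.commutator_mem_commutator (Subgroup.mem_top _) (Subgroup.mem_top _))
      exact congrArg Subtype.val (mul_inv_eq_one.1 h2)
    have hwk : ((w : D) : G) ^ (k * k) = (w : D) := by
      rw [zpow_mul, ← hgw, conj_zpow, ← hgw]
      calc g * (g * ((w : D) : G) * g⁻¹) * g⁻¹ = (g * g) * ((w : D) : G) * (g * g)⁻¹ := by group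
        _ = _ := hg2
    obtain ⟨e, he⟩ := R.isPGroup'.exists_card_eq
    have hord : orderOf ((w : D) : G) = r ^ e := by
      rw [← he, Subgroup.orderOf_coe, Subgroup.orderOf_coe]
      exact orderOf_eq_card_of_forall_mem_zpowers hw
    have hdvd : ((r ^ e : ℕ) : ℤ) ∣ (k - 1) * (k + 1) := by
      rw [← hord, orderOf_dvd_iff_zpow_eq_one, show (k - 1) * (k + 1) = k * k + (-1) by ring,
        zpow_add, hwk, zpow_neg_one, mul_inv_cancel]
    have hk1 : ¬ ((r ^ e : ℕ) : ℤ) ∣ k - 1 := by
      rw [← hord, orderOf_dvd_iff_zpow_eq_one, zpow_sub, zpow_one, mul_inv_eq_one]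
      intro h
      obtain ⟨j, rfl⟩ := hwgen v hv
      apply hyne
      rw [D.coe_subtype, Subgroup.coe_zpow, ← conj_zpow, hgw, h]
    have hgw' : g * ((w : D) : G) * g⁻¹ = ((w : D) : G)⁻¹ := by
      rw [hgw, ← mul_eq_one_iff_eq_inv, mul_zpow_self, ← orderOf_dvd_iff_zpow_eq_one, hord,
        Nat.cast_pow]
      rw [Nat.cast_pow] at hdvd hk1
      have hrp : Prime (r : ℤ) := Nat.prime_iff_prime_int.1 hr
      by_cases h1 : (r : ℤ) ∣ k - 1
      · have h2 : ¬ (r : ℤ) ∣ k + 1 := by
          intro h2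
          have h3 : (r : ℤ) ∣ ((2 : ℕ) : ℤ) := by simpa using dvd_sub h2 h1
          exact hr2 ((Nat.prime_dvd_prime_iff_eq hr Nat.prime_two).1 (Int.natCast_dvd_natCast.1 h3))
        exact absurd (((hrp.coprime_iff_not_dvd).2 h2).pow_left.dvd_of_dvd_mul_right hdvd) hk1
      · exact ((hrp.coprime_iff_not_dvd).2 h1).pow_left.dvd_of_dvd_mul_left hdvd
    intro z hz
    obtain ⟨j, rfl⟩ := hwgen z hz
    refine zpow_mem (K := f.ker) ?_ j
    -- `s` differs from `g` by an element of `D`
    have hδ : s * g⁻¹ ∈ D := mem_pair_stabilizer.2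
      ⟨by rw [mul_smul, show g⁻¹ • a = b by rw [inv_smul_eq_iff, hgb], hsb],
       by rw [mul_smul, show g⁻¹ • b = a by rw [inv_smul_eq_iff, hga], hsa]⟩
    have h1 : σ (w : D) = (⟨s * g⁻¹, hδ⟩ : D) * (w : D)⁻¹ * (⟨s * g⁻¹, hδ⟩ : D)⁻¹ := by
      apply Subtype.ext
      simp only [hσ, Subgroup.coe_mul, Subgroup.coe_inv]
      rw [← hgw']
      group
    rw [MonoidHom.mem_ker]
    change Abelianization.of (σ (w : D)) * Abelianization.of (w : D) = 1
    rw [h1, map_mul, map_mul, map_inv, map_inv]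
    rw [mul_comm (Abelianization.of (⟨s * g⁻¹, hδ⟩ : D)), mul_inv_cancel_right, inv_mul_cancel]
  obtain ⟨s₀, -, hs0a, hs0b⟩ := exists_swap hZ hab
  obtain ⟨σ₀, hσ₀⟩ := mkσ s₀ hs0a hs0b
  have hcomm : ∀ x y : D, x * y = y * x :=
    commute_of_inverts_mod_commutator hodd σ₀ fun x => by
      have := key s₀ hs0a hs0b x
      rwa [show (⟨s₀ * x * s₀⁻¹, swap_conj_mem hs0a hs0b x.2⟩ : D) = σ₀ x from
        Subtype.ext (hσ₀ x).symm] at this
  refine ⟨pair_isCyclic_of_comm hZ hab hcomm, fun s hsa hsb h hh => ?_⟩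
  have h1 : commutator D = ⊥ := by
    rw [commutator_def, Subgroup.commutator_eq_bot_iff_le_centralizer]
    exact fun x _ => Subgroup.mem_centralizer_iff.2 fun y _ => hcomm y x
  have h2 := key s hsa hsb ⟨h, hh⟩
  rw [h1, Subgroup.mem_bot] at h2
  exact eq_inv_of_mul_eq_one_left (congrArg Subtype.val h2)

end

end Cfsg.Agent.Lib.Zassenhaus
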